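import Cfsg.Agent.Lib.DihCore.NonCyclic

/-!
# Self-centralising D-groups: the case split

The elementary abelian case and the case of two central involutions are proved; the case of a cyclic
2-part of `A` is taken as a hypothesis in the form of `CyclicBranch`.
-/

set_option autoImplicit false

namespace CfsgLib.DihCore

universe u

/-- The statement of the cyclic branch. -/
def CyclicBranch (G : Type u) [Group G] : Prop :=
  ∀ (A : Subgroup G) (_ : ∀ a ∈ A, ∀ b ∈ A, a * b = b * a) (x : G) (_ : orderOf x = 2) (_ : x ∉ A)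
    (_ : ∀ a ∈ A, x * a * x⁻¹ = a⁻¹) (_ : ∃ a ∈ A, a * a ≠ 1) (t : G) (_ : orderOf t = 2) (_ : t ∈ A)
    (_ : ∀ a ∈ A, a * a = 1 → a = 1 ∨ a = t)
    (_ : Subgroup.centralizer ({t} : Set G) = A ⊔ Subgroup.zpowers x),
    ¬ Group.IsSolvable G → Target G

variable {G : Type u} [Group G] [Finite G]

theorem target_of_dgroup (hcyc : CyclicBranch G) (H A : Subgroup G) (hAH : A < H)
    (hD : ∀ x ∈ H, x ∉ A → x ^ 2 = 1) (h4 : 4 ∣ Nat.card ↥H)
    (hC : ∀ j ∈ H, orderOf j = 2 → (∀ h ∈ H, h * j = j * h) → Subgroup.centralizer ({j} : Set G) = H)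
    (hns : ¬ Group.IsSolvable G) : Target G := by
  haveI : Fact (Nat.Prime 2) := ⟨Nat.prime_two⟩
  obtain ⟨x, hx, hxA⟩ := SetLike.exists_of_lt hAH
  by_cases hel : ∀ h ∈ H, h * h = 1
  · exact target_of_elementary H h4 hel hC hns
  push Not at hel
  obtain ⟨a₀, ha₀H, h₀⟩ := hel
  have ha₀ : a₀ ∈ A := by
    by_contra hc
    exact h₀ (invol_mul_self hD ha₀H hc)
  have hle := hAH.le
  have htwo : ∀ h ∈ H, h ∉ A → ∀ h' ∈ H, h' ∉ A → h * h' ∈ A :=
    fun h hh hhA h' hh' hh'A => mul_mem_of_not_mem hle hD ha₀ h₀ hh hhA hh' hh'A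
  have hx2 := invol_mul_self hD hx hxA
  have hcent : ∀ j ∈ A, j * j = 1 → j ≠ 1 → Subgroup.centralizer ({j} : Set G) = H := by
    intro j hj hj2 hj1
    refine hC j (hle hj) (orderOf_eq_prime (by rw [pow_two]; exact hj2) hj1) fun h hh => ?_
    by_cases hhA : h ∈ A
    · exact comm_of_lt hAH hD hhA hj
    · have := inverts hle hD hh hhA hj
      rw [inv_eq_of_mul_eq_one_right hj2, mul_inv_eq_iff_eq_mul] at this
      exact this
  -- `A` has an involution
  obtain ⟨t, htA, ht2, ht1⟩ : ∃ t ∈ A, t * t = 1 ∧ t ≠ 1 := by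
    have hi : (A.subgroupOf H).index = 2 := by
      rw [Subgroup.index_eq_two_iff]
      refine ⟨⟨x, hx⟩, fun b => ?_⟩
      rw [Subgroup.mem_subgroupOf, Subgroup.mem_subgroupOf, Subgroup.coe_mul]
      by_cases hb : (b : G) ∈ A
      · exact Or.inr ⟨hb, fun hc => hxA ((A.mul_mem_cancel_left hb).1 hc)⟩
      · exact Or.inl ⟨htwo _ b.2 hb _ hx hxA, hb⟩
    have hc := Subgroup.card_mul_index (A.subgroupOf H)
    rw [hi, Nat.card_congr (Subgroup.subgroupOfEquivOfLe hle).toEquiv] at hc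
    have h2 : 2 ∣ Nat.card A := by omega
    obtain ⟨t, ht⟩ := exists_prime_orderOf_dvd_card' (G := A) 2 h2
    refine ⟨t, t.2, ?_, fun e => ?_⟩
    · rw [← Subgroup.coe_mul, ← pow_two, ← ht, pow_orderOf_eq_one]; rfl
    · rw [← Subgroup.orderOf_coe, e, orderOf_one] at ht; omega
  by_cases huni : ∀ a ∈ A, a * a = 1 → a = 1 ∨ a = t
  · refine hcyc A (fun a ha b hb => comm_of_lt hAH hD ha hb) x
      (orderOf_eq_prime (by rw [pow_two]; exact hx2) fun e => hxA (e ▸ A.one_mem)) hxA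
      (fun a ha => inverts hle hD hx hxA ha) ⟨a₀, ha₀, h₀⟩ t
      (orderOf_eq_prime (by rw [pow_two]; exact ht2) ht1) htA huni ?_ hns
    rw [hcent t htA ht2 ht1]
    refine le_antisymm (fun h hh => ?_) (sup_le hle (Subgroup.zpowers_le.2 hx))
    by_cases hhA : h ∈ A
    · exact Subgroup.mem_sup_left hhA
    · have e : h = h * x * x := by rw [mul_assoc, hx2, mul_one]
      rw [e]
      exact Subgroup.mul_mem_sup (htwo h hh hhA x hx hxA) (Subgroup.mem_zpowers x)
  push Not at huni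
  obtain ⟨j, hjA, hj2, hj1, hjt⟩ := huni
  exact NonCyc.target
    { le := hle, xH := hx, xA := hxA
      comm := fun a ha b hb => comm_of_lt hAH hD ha hb
      inv := fun h hh hhA a ha => inverts hle hD hh hhA ha
      sq := fun h hh hhA => invol_mul_self hD hh hhA
      two := htwo
      big := ⟨a₀, ha₀, h₀⟩
      cent := hcent
      j₁A := htA, j₂A := hjA, j₁sq := ht2, j₂sq := hj2, j₁ne := ht1, j₂ne := hj1
      ne := fun e => hjt e.symm } hns

end CfsgLib.DihCore
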