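import Cfsg.Agent.Lib.DihCore.Stable
import Cfsg.Agent.Lib.CyclicTwoInt.Basic
import Cfsg.Agent.Lib.Invol.Dihedral

/-!
Groups with one class of involutions in which the centraliser of an involution is generalised dihedral
with a unique central involution: elementary consequences for all involutions at once.
-/

set_option autoImplicit false

namespace CfsgLib.DihCore

open Subgroup

variable {G : Type*} [Group G]

/-- The consequences used: one class of involutions, two odd elements commuting with the same involution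
commute, a further commuting involution inverts them, and a dihedral Sylow 2-subgroup. -/
structure Cent (G : Type*) [Group G] : Prop where
  one : ∀ x y : G, orderOf x = 2 → orderOf y = 2 → ∃ g : G, g * x * g⁻¹ = y
  comm : ∀ x y y' : G, orderOf x = 2 → Odd (orderOf y) → Odd (orderOf y') →
    y * x = x * y → y' * x = x * y' → y * y' = y' * y
  invert : ∀ x w y : G, orderOf x = 2 → orderOf w = 2 → w ≠ x → w * x = x * w →
    Odd (orderOf y) → y * x = x * y → w * y * w⁻¹ = y⁻¹
  pm : ∀ x y g : G, orderOf x = 2 → Odd (orderOf y) → y * x = x * y → g * x = x * g →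
    g * y * g⁻¹ = y ∨ g * y * g⁻¹ = y⁻¹
  rot : ∀ S : Sylow 2 G, RotLike (S : Subgroup G)

theorem eq_one_of_odd_of_sq {y : G} (hy : Odd (orderOf y)) (h : y * y = 1) : y = 1 := by
  have h2 : orderOf y ∣ 2 := orderOf_dvd_of_pow_eq_one (by rw [pow_two, h])
  exact orderOf_eq_one_iff.1 (Nat.eq_one_of_dvd_coprimes (Nat.coprime_two_right.2 hy) dvd_rfl h2)

theorem orderOf_conj_eq (g x : G) : orderOf (g * x * g⁻¹) = orderOf x := by
  simpa using (MulAut.conj g).orderOf_eq x

/-- The facts at one involution transport to all. -/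
theorem cent_of_gendihedral [Finite G] (t : G) (ht : orderOf t = 2)
    (hone : ∀ x y : G, orderOf x = 2 → orderOf y = 2 → ∃ g : G, g * x * g⁻¹ = y)
    (A : Subgroup G) (hAc : ∀ a ∈ A, ∀ b ∈ A, a * b = b * a) (v : G) (hv : orderOf v = 2)
    (hinv : ∀ a ∈ A, v * a * v⁻¹ = a⁻¹) (hH : centralizer {t} = A ⊔ zpowers v)
    (hcyc : ∀ a ∈ A, a * a = 1 → a = 1 ∨ a = t) (hrot : ∀ S : Sylow 2 G, RotLike (S : Subgroup G)) :
    Cent G := by
  have hvn : zpowers v ≤ normalizer (A : Set G) := zpowers_le.2 (by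
    rw [mem_normalizer_iff]
    intro a
    refine ⟨fun ha => by rw [hinv a ha]; exact inv_mem ha, fun ha => ?_⟩
    have h1 := hinv _ ha
    have h2 : v * a * v⁻¹ = v * (v * a * v⁻¹)⁻¹ * v⁻¹ := by
      rw [← conj_inv, h1, inv_inv]
    have h3 : a = (v * a * v⁻¹)⁻¹ := by
      have := mul_left_cancel (mul_right_cancel h2)
      exact this
    rw [h3]; exact inv_mem ha)
  have hv2 : v * v = 1 := by rw [← pow_two, ← hv, pow_orderOf_eq_one]
  have hmem : ∀ x, x * t = t * x → x ∈ A ∨ ∃ a ∈ A, x = a * v := by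
    intro x hx
    have h1 : x ∈ A ⊔ zpowers v := hH ▸ mem_centralizer_singleton_iff.2 hx
    rw [← SetLike.mem_coe, coe_mul_of_right_le_normalizer_left _ _ hvn] at h1
    obtain ⟨a, ha, y, hy, rfl⟩ := h1
    obtain ⟨k, rfl⟩ := mem_zpowers_iff.1 hy
    rcases Int.even_or_odd k with ⟨l, rfl⟩ | ⟨l, rfl⟩
    · left
      show a * v ^ (l + l) ∈ A
      rw [zpow_add, ← (Commute.refl v).mul_zpow, hv2, one_zpow, mul_one]; exact ha
    · refine Or.inr ⟨a, ha, ?_⟩
      show a * v ^ (2 * l + 1) = a * v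
      rw [zpow_add, zpow_mul, zpow_two, hv2, one_zpow, one_mul, zpow_one]
  have hoddA : ∀ y, Odd (orderOf y) → y * t = t * y → y ∈ A := by
    intro y hy hyt
    rcases hmem y hyt with h | ⟨a, ha, rfl⟩
    · exact h
    · rw [eq_one_of_odd_of_sq hy (by
        calc a * v * (a * v) = a * (v * a * v⁻¹) * (v * v) := by group
          _ = 1 := by rw [hinv a ha, hv2, mul_inv_cancel, one_mul])]
      exact one_mem _
  have hinvt : ∀ w y, orderOf w = 2 → w ≠ t → w * t = t * w → Odd (orderOf y) → y * t = t * y →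
      w * y * w⁻¹ = y⁻¹ := by
    intro w y hw hwt hwc hy hyc
    rcases hmem w hwc with h | ⟨a, ha, rfl⟩
    · rcases hcyc w h (by rw [← pow_two, ← hw, pow_orderOf_eq_one]) with e | e
      · rw [e, orderOf_one] at hw; exact absurd hw (by norm_num)
      · exact absurd e hwt
    · calc a * v * y * (a * v)⁻¹ = a * (v * y * v⁻¹) * a⁻¹ := by group
        _ = a * y⁻¹ * a⁻¹ := by rw [hinv y (hoddA y hy hyc)]
        _ = y⁻¹ := by rw [hAc a ha _ (inv_mem (hoddA y hy hyc)), mul_inv_cancel_right]
  have hconjc : ∀ g x y : G, g * x * g⁻¹ = t → y * x = x * y → g * y * g⁻¹ * t = t * (g * y * g⁻¹) := by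
    intro g x y hg hc
    rw [← hg]
    calc g * y * g⁻¹ * (g * x * g⁻¹) = g * (y * x) * g⁻¹ := by group
      _ = g * (x * y) * g⁻¹ := by rw [hc]
      _ = _ := by group
  refine ⟨hone, fun x y y' hx hy hy' hc hc' => ?_, fun x w y hx hw hne hwx hy hc => ?_,
    fun x y h hx hy hc hhc => ?_, hrot⟩
  · obtain ⟨g, hg⟩ := hone x t hx ht
    have h1 := hAc _ (hoddA _ (by rwa [orderOf_conj_eq]) (hconjc g x y hg hc))
      _ (hoddA _ (by rwa [orderOf_conj_eq]) (hconjc g x y' hg hc'))
    have h2 : g * (y * y') * g⁻¹ = g * (y' * y) * g⁻¹ := by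
      rw [← conj_mul, ← conj_mul]; exact h1
    exact mul_left_cancel (mul_right_cancel h2)
  · obtain ⟨g, hg⟩ := hone x t hx ht
    have h1 := hinvt (g * w * g⁻¹) (g * y * g⁻¹) (by rwa [orderOf_conj_eq])
      (fun e => hne (mul_left_cancel (mul_right_cancel (e.trans hg.symm))))
      (hconjc g x w hg hwx) (by rwa [orderOf_conj_eq]) (hconjc g x y hg hc)
    have h2 : g * (w * y * w⁻¹) * g⁻¹ = g * y⁻¹ * g⁻¹ := by
      calc g * (w * y * w⁻¹) * g⁻¹ = g * w * g⁻¹ * (g * y * g⁻¹) * (g * w * g⁻¹)⁻¹ := by group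
        _ = (g * y * g⁻¹)⁻¹ := h1
        _ = _ := by group
    exact mul_left_cancel (mul_right_cancel h2)
  · obtain ⟨g, hg⟩ := hone x t hx ht
    have hyA := hoddA _ (by rwa [orderOf_conj_eq]) (hconjc g x y hg hc)
    have hkey : g * (h * y * h⁻¹) * g⁻¹ = g * h * g⁻¹ * (g * y * g⁻¹) * (g * h * g⁻¹)⁻¹ := by group
    rcases hmem _ (hconjc g x h hg hhc) with hA | ⟨a, ha, hah⟩
    · left
      rw [hAc _ hA _ hyA, mul_inv_cancel_right] at hkey
      exact mul_left_cancel (mul_right_cancel hkey)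
    · right
      have h2 : g * (h * y * h⁻¹) * g⁻¹ = g * y⁻¹ * g⁻¹ := by
        rw [hkey, hah]
        calc a * v * (g * y * g⁻¹) * (a * v)⁻¹ = a * (v * (g * y * g⁻¹) * v⁻¹) * a⁻¹ := by group
          _ = (g * y * g⁻¹)⁻¹ := by rw [hinv _ hyA, hAc a ha _ (inv_mem hyA), mul_inv_cancel_right]
          _ = _ := by group
      exact mul_left_cancel (mul_right_cancel h2)

variable [Finite G]

/-- Two commuting involutions have no common nontrivial odd element in their centralisers. -/
theorem Cent.eq_of_commute (hC : Cent G) {x w y : G} (hx : orderOf x = 2) (hw : orderOf w = 2)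
    (hwx : w * x = x * w) (hy : Odd (orderOf y)) (hy1 : y ≠ 1) (hcx : y * x = x * y)
    (hcw : y * w = w * y) : w = x := by
  by_contra hne
  have h := hC.invert x w y hx hw hne hwx hy hcx
  rw [← hcw, mul_inv_cancel_right] at h
  refine hy1 (eq_one_of_odd_of_sq hy ?_)
  nth_rewrite 1 [h]
  exact inv_mul_cancel y

/-- Involutions centralising a nontrivial odd element `y` are conjugate in any subgroup containing them, by an
element commuting with `y`. -/
theorem Cent.conj_of_commute (hC : Cent G) (M : Subgroup G) {x w y : G} (hx : orderOf x = 2)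
    (hw : orderOf w = 2) (hxM : x ∈ M) (hwM : w ∈ M) (hy : Odd (orderOf y)) (hy1 : y ≠ 1)
    (hcx : y * x = x * y) (hcw : y * w = w * y) :
    ∃ m ∈ M, m * y = y * m ∧ m * x * m⁻¹ = w := by
  set L := M ⊓ centralizer ({y} : Set G) with hL
  let x' : L := ⟨x, mem_inf.2 ⟨hxM, mem_centralizer_singleton_iff.2 hcx.symm⟩⟩
  let w' : L := ⟨w, mem_inf.2 ⟨hwM, mem_centralizer_singleton_iff.2 hcw.symm⟩⟩
  have hx' : x' ^ 2 = 1 := Subtype.ext (by rw [coe_pow]; exact hx ▸ pow_orderOf_eq_one x)
  have hw' : w' ^ 2 = 1 := Subtype.ext (by rw [coe_pow]; exact hw ▸ pow_orderOf_eq_one w)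
  have hx2 : orderOf x' = 2 := orderOf_eq_prime hx' fun e => by
    rw [show x = ((x' : L) : G) from rfl, e, coe_one, orderOf_one] at hx; exact absurd hx (by norm_num)
  have hw2 : orderOf w' = 2 := orderOf_eq_prime hw' fun e => by
    rw [show w = ((w' : L) : G) from rfl, e, coe_one, orderOf_one] at hw; exact absurd hw (by norm_num)
  obtain ⟨m, hm⟩ : ∃ m : L, m * x' * m⁻¹ = w' := by
    rcases Nat.even_or_odd (orderOf (x' * w')) with heven | hodd
    · exfalso
      set z := (x' * w') ^ (orderOf (x' * w') / 2) with hzdef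
      have hz : orderOf z = 2 := Invol.orderOf_half heven
      have hzx : z * x' = x' * z := Invol.commute_half_left hx2 hw2 heven
      have hzw : z * w' = w' * z := Invol.commute_half_right hx2 hw2 heven
      have hzy : y * (z : G) = z * y := (mem_centralizer_singleton_iff.1 (mem_inf.1 z.2).2).symm
      have hzo : orderOf (z : G) = 2 := by rw [Subgroup.orderOf_coe]; exact hz
      have e1 : (z : G) = x := hC.eq_of_commute hx hzo (congrArg Subtype.val hzx) hy hy1 hcx hzy
      have e2 : (z : G) = w := hC.eq_of_commute hw hzo (congrArg Subtype.val hzw) hy hy1 hcw hzy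
      exact Invol.ne_of_even heven hx2 (Subtype.ext (e1.symm.trans e2))
    · obtain ⟨d, -, hd⟩ := Invol.exists_conj_of_odd hx2 hw2 hodd
      exact ⟨d, hd⟩
  refine ⟨(m : G), (mem_inf.1 m.2).1, mem_centralizer_singleton_iff.1 (mem_inf.1 m.2).2, ?_⟩
  exact congrArg Subtype.val hm

/-- The centraliser of a nontrivial odd element commuting with an involution has cyclic Sylow 2-subgroups. -/
theorem Cent.isCyclic_sylow (hC : Cent G) {t y : G} (ht : orderOf t = 2) (hy : Odd (orderOf y)) (hy1 : y ≠ 1)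
    (P : Sylow 2 ↥(centralizer ({y} : Set G))) : IsCyclic (P : Subgroup ↥(centralizer ({y} : Set G))) := by
  haveI : Fact (Nat.Prime 2) := ⟨Nat.prime_two⟩
  set P' := (P : Subgroup ↥(centralizer ({y} : Set G))).map (centralizer ({y} : Set G)).subtype
  have hP' : IsPGroup 2 P' := P.2.map _
  obtain ⟨S⟩ : Nonempty (Sylow 2 G) := inferInstance
  have hrot : RotLike P' := (hC.rot S).of_sylow hP'
  have hcomm : ∀ a ∈ P', y * a = a * y := by
    rintro _ ⟨a, -, rfl⟩
    exact (mem_centralizer_singleton_iff.1 a.2).symm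
  have hne : ∀ z : G, orderOf z = 2 → z ≠ 1 := fun z hz e => by
    rw [e, orderOf_one] at hz; exact absurd hz (by norm_num)
  have hcyc : IsCyclic P' := by
    refine hrot.isCyclic_of_unique hP' fun a ha b hb hao hbo => ?_
    haveI : Nontrivial P' := ⟨⟨⟨a, ha⟩, 1, fun e => hne a hao (congrArg Subtype.val e)⟩⟩
    haveI := hP'.center_nontrivial
    obtain ⟨k, hk⟩ := IsPGroup.iff_card.1 (hP'.to_subgroup (Subgroup.center P'))
    have h2 : 2 ∣ Nat.card (Subgroup.center P') := by
      rcases Nat.eq_zero_or_pos k with rfl | h0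
      · rw [pow_zero] at hk
        exact absurd hk (Finite.one_lt_card (α := Subgroup.center P')).ne'
      · exact hk ▸ dvd_pow_self 2 h0.ne'
    obtain ⟨z, hz⟩ := exists_prime_orderOf_dvd_card' 2 h2
    have hzo : orderOf ((z : P') : G) = 2 := by rw [Subgroup.orderOf_coe, Subgroup.orderOf_coe]; exact hz
    have key : ∀ c ∈ P', orderOf c = 2 → ((z : P') : G) = c := fun c hc hco =>
      hC.eq_of_commute hco hzo (congrArg Subtype.val ((mem_center_iff.1 z.2) ⟨c, hc⟩)).symm hy hy1
        (hcomm c hc) (hcomm _ (z : P').2)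
    exact (key a ha hao).symm.trans (key b hb hbo)
  exact isCyclic_of_surjective
    ((P : Subgroup ↥(centralizer ({y} : Set G))).equivMapOfInjective _ (subtype_injective _)).symm.toMonoidHom
    (MulEquiv.surjective _)

/-- The centraliser of a nontrivial odd order element is soluble. -/
theorem Cent.isSolvable_centralizer (hC : Cent G) {y : G} (hy : Odd (orderOf y)) (hy1 : y ≠ 1) :
    Group.IsSolvable ↥(centralizer ({y} : Set G)) := by
  haveI : Fact (Nat.Prime 2) := ⟨Nat.prime_two⟩
  rcases Nat.even_or_odd (Nat.card ↥(centralizer ({y} : Set G))) with he | ho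
  · obtain ⟨t, ht⟩ := exists_prime_orderOf_dvd_card' 2 he.two_dvd
    obtain ⟨P⟩ : Nonempty (Sylow 2 ↥(centralizer ({y} : Set G))) := inferInstance
    exact CfsgLib.CyclicTwoInt.isSolvable_of_cyclic_sylow P
      (hC.isCyclic_sylow (t := (t : G)) (by rw [Subgroup.orderOf_coe]; exact ht) hy hy1 P)
  · exact Cfsg.Agent.S0205.result ho

end CfsgLib.DihCore
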