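import Cfsg.Agent.S4481
import Cfsg.Agent.S4482
import Cfsg.Agent.Lib.SmallCent.KleinBounds
import Cfsg.Agent.Lib.SmallCent.CentX
import Cfsg.Agent.Lib.SmallCent.Rows
import Cfsg.Agent.Lib.SmallCent.Reduce

/-!
# No fused overgroup of an involution centraliser with non-trivial core (dihedral Sylow 2-subgroups)

In a simple group with dihedral Sylow 2-subgroups a proper subgroup containing a Sylow 2-subgroup and the
centraliser of a central involution, with a single class of involutions, has index at most five by the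
order formulas; this is impossible when the centraliser has a non-trivial element of odd order.
-/

set_option autoImplicit false

noncomputable section

namespace CfsgLib.DihCore

open Subgroup DihedralGroup
open CfsgLib.Invol (orderOf_conj_eq)

variable {G : Type*} [Group G] [Finite G]

theorem alt_five_orders :
    ∀ g : alternatingGroup (Fin 5), g * g = 1 ∨ g ^ 15 = 1 := by decide +kernel

/-- An element commuting with an involution in a simple group with a subgroup of small index. -/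
theorem false_of_index_le_five [IsSimpleGroup G] (hG : ¬ IsMulCommutative G) {M : Subgroup G}
    (hM : M ≠ ⊤) (hi : M.index ≤ 5) {t y : G} (ht : orderOf t = 2) (hc : Commute t y)
    (hy1 : y ≠ 1) (hy : Odd (orderOf y)) : False := by
  classical
  haveI : Fintype (G ⧸ M) := Fintype.ofFinite _
  have hcard : Fintype.card (G ⧸ M) ≤ Fintype.card (Fin 5) := by
    rw [← Nat.card_eq_fintype_card, Fintype.card_fin]; exact hi
  obtain ⟨emb⟩ := Function.Embedding.nonempty_of_card_le hcard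
  let φ : G →* Equiv.Perm (Fin 5) :=
    (Equiv.Perm.viaEmbeddingHom emb).comp (MulAction.toPermHom G (G ⧸ M))
  have hinj : Function.Injective φ := by
    rw [← MonoidHom.ker_eq_bot_iff]
    rcases (inferInstance : φ.ker.Normal).eq_bot_or_eq_top with h | h
    · exact h
    · exfalso
      apply hM
      rw [eq_top_iff]
      intro g _
      have h1 : φ g = φ 1 := by rw [map_one]; exact MonoidHom.mem_ker.1 (h ▸ mem_top g)
      have h2 := Equiv.Perm.viaEmbeddingHom_injective emb h1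
      have h3 := Equiv.congr_fun h2 ((1 : G) : G ⧸ M)
      rw [map_one] at h3
      change ((g * 1 : G) : G ⧸ M) = _ at h3
      rw [mul_one, Equiv.Perm.one_apply] at h3
      simpa using M.inv_mem (QuotientGroup.eq.1 h3)
  have hsign : ∀ g, Equiv.Perm.sign (φ g) = 1 := by
    intro g
    let ψ : G →* ℤˣ := Equiv.Perm.sign.comp φ
    rcases (inferInstance : ψ.ker.Normal).eq_bot_or_eq_top with h | h
    · exact absurd ⟨⟨fun a b => (MonoidHom.ker_eq_bot_iff ψ).1 h
        (by rw [map_mul, map_mul, mul_comm])⟩⟩ hG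
    · exact MonoidHom.mem_ker.1 (show g ∈ ψ.ker from h ▸ mem_top g)
  let φ' : G →* alternatingGroup (Fin 5) := φ.codRestrict _ fun g => Equiv.Perm.mem_alternatingGroup.2 (hsign g)
  have hinj' : Function.Injective φ' := fun a b h => hinj (congrArg Subtype.val h)
  have ho : orderOf (t * y) = 2 * orderOf y := by
    rw [← ht]
    exact hc.orderOf_mul_eq_mul_orderOf_of_coprime (ht ▸ Nat.coprime_two_left.2 hy)
  rcases alt_five_orders (φ' (t * y)) with h | h
  · have h' : (t * y) ^ 2 = 1 := hinj' (by rw [map_pow, map_one, pow_two]; exact h)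
    have hd := orderOf_dvd_of_pow_eq_one h'
    rw [ho] at hd
    have h1 : orderOf y = 1 := Nat.eq_one_of_dvd_one
      ((Nat.dvd_of_mul_dvd_mul_left (by norm_num) (by simpa using hd : 2 * orderOf y ∣ 2 * 1)))
    exact hy1 (orderOf_eq_one_iff.1 h1)
  · have h' : (t * y) ^ 15 = 1 := hinj' (by rw [map_pow, map_one]; exact h)
    have hd := orderOf_dvd_of_pow_eq_one h'
    rw [ho] at hd
    exact absurd ((dvd_mul_right 2 _).trans hd) (by norm_num)

/-- A subgroup containing the centraliser has the same centraliser orders. -/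
theorem card_centralizer_coe {M : Subgroup G} (s : Set M)
    (h : centralizer (Subtype.val '' s : Set G) ≤ M) :
    Nat.card (centralizer s) = Nat.card (centralizer (Subtype.val '' s : Set G)) := by
  rw [CfsgLib.SmallCent.card_centralizer_subgroup, inf_eq_right.2 h]

/-- The degree in the order formula. -/
theorem exists_ratio {H : Type*} [Group H] [Finite H] (k : ℕ) (hk : 3 ≤ k) (P : Sylow 2 H)
    (e : (P : Subgroup H) ≃* DihedralGroup (2 ^ (k - 1))) (σ τ : H) (hσ : σ ∈ (P : Subgroup H))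
    (hτ : τ ∈ (P : Subgroup H)) (hσo : orderOf σ = 2 ^ (k - 1)) (hτo : orderOf τ = 2)
    (hrel : τ * σ * τ⁻¹ = σ⁻¹) (hgen : closure ({σ, τ} : Set H) = (P : Subgroup H))
    (hconj : IsConj (σ ^ (2 ^ (k - 2))) τ ∧ IsConj (σ ^ (2 ^ (k - 2))) (σ * τ)) :
    ∃ (x : ℕ) (δ : ℤ), (δ = 1 ∨ δ = -1) ∧ (x : ℤ) ≠ δ ∧ (4 : ℤ) ∣ (x : ℤ) - δ ∧
      ((∀ f : H →* ℂˣ, f = 1) → x ≠ 1) ∧
      (Nat.card H : ℚ) * ((x : ℚ) - δ) ^ 2 = 2 * (x : ℚ) * ((x : ℚ) + δ) *
        (Nat.card (centralizer ({σ ^ (2 ^ (k - 2))} : Set H)) : ℚ) ^ 3 *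
        (1 / (Nat.card (centralizer ({σ ^ (2 ^ (k - 2)), τ} : Set H)) : ℚ) +
          1 / (Nat.card (centralizer ({σ ^ (2 ^ (k - 2)), σ * τ} : Set H)) : ℚ)) ^ 2 := by
  obtain ⟨M, hM⟩ := CfsgLib.Blocks.exists_isPModular Nat.prime_two
  obtain ⟨-, χ₁, χ₂, χ₃, χ', δ₁, δ₂, δ₃, hδ, -, -, -, h1, -, -, -, -, -, -, hB, hval, -⟩ :=
    Cfsg.Agent.S4481.result M hM k hk P ⟨e⟩ σ hσ hσo
      (Complex.exp (2 * Real.pi * Complex.I / (2 ^ (k - 1) : ℕ)))
      (Complex.isPrimitiveRoot_exp _ (by positivity))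
  have hmem : χ₁ ∈ Cfsg.principalBlock M H := by rw [hB]; exact Or.inr (Or.inl rfl)
  have hv : ∀ l : ℕ, 0 < l → l < 2 ^ (k - 1) → (χ₁ : H → ℂ) (σ ^ l) = δ₁ := fun l a b => (hval l a b).1
  obtain ⟨hne, hform⟩ := Cfsg.Agent.S4482.result M hM k hk P σ τ hσ hτ hσo hτo hrel hgen hconj χ₁ hmem h1
    δ₁ hδ hv
  refine ⟨_, δ₁, hδ, hne, ?_, fun hlin h => ?_, hform⟩
  · have h4 : 4 * 2 ^ (k - 3) = 2 ^ (k - 1) := by
      rw [show k - 1 = (k - 3) + 2 by omega, pow_add]; ring
    have hq : 0 < 2 ^ (k - 3) := by positivity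
    have hg : orderOf (σ ^ (2 ^ (k - 3))) = 4 := by
      rw [orderOf_pow' _ hq.ne', hσo, ← h4, Nat.gcd_mul_left_left, Nat.mul_div_cancel _ hq]
    exact CfsgLib.SmallCent.four_dvd_degree_sub hg χ₁ (e := δ₁) (f := δ₁) (hv _ hq (by omega))
      (by rw [← pow_mul]; exact hv _ (by omega) (by omega))
  · have hc := CfsgLib.Char.isCharacter_of_isIrr χ₁.2
    have h' : (χ₁ : H → ℂ) 1 = 1 := by rw [← CfsgLib.CharBlocks.coe_charDegree_irr, h]; norm_num
    refine h1 (funext fun g => ?_)
    have := congrArg (fun f : H →* ℂˣ => ((f g : ℂˣ) : ℂ)) (hlin (CfsgLib.Char.linearHom hc h'))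
    simpa [CfsgLib.Char.linearHom_apply] using this

/-- The degree ratio of a simple group and of a fused group. -/
theorem ratio_le {x y : ℕ} {δ ε : ℤ} (hδ : δ = 1 ∨ δ = -1) (hε : ε = 1 ∨ ε = -1) (hxne : (x : ℤ) ≠ δ)
    (hyne : (y : ℤ) ≠ ε) (h4x : (4 : ℤ) ∣ (x : ℤ) - δ) (h4y : (4 : ℤ) ∣ (y : ℤ) - ε) (hx : x ≠ 1)
    {g m K : ℚ} (hK : 0 < K) (hm : 0 < m) (hg : 0 < g)
    (eg : g * ((x : ℚ) - δ) ^ 2 = 2 * (x : ℚ) * ((x : ℚ) + δ) * K)
    (em : m * ((y : ℚ) - ε) ^ 2 = 2 * (y : ℚ) * ((y : ℚ) + ε) * K) : g ≤ 5 * m := by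
  have hg2 : g ≤ (15 / 4) * K := by
    rcases hδ with rfl | rfl
    · have hx5 : 5 ≤ x := by omega
      have hx5' : (5 : ℚ) ≤ x := by exact_mod_cast hx5
      push_cast at eg
      by_contra hlt
      push_neg at hlt
      nlinarith [mul_lt_mul_of_pos_right hlt (by nlinarith : (0 : ℚ) < ((x : ℚ) - 1) ^ 2),
        mul_nonneg hK.le (mul_nonneg (by linarith : (0 : ℚ) ≤ (x : ℚ) - 5) (by linarith : (0 : ℚ) ≤ 7 * (x : ℚ) - 3))]
    · have hx0 : (0 : ℚ) ≤ x := Nat.cast_nonneg x
      push_cast at eg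
      by_contra hlt
      push_neg at hlt
      nlinarith [mul_lt_mul_of_pos_right hlt (by nlinarith : (0 : ℚ) < ((x : ℚ) - (-1)) ^ 2)]
  have hm2 : (3 / 4) * K ≤ m := by
    rcases hε with rfl | rfl
    · have hy5 : 5 ≤ y := by omega
      have hy5' : (5 : ℚ) ≤ y := by exact_mod_cast hy5
      push_cast at em
      by_contra hlt
      push_neg at hlt
      nlinarith [mul_lt_mul_of_pos_right hlt (by nlinarith : (0 : ℚ) < ((y : ℚ) - 1) ^ 2)]
    · rcases Nat.lt_or_ge y 3 with h3 | h3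
      · exfalso
        interval_cases y <;> norm_num at h4y
      · have hy3 : (3 : ℚ) ≤ y := by exact_mod_cast h3
        push_cast at em
        by_contra hlt
        push_neg at hlt
        nlinarith [mul_lt_mul_of_pos_right hlt (by nlinarith : (0 : ℚ) < ((y : ℚ) - (-1)) ^ 2),
          mul_nonneg hK.le (mul_nonneg (by linarith : (0 : ℚ) ≤ (y : ℚ) - 3) (by linarith : (0 : ℚ) ≤ 5 * (y : ℚ) + 1))]
  linarith

/-- The reciprocal sum of a simple group is at least `8/15`. -/
theorem sigma_ge {A B C : ℤ} (hA : Odd A) (hB : Odd B) (hC : Odd C) (h : 1 + A + B + C = 0)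
    (hA1 : A ≠ 1 ∧ A ≠ -1) (hB1 : B ≠ 1 ∧ B ≠ -1) (hC1 : C ≠ 1 ∧ C ≠ -1) :
    (8 : ℚ) / 15 ≤ 1 + 1 / A + 1 / B + 1 / C := by
  have one : ∀ x : ℤ, Odd x → x ≠ -1 → x ≠ 1 → x ≤ -3 ∨ 3 ≤ x := by
    rintro x ⟨i, rfl⟩ h1 h2; omega
  have lo : ∀ x : ℤ, x ≤ -3 ∨ 3 ≤ x → -(1 : ℚ) / 3 ≤ 1 / x := by
    rintro x (h1 | h1)
    · have h1' : (x : ℚ) ≤ -3 := by exact_mod_cast h1
      rw [le_div_iff_of_neg (by linarith)]
      linarith
    · have : (0 : ℚ) ≤ 1 / (x : ℚ) := one_div_nonneg.2 (by exact_mod_cast (by omega : (0 : ℤ) ≤ x))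
      linarith
  have two : ∀ a b c : ℤ, a ≤ -3 → b ≤ -3 → 3 ≤ c → 1 + a + b + c = 0 →
      (8 : ℚ) / 15 ≤ 1 + 1 / a + 1 / b + 1 / c := by
    intro a b c ha hb hc hs
    have ha' : (a : ℚ) ≤ -3 := by exact_mod_cast ha
    have hb' : (b : ℚ) ≤ -3 := by exact_mod_cast hb
    rcases le_or_gt c 5 with h5 | h5
    · obtain ⟨rfl, rfl, rfl⟩ : a = -3 ∧ b = -3 ∧ c = 5 := by omega
      norm_num
    -- one negative entry above `-5`
    have side : ∀ u v : ℤ, u ≤ -3 → -5 < u → v ≤ -5 → 1 + u + v + c = 0 →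
        (8 : ℚ) / 15 ≤ 1 + 1 / u + 1 / v + 1 / c := by
      intro u v hu hu5 hv hs'
      have hv' : (v : ℚ) ≤ -5 := by exact_mod_cast hv
      have hc7 : (7 : ℚ) ≤ c := by exact_mod_cast (by omega : (7 : ℤ) ≤ c)
      have huv : (v : ℚ) + c ≤ 3 := by exact_mod_cast (by omega : v + c ≤ 3)
      have e1 := lo u (Or.inl hu)
      have e2 : -(3 : ℚ) / 35 ≤ 1 / v + 1 / c := by
        rw [show 1 / (v : ℚ) + 1 / c = -((v + c) / (-v * c)) by
          rw [div_add_div _ _ (by linarith : (v : ℚ) ≠ 0) (by linarith : (c : ℚ) ≠ 0), one_mul, mul_one, neg_mul,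
            div_neg, neg_neg, add_comm (c : ℚ)]]
        have hpos : (0 : ℚ) < -v * c := mul_pos (by linarith) (by linarith)
        have : ((v : ℚ) + c) / (-v * c) ≤ 3 / 35 := by
          rw [div_le_div_iff₀ hpos (by norm_num)]
          nlinarith [mul_le_mul (by linarith : (5 : ℚ) ≤ -v) hc7 (by norm_num) (by linarith : (0 : ℚ) ≤ -v)]
        linarith
      linarith
    rcases le_or_gt a (-5) with h | h <;> rcases le_or_gt b (-5) with h' | h'
    · have e1 : -(1 : ℚ) / 5 ≤ 1 / a := by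
        have : (a : ℚ) ≤ -5 := by exact_mod_cast h
        rw [le_div_iff_of_neg (by linarith)]; linarith
      have e2 : -(1 : ℚ) / 5 ≤ 1 / b := by
        have : (b : ℚ) ≤ -5 := by exact_mod_cast h'
        rw [le_div_iff_of_neg (by linarith)]; linarith
      have e3 : (0 : ℚ) ≤ 1 / (c : ℚ) := one_div_nonneg.2 (by exact_mod_cast (by omega : (0 : ℤ) ≤ c))
      linarith
    · have := side b a hb h' h (by linarith); linarith
    · exact side a b ha h h' hs
    · obtain rfl : c = -1 - a - b := by omega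
      have ha2 : a = -3 ∨ a = -4 := by omega
      have hb2 : b = -3 ∨ b = -4 := by omega
      rcases ha2 with rfl | rfl <;> rcases hb2 with rfl | rfl <;> norm_num
  have pos : ∀ x : ℤ, 3 ≤ x → (0 : ℚ) ≤ 1 / (x : ℚ) := fun x hx =>
    one_div_nonneg.2 (by exact_mod_cast (by omega : (0 : ℤ) ≤ x))
  rcases one A hA hA1.2 hA1.1 with a | a <;> rcases one B hB hB1.2 hB1.1 with b | b <;>
    rcases one C hC hC1.2 hC1.1 with c | c
  · omega
  · exact two A B C a b c h
  · have := two A C B a c b (by linarith); linarith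
  · have := lo A (Or.inl a); have := pos B b; have := pos C c; linarith
  · have := two B C A b c a (by linarith); linarith
  · have := lo B (Or.inl b); have := pos A a; have := pos C c; linarith
  · have := lo C (Or.inl c); have := pos A a; have := pos B b; linarith
  · omega

/-- The reciprocal sum is at most `8/3`. -/
theorem sigma_le {A B C : ℤ} (hA : Odd A) (hB : Odd B) (hC : Odd C) (h : 1 + A + B + C = 0) :
    1 + 1 / (A : ℚ) + 1 / B + 1 / C ≤ 8 / 3 := by
  have key : ∀ a b c : ℤ, Odd a → Odd b → Odd c → 1 + a + b + c = 0 → a ≤ b → b ≤ c →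
      1 + 1 / (a : ℚ) + 1 / b + 1 / c ≤ 8 / 3 := by
    intro a b c ha hb hc hs hab hbc
    have hneg : a ≤ -1 := by rcases ha with ⟨i, rfl⟩; omega
    have hone : ∀ x : ℤ, Odd x → 1 / (x : ℚ) ≤ 1 ∧ (x ≠ 1 → 1 / (x : ℚ) ≤ 1 / 3) ∧
        (x < 0 → 1 / (x : ℚ) ≤ 0) := by
      intro x hx
      rcases lt_or_ge x 0 with h0 | h0
      · have h' : 1 / (x : ℚ) < 0 := one_div_neg.2 (by exact_mod_cast h0)
        exact ⟨by linarith, fun _ => by linarith, fun _ => h'.le⟩
      · have h1 : 1 ≤ x := by rcases hx with ⟨i, rfl⟩; omega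
        have h1' : (1 : ℚ) ≤ x := by exact_mod_cast h1
        refine ⟨by rw [div_le_one (by linarith)]; exact h1', fun hne => ?_, fun h => by omega⟩
        have h3 : 3 ≤ x := by rcases hx with ⟨i, rfl⟩; omega
        exact one_div_le_one_div_of_le (by norm_num) (by exact_mod_cast h3)
    obtain ⟨ca, -, na⟩ := hone a ha
    obtain ⟨cb, cb', -⟩ := hone b hb
    obtain ⟨cc, cc', -⟩ := hone c hc
    have := na (by omega)
    by_cases e1 : b = 1
    · by_cases e2 : c = 1
      · obtain rfl : a = -3 := by omega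
        subst e1 e2
        norm_num
      · have := cc' e2; linarith
    · have := cb' e1; linarith
  rcases le_total A B with hab | hab <;> rcases le_total B C with hbc | hbc <;> rcases le_total A C with hac | hac
  all_goals
    first
    | exact key A B C hA hB hC h hab hbc
    | (have := key A C B hA hC hB (by linarith) hac hbc; linarith)
    | (have := key B A C hB hA hC (by linarith) hab hac; linarith)
    | (have := key B C A hB hC hA (by linarith) hbc hac; linarith)
    | (have := key C A B hC hA hB (by linarith) hac hab; linarith)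
    | (have := key C B A hC hB hA (by linarith) hbc hab; linarith)

/-- The order equation for a fused Klein four Sylow subgroup. -/
theorem exists_klein_sigma {L : Type*} [Group L] [Finite L] (P : Sylow 2 L)
    (hP : IsKleinFour (P : Subgroup L)) (hone : ∀ s t : L, orderOf s = 2 → orderOf t = 2 → IsConj s t)
    {J : L} (hJ : J ∈ (P : Subgroup L)) (hJ2 : orderOf J = 2) :
    ∃ σ : ℚ, σ ≤ 8 / 3 ∧ ((∀ f : L →* ℂˣ, f = 1) → 8 / 15 ≤ σ) ∧
      (Nat.card L : ℚ) * (Nat.card (centralizer ((P : Subgroup L) : Set L)) : ℚ) ^ 2 * σ =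
        8 * (Nat.card (centralizer ({J} : Set L)) : ℚ) ^ 3 := by
  classical
  haveI := Fintype.ofFinite L
  obtain ⟨M, hM⟩ := CfsgLib.Blocks.exists_isPModular Nat.prime_two
  haveI := hM.2.1
  obtain ⟨g₀, hg₀, hcard, hnc⟩ := CfsgLib.SmallCent.not_complement_of_one_class P hP hone
  obtain ⟨χ₁, χ₂, χ₃, ε, hε, h1, h2, h12, h13, h23, hB, hval, -, -, -, -⟩ :=
    CfsgLib.Blocks.klein_principal_block hM P hP hone
  obtain ⟨v1, v2, v3⟩ := hval J hJ2
  have h3 : (χ₃ : L → ℂ) ≠ (fun _ => 1) := fun h => by rw [h] at v3; norm_num at v3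
  obtain ⟨hrel, hf⟩ := CfsgLib.Blocks.klein_order_facts hM g₀ hg₀ hcard hnc P hJ hJ2 χ₁ χ₂ χ₃ 1 ε (-1) hB
    ⟨h1, h2, h3, h12, h13, h23⟩ ⟨Or.inl rfl, hε, Or.inr rfl⟩ ⟨by simpa using v1, v2, by simpa using v3⟩
  set A : ℤ := (Cfsg.charDegree (χ₁ : L → ℂ) : ℤ) with hA
  set B : ℤ := ε * (Cfsg.charDegree (χ₂ : L → ℂ) : ℤ) with hB'
  set C : ℤ := -(Cfsg.charDegree (χ₃ : L → ℂ) : ℤ) with hC
  have oA : Odd A := (Int.odd_coe_nat _).2
    (CfsgLib.Blocks.odd_degree_of_value χ₁ hJ2 (Or.inl rfl) (by simpa using v1))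
  have oB : Odd B := by
    have h := (Int.odd_coe_nat _).2 (CfsgLib.Blocks.odd_degree_of_value χ₂ hJ2 hε v2)
    rcases hε with rfl | rfl <;> simpa [hB'] using h
  have oC : Odd C := by
    rw [hC, odd_neg]
    exact (Int.odd_coe_nat _).2 (CfsgLib.Blocks.odd_degree_of_value χ₃ hJ2 (Or.inr rfl) (by simpa using v3))
  have hsum : 1 + A + B + C = 0 := by rw [hA, hB', hC]; linarith
  have eB : (ε : ℚ) / (Cfsg.charDegree (χ₂ : L → ℂ) : ℚ) = 1 / (B : ℚ) := by
    rw [hB']
    rcases hε with rfl | rfl <;> push_cast <;> simp [neg_div, div_neg]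
  have eC : (((-1 : ℤ)) : ℚ) / (Cfsg.charDegree (χ₃ : L → ℂ) : ℚ) = 1 / (C : ℚ) := by
    rw [hC]; push_cast; simp [neg_div, div_neg]
  have eA : (((1 : ℤ)) : ℚ) / (Cfsg.charDegree (χ₁ : L → ℂ) : ℚ) = 1 / (A : ℚ) := by rw [hA]; push_cast; rfl
  rw [eA, eB, eC] at hf
  refine ⟨1 + 1 / A + 1 / B + 1 / C, sigma_le oA oB oC hsum, fun hlin => ?_, by nlinarith⟩
  have key : ∀ χ : Cfsg.IrrCharacter L, (χ : L → ℂ) ≠ (fun _ => 1) → Cfsg.charDegree (χ : L → ℂ) ≠ 1 := by
    intro χ hne h
    have hc := CfsgLib.Char.isCharacter_of_isIrr χ.2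
    have h' : (χ : L → ℂ) 1 = 1 := by rw [← CfsgLib.CharBlocks.coe_charDegree_irr, h]; norm_num
    refine hne (funext fun g => ?_)
    have := congrArg (fun f : L →* ℂˣ => ((f g : ℂˣ) : ℂ)) (hlin (CfsgLib.Char.linearHom hc h'))
    simpa [CfsgLib.Char.linearHom_apply] using this
  have k1 := key χ₁ h1
  have k2 := key χ₂ h2
  have k3 := key χ₃ h3
  refine sigma_ge oA oB oC hsum ⟨?_, ?_⟩ ⟨?_, ?_⟩ ⟨?_, ?_⟩ <;>
    (simp only [hA, hB', hC]; rcases hε with rfl | rfl <;> omega)

/-- **No fused proper overgroup of an involution centraliser with non-trivial odd part.** -/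
theorem no_fused_overgroup [IsSimpleGroup G] (S : Sylow 2 G) (n : ℕ) (hn : 2 ≤ n)
    (e : (S : Subgroup G) ≃* DihedralGroup n) (t : G) (ht : orderOf t = 2) (htS : t ∈ (S : Subgroup G))
    (htZ : ∀ s ∈ (S : Subgroup G), s * t = t * s) (M : Subgroup G) (hM : M ≠ ⊤)
    (hSM : (S : Subgroup G) ≤ M) (hC : centralizer ({t} : Set G) ≤ M)
    (hfus : ∀ x ∈ M, ∀ y ∈ M, orderOf x = 2 → orderOf y = 2 → ∃ m ∈ M, m * x * m⁻¹ = y)
    (hO : ∃ y ∈ centralizer ({t} : Set G), y ≠ 1 ∧ Odd (orderOf y)) : False := by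
  classical
  haveI : Fact (Nat.Prime 2) := ⟨Nat.prime_two⟩
  obtain ⟨y, hyC, hy1, hyo⟩ := hO
  have hyc : Commute t y := (mem_centralizer_singleton_iff.1 hyC).symm
  haveI : NeZero n := ⟨by omega⟩
  obtain ⟨k, hk⟩ := IsPGroup.iff_card.1 S.isPGroup'
  rw [Nat.card_congr e.toEquiv, DihedralGroup.nat_card] at hk
  have hk1 : 1 ≤ k := by
    rcases k with _ | k
    · omega
    · omega
  have hn2 : n = 2 ^ (k - 1) := by
    rw [show k = (k - 1) + 1 by omega, pow_succ] at hk; omega
  have hG : ¬ IsMulCommutative G := by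
    intro h
    have hMn : M.Normal := ⟨fun a ha g => by rw [h.is_comm.comm g a, mul_inv_cancel_right]; exact ha⟩
    rcases hMn.eq_bot_or_eq_top with hb | hb
    · have h1 := hC (mem_centralizer_singleton_iff.2 rfl : t ∈ centralizer ({t} : Set G))
      rw [hb, mem_bot] at h1
      rw [h1, orderOf_one] at ht
      omega
    · exact hM hb
  have hlinG : ∀ f : G →* ℂˣ, f = 1 := by
    intro f
    rcases (inferInstance : f.ker.Normal).eq_bot_or_eq_top with h | h
    · exact absurd ⟨⟨fun a b => (MonoidHom.ker_eq_bot_iff f).1 h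
        (by rw [map_mul, map_mul, mul_comm])⟩⟩ hG
    · exact MonoidHom.ext fun g => MonoidHom.mem_ker.1 (h ▸ mem_top g)
  have htM : t ∈ M := hSM htS
  have honeG : ∀ a b : G, orderOf a = 2 → orderOf b = 2 → IsConj a b := by
    suffices ∀ a : G, orderOf a = 2 → IsConj a t from fun a b ha hb => (this a ha).trans (this b hb).symm
    intro a ha
    obtain ⟨g, hg⟩ := CfsgLib.Invol.exists_mem_sylow_orderOf_two S ha
    obtain ⟨m, -, hm⟩ := hfus _ (hSM hg) t htM (by rw [orderOf_conj_eq]; exact ha) ht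
    exact isConj_iff.2 ⟨m * g, by rw [← hm]; group⟩
  have honeM : ∀ a b : M, orderOf a = 2 → orderOf b = 2 → IsConj a b := by
    intro a b ha hb
    obtain ⟨m, hm, hmab⟩ := hfus _ a.2 _ b.2 (by rw [Subgroup.orderOf_coe]; exact ha)
      (by rw [Subgroup.orderOf_coe]; exact hb)
    exact isConj_iff.2 ⟨⟨m, hm⟩, Subtype.ext hmab⟩
  let SM : Sylow 2 M := S.subtype hSM
  have hSMcoe : (SM : Subgroup M) = (S : Subgroup G).subgroupOf M := rfl
  let eM : (SM : Subgroup M) ≃* (S : Subgroup G) := Subgroup.subgroupOfEquivOfLe hSM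
  have hfin : M.index ≤ 5 → False := fun hi => false_of_index_le_five hG hM hi ht hyc hy1 hyo
  have hidx : (Nat.card G : ℚ) = (M.index : ℚ) * (Nat.card M : ℚ) := by
    exact_mod_cast M.index_mul_card.symm
  have hmpos : (0 : ℚ) < Nat.card M := Nat.cast_pos.2 Nat.card_pos
  rcases Nat.lt_or_ge k 3 with hk3 | hk3
  · -- four-group Sylow subgroups
    obtain rfl : k = 2 := by
      rcases Nat.lt_or_ge k 2 with h | h
      · interval_cases k; omega
      · omega
    obtain rfl : n = 2 := by omega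
    have hK : IsKleinFour (S : Subgroup G) := by
      refine ⟨by rw [Nat.card_congr e.toEquiv, DihedralGroup.nat_card], ?_⟩
      rw [Monoid.exponent_eq_of_mulEquiv e, DihedralGroup.exponent]
      rfl
    have hKM : IsKleinFour (SM : Subgroup M) := by
      refine ⟨by rw [Nat.card_congr eM.toEquiv, hK.card_four], ?_⟩
      rw [Monoid.exponent_eq_of_mulEquiv eM, hK.exponent_two]
    obtain ⟨σG, -, hσG, eG⟩ := exists_klein_sigma S hK honeG htS ht
    obtain ⟨σM, hσM, -, eMq⟩ := exists_klein_sigma SM hKM honeM (J := ⟨t, htM⟩) htS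
      (by rw [← Subgroup.orderOf_coe]; exact ht)
    have c1 : Nat.card (centralizer ({(⟨t, htM⟩ : M)} : Set M)) = Nat.card (centralizer ({t} : Set G)) := by
      have := card_centralizer_coe ({(⟨t, htM⟩ : M)} : Set M) (by rw [Set.image_singleton]; exact hC)
      rwa [Set.image_singleton] at this
    have himg : Subtype.val '' ((SM : Subgroup M) : Set M) = ((S : Subgroup G) : Set G) := by
      ext z
      constructor
      · rintro ⟨w, hw, rfl⟩; exact hw
      · intro hz; exact ⟨⟨z, hSM hz⟩, hz, rfl⟩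
    have c2 : Nat.card (centralizer ((SM : Subgroup M) : Set M)) =
        Nat.card (centralizer ((S : Subgroup G) : Set G)) := by
      have := card_centralizer_coe ((SM : Subgroup M) : Set M) (by
        rw [himg]
        exact (centralizer_le (Set.singleton_subset_iff.2 htS)).trans hC)
      rwa [himg] at this
    rw [c1, c2] at eMq
    rw [hidx] at eG
    have hcpos : (0 : ℚ) < (Nat.card (centralizer ((S : Subgroup G) : Set G)) : ℚ) ^ 2 :=
      pow_pos (Nat.cast_pos.2 Nat.card_pos) 2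
    have h1 : (M.index : ℚ) * σG = σM :=
      mul_left_cancel₀ (mul_pos hmpos hcpos).ne' (by rw [eMq] ; linear_combination eG)
    have h2 : (M.index : ℚ) ≤ 5 := by nlinarith [hσG hlinG, (Nat.cast_nonneg _ : (0 : ℚ) ≤ M.index)]
    exact hfin (by exact_mod_cast h2)
  · -- Sylow subgroups of order at least eight
    have h2k : 2 ^ (k - 1) = 2 * 2 ^ (k - 2) := by rw [show k - 1 = (k - 2) + 1 by omega, pow_succ]; ring
    subst hn2
    set σ : G := (e.symm (r 1) : G) with hσdef
    set τ : G := (e.symm (sr 0) : G) with hτdef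
    have hσo : orderOf σ = 2 ^ (k - 1) := by
      rw [hσdef, Subgroup.orderOf_coe, MulEquiv.orderOf_eq, DihedralGroup.orderOf_r_one]
    have hτo : orderOf τ = 2 := by
      rw [hτdef, Subgroup.orderOf_coe, MulEquiv.orderOf_eq, DihedralGroup.orderOf_sr]
    have hrel : τ * σ * τ⁻¹ = σ⁻¹ := by
      rw [hσdef, hτdef, ← Subgroup.coe_inv, ← Subgroup.coe_inv, ← Subgroup.coe_mul, ← Subgroup.coe_mul,
        ← map_inv, ← map_inv, ← map_mul, ← map_mul]
      congr 2
      simp [inv_sr, inv_r]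
    have hσS : σ ∈ (S : Subgroup G) := SetLike.coe_mem _
    have hτS : τ ∈ (S : Subgroup G) := SetLike.coe_mem _
    have hgen : closure ({σ, τ} : Set G) = (S : Subgroup G) := by
      refine le_antisymm ((closure_le _).2 (Set.insert_subset hσS (Set.singleton_subset_iff.2 hτS))) ?_
      intro s hs
      obtain ⟨d, hd⟩ : ∃ d, (e.symm d : G) = s := ⟨e ⟨s, hs⟩, by simp⟩
      have hr : ∀ i : ZMod (2 ^ (k - 1)), (e.symm (r i) : G) ∈ closure ({σ, τ} : Set G) := fun i => by
        rw [← ZMod.natCast_zmod_val i, ← DihedralGroup.r_one_pow, map_pow, SubmonoidClass.coe_pow]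
        exact pow_mem (subset_closure (Set.mem_insert _ _)) _
      rw [← hd]
      rcases d with i | i
      · exact hr i
      · rw [show (sr i : DihedralGroup (2 ^ (k - 1))) = sr 0 * r i by rw [sr_mul_r, zero_add], map_mul,
          Subgroup.coe_mul]
        exact mul_mem (subset_closure (Set.mem_insert_of_mem _ rfl)) (hr i)
    have hhalf : ∀ j : ℕ, (e.symm (r (j : ZMod (2 ^ (k - 1)))) : G) = σ ^ j := fun j => by
      rw [← DihedralGroup.r_one_pow, map_pow, SubmonoidClass.coe_pow]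
    have htσ : t = σ ^ (2 ^ (k - 2)) := by
      have ht' : ∀ d, e ⟨t, htS⟩ * d = d * e ⟨t, htS⟩ := fun d => by
        obtain ⟨s, rfl⟩ := e.surjective d
        rw [← map_mul, ← map_mul]
        exact congrArg e (Subtype.ext (htZ s s.2).symm)
      rw [← hhalf]
      obtain ⟨d, hd⟩ : ∃ d, d = e ⟨t, htS⟩ := ⟨_, rfl⟩
      have het : t = (e.symm d : G) := by rw [hd, MulEquiv.symm_apply_apply]
      rw [← hd] at ht'
      rw [het]
      rcases d with i | i
      · have h := ht' (sr 0)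
        rw [r_mul_sr, sr_mul_r, sr.injEq] at h
        have h2 : i + i = 0 := by linear_combination h.symm
        have h2' : ((i.val + i.val : ℕ) : ZMod (2 ^ (k - 1))) = 0 := by
          rw [Nat.cast_add, ZMod.natCast_zmod_val]; exact h2
        rw [ZMod.natCast_eq_zero_iff] at h2'
        obtain ⟨c, hc⟩ := h2'
        have hlt := ZMod.val_lt i
        have hc2 : c < 2 := by
          by_contra hge
          push_neg at hge
          have := Nat.mul_le_mul_left (2 ^ (k - 1)) hge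
          omega
        interval_cases c
        · have hi0 : i = 0 := (ZMod.val_eq_zero i).1 (by omega)
          rw [hi0] at het
          rw [← DihedralGroup.one_def, map_one] at het
          rw [het] at ht
          simp at ht
        · have hi : i.val = 2 ^ (k - 2) := by omega
          rw [← hi, ZMod.natCast_zmod_val]
      · exfalso
        have h := ht' (r 1)
        rw [sr_mul_r, r_mul_sr, sr.injEq] at h
        have h2 : ((2 : ℕ) : ZMod (2 ^ (k - 1))) = 0 := by push_cast; linear_combination h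
        rw [ZMod.natCast_eq_zero_iff] at h2
        have := Nat.le_of_dvd (by norm_num) h2
        have : 2 ≤ 2 ^ (k - 2) := Nat.le_self_pow (by omega) 2
        omega
    have hJo : orderOf (σ ^ (2 ^ (k - 2))) = 2 := htσ ▸ ht
    have hστo : orderOf (σ * τ) = 2 := by
      rw [hσdef, hτdef, ← Subgroup.coe_mul, ← map_mul, r_mul_sr, Subgroup.orderOf_coe, MulEquiv.orderOf_eq,
        DihedralGroup.orderOf_sr]
    let σM : M := ⟨σ, hSM hσS⟩
    let τM : M := ⟨τ, hSM hτS⟩
    obtain ⟨x, δ, hδ, hxne, h4x, hx1, eG⟩ := exists_ratio k hk3 S e σ τ hσS hτS hσo hτo hrel hgen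
      ⟨honeG _ _ hJo hτo, honeG _ _ hJo hστo⟩
    obtain ⟨z, ε, hε, hzne, h4z, -, eMq⟩ := exists_ratio k hk3 SM (eM.trans e) σM τM hσS hτS
      (by rw [← Subgroup.orderOf_coe]; exact hσo) (by rw [← Subgroup.orderOf_coe]; exact hτo)
      (Subtype.ext hrel) (by
        apply Subgroup.map_injective M.subtype_injective
        rw [MonoidHom.map_closure, hSMcoe, map_subgroupOf_eq_of_le hSM, ← hgen, Set.image_insert_eq,
          Set.image_singleton]
        rfl)
      ⟨honeM _ _ (by rw [← Subgroup.orderOf_coe]; exact hJo) (by rw [← Subgroup.orderOf_coe]; exact hτo),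
        honeM _ _ (by rw [← Subgroup.orderOf_coe]; exact hJo) (by rw [← Subgroup.orderOf_coe]; exact hστo)⟩
    have hCt : centralizer ({σ ^ (2 ^ (k - 2))} : Set G) ≤ M := htσ ▸ hC
    have c0 : Nat.card (centralizer ({σM ^ (2 ^ (k - 2))} : Set M)) =
        Nat.card (centralizer ({σ ^ (2 ^ (k - 2))} : Set G)) := by
      have := card_centralizer_coe ({σM ^ (2 ^ (k - 2))} : Set M) (by rw [Set.image_singleton]; exact hCt)
      rwa [Set.image_singleton] at this
    have cpair : ∀ w : M, Nat.card (centralizer ({σM ^ (2 ^ (k - 2)), w} : Set M)) =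
        Nat.card (centralizer ({σ ^ (2 ^ (k - 2)), (w : G)} : Set G)) := fun w => by
      have := card_centralizer_coe ({σM ^ (2 ^ (k - 2)), w} : Set M) (by
        rw [Set.image_insert_eq, Set.image_singleton]
        exact (centralizer_le (Set.singleton_subset_iff.2 (Set.mem_insert _ _))).trans hCt)
      rwa [Set.image_insert_eq, Set.image_singleton] at this
    rw [c0, cpair, cpair] at eMq
    have hsum : (0 : ℚ) < 1 / (Nat.card (centralizer ({σ ^ (2 ^ (k - 2)), τ} : Set G)) : ℚ) +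
        1 / (Nat.card (centralizer ({σ ^ (2 ^ (k - 2)), σ * τ} : Set G)) : ℚ) :=
      add_pos (one_div_pos.2 (Nat.cast_pos.2 Nat.card_pos)) (one_div_pos.2 (Nat.cast_pos.2 Nat.card_pos))
    have hcube : (0 : ℚ) < (Nat.card (centralizer ({σ ^ (2 ^ (k - 2))} : Set G)) : ℚ) ^ 3 :=
      pow_pos (Nat.cast_pos.2 Nat.card_pos) 3
    have hle := ratio_le (g := (Nat.card G : ℚ)) (m := (Nat.card M : ℚ)) hδ hε hxne hzne h4x h4z (hx1 hlinG)
      (mul_pos hcube (pow_pos hsum 2)) hmpos
      (Nat.cast_pos.2 Nat.card_pos) (by linear_combination eG) (by linear_combination eMq)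
    rw [hidx] at hle
    exact hfin (by exact_mod_cast le_of_mul_le_mul_right hle hmpos)

end CfsgLib.DihCore
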