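import Cfsg.Agent.Lib.DihCore.Fusion
import Cfsg.Agent.Lib.DihCore.Index
import Cfsg.Agent.Lib.Cores.Balance
import Cfsg.Agent.Lib.Cores.SignalizerConnected
import Cfsg.Agent.S0217
import Cfsg.Agent.S0508

/-!
A simple group with one class of involutions whose involution centralisers are generalised dihedral with
a unique central involution and whose Sylow 2-subgroups are dihedral is `PSL(2, q)`, `q` odd: the odd elements
of an involution centraliser have their centralisers inside it.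
-/

set_option autoImplicit false

namespace CfsgLib.DihCore

open Subgroup Cfsg CfsgLib.PStab

variable {G : Type*} [Group G] [Finite G] {p : ℕ} [hp : Fact p.Prime] {S : Sylow 2 G} {t v z : G}
  {R : Subgroup G}

theorem Cfg.odd_orderOf (hc : Cfg p S t v z R) (hp2 : p ≠ 2) : Odd (orderOf z) :=
  hc.hz ▸ hp.out.odd_of_ne_two hp2

theorem Cfg.z_mem_zjGen (hc : Cfg p S t v z R) : z ∈ zjGen 0 R := by
  obtain ⟨B, hB⟩ := maxAdm_nonempty 0 R
  refine mem_inf.2 ⟨le_jGen hB (mem_of_commute_maxAdm (p := p) (Or.inl rfl) hB hc.hzR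
    (hc.hz ▸ pow_orderOf_eq_one z) fun a ha => (hc.hzc a (hB.1 ha)).symm), ?_⟩
  exact mem_centralizer_iff.2 fun h hh => hc.hzc h (jGen_le 0 R hh)

theorem Cfg.hR_ne_bot (hc : Cfg p S t v z R) : R ≠ ⊥ := fun e => hc.hnot (e ▸ bot_le)

/-- The elements of order dividing `p` in `Z(J(R))`. -/
def omegaZJ (p : ℕ) (R : Subgroup G) : Subgroup G where
  carrier := {x | x ∈ zjGen 0 R ∧ x ^ p = 1}
  one_mem' := ⟨one_mem _, one_pow _⟩
  mul_mem' {a b} ha hb := ⟨mul_mem ha.1 hb.1, by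
    rw [(show Commute a b from zjGen_comm ha.1 hb.1).mul_pow, ha.2, hb.2, one_mul]⟩
  inv_mem' {a} ha := ⟨inv_mem ha.1, by rw [inv_pow, ha.2, inv_one]⟩

/-- `Ω₁(Z(J(R)))` has rank at least three. -/
theorem Cfg.rank_three (hC : Cent G) (hc : Cfg p S t v z R) (hp2 : p ≠ 2) {n : ℕ} (hn : 2 ≤ n)
    (e : (S : Subgroup G) ≃* DihedralGroup n) : p ^ 3 ≤ Nat.card (omegaZJ p R) := by
  set K := normalizer (zjGen 0 R : Set G)
  have htv : t * v ∈ (S : Subgroup G) := mul_mem hc.htS hc.hvS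
  have hvt : v * t = t * v := hc.htZ v hc.hvS
  have hto : orderOf (t * v) = 2 := by
    refine orderOf_eq_prime ?_ fun e1 => hc.hvt ?_
    · rw [(show Commute t v from hvt.symm).mul_pow, ← hc.ht, pow_orderOf_eq_one, one_mul,
        hc.ht, ← hc.hv, pow_orderOf_eq_one]
    · calc v = t * (t * v) := by rw [← mul_assoc, Invol.mul_self_of_orderOf_two hc.ht, one_mul]
        _ = t := by rw [e1, mul_one]
  have hmove : ∀ x ∈ (S : Subgroup G), orderOf x = 2 →
      ∃ y, y ∈ omegaZJ p R ∧ orderOf y = p ∧ y * x = x * y := by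
    intro x hxS hx
    obtain ⟨k, hk, hkx⟩ := hc.fused hC hp2 hn e hxS hx
    refine ⟨k * z * k⁻¹, ⟨(mem_normalizer_iff.1 hk z).1 hc.z_mem_zjGen, ?_⟩,
      by rw [orderOf_conj_eq]; exact hc.hz, ?_⟩
    · rw [conj_pow, ← hc.hz, pow_orderOf_eq_one]; group
    · rw [← hkx, conj_mul, conj_mul, hc.hzt]
  obtain ⟨zv, hzvA, hzvo, hzvc⟩ := hmove v hc.hvS hc.hv
  obtain ⟨zw, hzwA, hzwo, hzwc⟩ := hmove (t * v) htv hto
  letI : CommGroup (omegaZJ p R) :=
    { (inferInstance : Group (omegaZJ p R)) with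
      mul_comm := fun a b => Subtype.ext (zjGen_comm a.2.1 b.2.1) }
  let Z : omegaZJ p R := ⟨z, hc.z_mem_zjGen, by rw [← hc.hz, pow_orderOf_eq_one]⟩
  let V : omegaZJ p R := ⟨zv, hzvA⟩
  let W : omegaZJ p R := ⟨zw, hzwA⟩
  let φ : ↥(zpowers Z) × (↥(zpowers V) × ↥(zpowers W)) →* omegaZJ p R :=
    (zpowers Z).subtype.coprod ((zpowers V).subtype.coprod (zpowers W).subtype)
  have hφ : Function.Injective φ := by
    rw [injective_iff_map_eq_one]
    rintro ⟨⟨a, ha⟩, ⟨b, hb⟩, ⟨c, hc'⟩⟩ h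
    have hodd : ∀ x : omegaZJ p R, Odd (orderOf (x : G)) := fun x =>
      (hp.out.odd_of_ne_two hp2).of_dvd_nat (orderOf_dvd_of_pow_eq_one x.2.2)
    have hcom : ∀ (x y : omegaZJ p R) (g : G), (x : G) * g = g * x → y ∈ zpowers x →
        (y : G) * g = g * y := by
      intro x y g hg hy
      obtain ⟨i, rfl⟩ := mem_zpowers_iff.1 hy
      rw [Subgroup.coe_zpow]
      exact (show Commute (x : G) g from hg).zpow_left i
    have hat := hcom Z a t hc.hzt ha
    have hbv := hcom V b v hzvc hb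
    have hcw := hcom W c (t * v) hzwc hc'
    have habc : (a : G) * ((b : G) * c) = 1 := congrArg Subtype.val h
    have hb' : t * (b : G) * t⁻¹ = (b : G)⁻¹ :=
      hC.invert v t b hc.hv hc.ht hc.hvt.symm hvt.symm (hodd b) hbv
    have hc'' : t * (c : G) * t⁻¹ = (c : G)⁻¹ := by
      refine hC.invert (t * v) t c hto hc.ht (fun e1 => ?_) ?_ (hodd c) hcw
      · exact Invol.ne_one_of_orderOf_two hc.hv (mul_eq_left.1 e1.symm)
      · rw [mul_assoc t v t, hvt]
    have h2 : (a : G) * ((b : G)⁻¹ * (c : G)⁻¹) = 1 := by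
      have h3 : t * ((a : G) * ((b : G) * c)) * t⁻¹ = 1 := by rw [habc, mul_one, mul_inv_cancel]
      rw [← conj_mul, ← conj_mul, hb', hc'', show t * (a : G) * t⁻¹ = a by
        rw [← hat, mul_inv_cancel_right]] at h3
      exact h3
    have hbc : (b : G) * c = (c : G) * b := congrArg Subtype.val (mul_comm b c)
    have ha1 : (a : G) = 1 := by
      refine eq_one_of_odd_of_sq (hodd a) ?_
      have e1 : (b : G) * c = (a : G)⁻¹ := eq_inv_of_mul_eq_one_right habc
      have e2 : (b : G)⁻¹ * (c : G)⁻¹ = (a : G)⁻¹ := eq_inv_of_mul_eq_one_right h2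
      rw [← mul_inv_rev, ← hbc, e1, inv_inv] at e2
      nth_rewrite 1 [e2]
      exact inv_mul_cancel _
    rw [ha1, one_mul] at habc
    have hb1 : (b : G) = 1 := by
      by_contra hne
      have hb2 : (b : G) = (c : G)⁻¹ := eq_inv_of_mul_eq_one_left habc
      have hbw : (b : G) * (t * v) = t * v * b := by
        rw [hb2]; exact (show Commute (c : G) (t * v) from hcw).inv_left
      exact Invol.ne_one_of_orderOf_two hc.ht
        (mul_eq_right.1 (hC.eq_of_commute hc.hv hto (by rw [mul_assoc, ← mul_assoc v t v, hvt, mul_assoc])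
          (hodd b) hne hbv hbw))
    rw [hb1, one_mul] at habc
    exact Prod.ext (Subtype.ext (Subtype.ext ha1))
      (Prod.ext (Subtype.ext (Subtype.ext hb1)) (Subtype.ext (Subtype.ext habc)))
  have := Nat.card_le_card_of_injective φ hφ
  rw [Nat.card_prod, Nat.card_prod, Nat.card_zpowers, Nat.card_zpowers, Nat.card_zpowers,
    ← Subgroup.orderOf_coe Z, ← Subgroup.orderOf_coe V, ← Subgroup.orderOf_coe W] at this
  calc p ^ 3 = p * (p * p) := by ring
    _ ≤ _ := by simpa [Z, V, W, hc.hz, hzvo, hzwo] using this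

/-- `C(z) = O_{p'}(C(z)) N_{C(z)}(Z(J(R)))`. -/
theorem Cfg.factor_z (hC : Cent G) (hc : Cfg p S t v z R) (hp2 : p ≠ 2) {g : G} (hg : g * z = z * g) :
    ∃ k ∈ centralizerPPrimeCore p z, ∃ m ∈ normalizer (zjGen 0 R : Set G), g = k * m := by
  haveI : Fact (Nat.Prime 2) := ⟨Nat.prime_two⟩
  set C := centralizer ({z} : Set G)
  have hz1 : z ≠ 1 := fun e => by
    have h := hc.hz; rw [e, orderOf_one] at h; exact hp.out.one_lt.ne h
  haveI : Group.IsSolvable C := hC.isSolvable_centralizer (hc.odd_orderOf hp2) hz1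
  have hRC : R ≤ C := fun r hr => mem_centralizer_singleton_iff.2 (hc.hzc r hr)
  let T : Sylow p C := (hc.hR.comap_of_injective C.subtype C.subtype_injective).toSylow hc.syl
  have hT : (T : Subgroup C) = R.subgroupOf C := IsPGroup.toSylow_coe _ _
  obtain ⟨T2⟩ : Nonempty (Sylow 2 G) := inferInstance
  have hst := stableAll_of_rotLike (p := p) hp2 T2 (hC.rot T2)
  set K := pPrimeCore p C
  have hKc := CfsgLib.Cores.coprime_card_pPrimeCore (G := C) p
  set π := QuotientGroup.mk' K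
  have hπ : Function.Surjective π := QuotientGroup.mk'_surjective K
  have hRp : IsPGroup p (R.subgroupOf C) := hT ▸ T.2
  have hinj : Function.Injective (π.comp (R.subgroupOf C).subtype) := by
    rw [injective_iff_map_eq_one]
    intro x hx
    exact Subtype.ext (eq_one_of_mem_of_coprime hKc hRp ((QuotientGroup.eq_one_iff _).1 hx) x.2)
  have hnorm : (zjGen 0 ((R.subgroupOf C).map π)).Normal := by
    have h := zjGen_normal (e := 0) hp2
      (fun B _ hB => ((hst.subgroup C).quotient K hKc).isPStableOn B hB) (Or.inl rfl)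
      (T.mapSurjective hπ) (D := ((T.mapSurjective hπ : Sylow p (C ⧸ K)) : Subgroup (C ⧸ K)))
      ⟨le_rfl, fun _ _ _ h => h⟩
      (CfsgLib.Cores.isPConstrained_iff.1 CfsgLib.Cores.isPConstrained_of_isSolvable)
    rw [Sylow.coe_mapSurjective, hT] at h
    exact h
  rw [zjGen_map_of_injective_restrict hinj] at hnorm
  have htop := normalizer_map_le hKc (hRp.to_le (zjGen_le 0 (R.subgroupOf C)))
  rw [Subgroup.normalizer_eq_top] at htop
  obtain ⟨m, hm, e1⟩ := htop (Subgroup.mem_top (π ⟨g, mem_centralizer_singleton_iff.2 hg⟩))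
  have hk : (⟨g, mem_centralizer_singleton_iff.2 hg⟩ : C) * m⁻¹ ∈ K := by
    rw [← QuotientGroup.eq_one_iff]
    show π (_ * m⁻¹) = 1
    rw [map_mul, map_inv, e1, mul_inv_cancel]
  refine ⟨_, ⟨_, hk, rfl⟩, m, ?_, by simp⟩
  have hW : zjGen 0 R = (zjGen 0 (R.subgroupOf C)).map C.subtype := by
    rw [← zjGen_map C.subtype_injective, map_subgroupOf_eq_of_le hRC]
  rw [hW]
  exact Subgroup.le_normalizer_map C.subtype ⟨m, hm, rfl⟩

/-- There is no configuration in a simple group. -/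
theorem Cfg.false [IsSimpleGroup G] (hC : Cent G) (hc : Cfg p S t v z R) (hp2 : p ≠ 2) {n : ℕ} (hn : 2 ≤ n)
    (e : (S : Subgroup G) ≃* DihedralGroup n) : False := by
  haveI : Fact (Nat.Prime 2) := ⟨Nat.prime_two⟩
  set K := normalizer (zjGen 0 R : Set G) with hK
  set A := omegaZJ p R with hA
  have hz1 : z ≠ 1 := fun e => by
    have h := hc.hz; rw [e, orderOf_one] at h; exact hp.out.one_lt.ne h
  have hzA : z ∈ A := ⟨hc.z_mem_zjGen, by rw [← hc.hz, pow_orderOf_eq_one]⟩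
  have hsolv : ∀ a ∈ A, a ≠ 1 → Group.IsSolvable ↥(centralizer ({a} : Set G)) := fun a ha ha1 =>
    hC.isSolvable_centralizer
      ((hp.out.odd_of_ne_two hp2).of_dvd_nat (orderOf_dvd_of_pow_eq_one ha.2)) ha1
  have hpg : ∀ a ∈ A, IsPGroup p (zpowers a) := fun a ha =>
    hc.hR.to_le (zpowers_le.2 (zjGen_le 0 R ha.1))
  obtain ⟨hΘp, -⟩ := Cfsg.Agent.S0217.result A (fun a ha b hb => zjGen_comm ha.1 hb.1) (fun a ha => ha.2)
    (hc.rank_three hC hp2 hn e) (centralizerPPrimeCore p)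
    (fun a _ _ => CfsgLib.Cores.centralizerPPrimeCore_le a)
    (fun a _ _ => (CfsgLib.Cores.coprime_iff_not_dvd hp.out _).1
      (CfsgLib.Cores.card_centralizerPPrimeCore_coprime a))
    (fun a ha _ b hb x hx => CfsgLib.Cores.conj_mem_centralizerPPrimeCore (zjGen_comm hb.1 ha.1) hx)
    (fun a ha ha1 => by
      haveI := hsolv a ha ha1
      exact solvable_of_solvable_injective
        (Subgroup.inclusion_injective (CfsgLib.Cores.centralizerPPrimeCore_le (p := p) a)))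
    (fun a ha ha1 b hb hb1 => by
      haveI := hsolv b hb hb1
      exact CfsgLib.Cores.balance_of_constrained (hpg a ha) (zjGen_comm ha.1 hb.1)
        CfsgLib.Cores.isPConstrained_of_isSolvable)
  set Θ : Subgroup G := ⨆ a : {a : G // a ∈ A ∧ a ≠ 1}, centralizerPPrimeCore p (a : G) with hΘ
  have hKΘ : K ≤ normalizer (Θ : Set G) := fun k hk => by
    refine CfsgLib.Solvable.mem_normalizer_of_conj_mem fun x hx => ?_
    suffices Θ ≤ Θ.comap (MulAut.conj k).toMonoidHom from this hx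
    rw [hΘ, iSup_le_iff]
    rintro ⟨a, ⟨haz, hap⟩, ha1⟩ y hy
    have ha' : k * a * k⁻¹ ∈ A :=
      ⟨(mem_normalizer_iff.1 hk a).1 haz, by rw [conj_pow, hap]; group⟩
    have h1 : k * y * k⁻¹ ∈ centralizerPPrimeCore p (k * a * k⁻¹) := by
      rw [CfsgLib.Cores.centralizerPPrimeCore_conj]; exact ⟨y, hy, rfl⟩
    exact mem_iSup_of_mem (⟨k * a * k⁻¹, ha', fun e1 => ha1 (conj_eq_one_iff.1 e1)⟩ :
      {a : G // a ∈ A ∧ a ≠ 1}) h1
  have hzZ : z ∈ zjGen 0 R := hc.z_mem_zjGen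
  have hKtop : K ≠ ⊤ := fun htop => by
    rw [hK, Subgroup.normalizer_eq_top_iff] at htop
    rcases IsSimpleGroup.eq_bot_or_eq_top_of_normal (zjGen 0 R) htop with h | h
    · exact hz1 (mem_bot.1 (h ▸ hzZ))
    · obtain ⟨k, hk⟩ := IsPGroup.iff_orderOf.1 hc.hR ⟨t, zjGen_le 0 R (h ▸ mem_top t)⟩
      rw [Subgroup.orderOf_mk, hc.ht] at hk
      rcases Nat.eq_zero_or_pos k with rfl | hk0
      · simp at hk
      · exact hp2 ((Nat.prime_dvd_prime_iff_eq hp.out Nat.prime_two).1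
          (hk ▸ dvd_pow_self p hk0.ne'))
  obtain ⟨M, hM, hKM, hΘM⟩ : ∃ M : Subgroup G, M ≠ ⊤ ∧ K ≤ M ∧ Θ ≤ M := by
    by_cases hbot : Θ = ⊥
    · exact ⟨K, hKtop, le_rfl, hbot ▸ bot_le⟩
    refine ⟨normalizer (Θ : Set G), fun htop => ?_, hKΘ, le_normalizer⟩
    rw [Subgroup.normalizer_eq_top_iff] at htop
    rcases IsSimpleGroup.eq_bot_or_eq_top_of_normal Θ htop with h | h
    · exact hbot h
    · refine hΘp ?_
      rw [h, card_top, ← hc.hz]
      exact _root_.orderOf_dvd_natCard z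
  have hSM : (S : Subgroup G) ≤ M :=
    (hc.hSR.trans (normalizer_le_normalizer_zjGen 0 R)).trans hKM
  -- the centraliser of `z` lies in `M`
  have hzM : ∀ g, g * z = z * g → g ∈ M := fun g hg => by
    obtain ⟨k, hk, m, hm, rfl⟩ := hc.factor_z hC hp2 hg
    exact mul_mem (hΘM (mem_iSup_of_mem (⟨z, hzA, hz1⟩ : {a : G // a ∈ A ∧ a ≠ 1}) hk)) (hKM hm)
  set C := centralizer ({t} : Set G) with hCdef
  have hCM : C ≤ M := by
    rw [← relIndex_eq_one]
    by_contra hne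
    obtain ⟨q, hq, hqd⟩ := Nat.exists_prime_and_dvd hne
    haveI : Fact q.Prime := ⟨hq⟩
    by_cases hq2 : q = 2
    · subst hq2
      have hSC : (S : Subgroup G) ≤ C := fun s hs => mem_centralizer_singleton_iff.2 (hc.htZ s hs)
      refine (S.subtype hSC).not_dvd_index (hqd.trans (index_dvd_of_le ?_))
      rw [Sylow.coe_subtype]
      exact fun s hs => hSM hs
    · obtain ⟨T⟩ : Nonempty (Sylow q C) := inferInstance
      refine T.not_dvd_index (hqd.trans (index_dvd_of_le fun x hx => hzM (x : G) ?_))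
      obtain ⟨k, hk⟩ := IsPGroup.iff_orderOf.1 T.2 ⟨x, hx⟩
      rw [Subgroup.orderOf_mk, ← Subgroup.orderOf_coe] at hk
      exact hC.comm t (x : G) z hc.ht (hk ▸ (hq.odd_of_ne_two hq2).pow) (hc.odd_orderOf hp2)
        (mem_centralizer_singleton_iff.1 x.2) hc.hzt
  refine no_fused_overgroup S n hn e t hc.ht hc.htS hc.htZ M hM hSM hCM ?_
    ⟨z, mem_centralizer_singleton_iff.2 hc.hzt, hz1, hc.odd_orderOf hp2⟩
  -- all involutions of `M` are fused
  have key : ∀ x ∈ M, orderOf x = 2 → ∃ m ∈ M, m * x * m⁻¹ = t := by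
    intro x hxM hx
    let x' : M := ⟨x, hxM⟩
    obtain ⟨U, hU⟩ := (IsPGroup.of_card (p := 2) (n := 1)
      (show Nat.card (zpowers x') = 2 ^ 1 by
        rw [Nat.card_zpowers, pow_one, ← Subgroup.orderOf_coe]; exact hx)).exists_le_sylow
    obtain ⟨c, hcU⟩ := MulAction.exists_smul_eq M (S.subtype hSM) U
    have h1 := hU (mem_zpowers x')
    rw [← hcU, Sylow.coe_subgroup_smul, Subgroup.mem_pointwise_smul_iff_inv_smul_mem] at h1
    have h2 : (c : G)⁻¹ * x * c ∈ (S : Subgroup G) := by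
      simpa [MulAut.smul_def, x', mem_subgroupOf] using h1
    have ho : orderOf ((c : G)⁻¹ * x * c) = 2 := by
      nth_rewrite 2 [← inv_inv (c : G)]
      rw [orderOf_conj_eq]; exact hx
    obtain ⟨k, hk, hkx⟩ := hc.fused hC hp2 hn e h2 ho
    refine ⟨k⁻¹ * (c : G)⁻¹, mul_mem (inv_mem (hKM hk)) (inv_mem c.2), ?_⟩
    calc k⁻¹ * (c : G)⁻¹ * x * (k⁻¹ * (c : G)⁻¹)⁻¹ = k⁻¹ * ((c : G)⁻¹ * x * c) * k := by group
      _ = k⁻¹ * (k * t * k⁻¹) * k := by rw [hkx]
      _ = t := by group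
  intro x hxM y hyM hx hy
  obtain ⟨m, hm, hmx⟩ := key x hxM hx
  obtain ⟨m', hm', hmy⟩ := key y hyM hy
  refine ⟨m'⁻¹ * m, mul_mem (inv_mem hm') hm, ?_⟩
  calc m'⁻¹ * m * x * (m'⁻¹ * m)⁻¹ = m'⁻¹ * (m * x * m⁻¹) * m' := by group
    _ = m'⁻¹ * (m' * y * m'⁻¹) * m' := by rw [hmx, hmy]
    _ = y := by group

omit hp in
/-- The odd elements of an involution centraliser have their centralisers inside it. -/
theorem Cent.centralizer_le [IsSimpleGroup G] (hC : Cent G) (S₀ : Sylow 2 G) {n : ℕ} (hn : 2 ≤ n)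
    (e : (S₀ : Subgroup G) ≃* DihedralGroup n) {t₀ v₀ y : G} (ht₀ : orderOf t₀ = 2)
    (hZ₀ : ∀ s ∈ (S₀ : Subgroup G), s * t₀ = t₀ * s) (hv₀ : orderOf v₀ = 2) (hvt₀ : v₀ ≠ t₀)
    (hvc : v₀ * t₀ = t₀ * v₀) (hy : Odd (orderOf y)) (hy1 : y ≠ 1) (hyt : y * t₀ = t₀ * y) :
    centralizer ({y} : Set G) ≤ centralizer {t₀} := by
  by_contra hbad
  obtain ⟨q, hq, hq2, S, t, v, z, R, hc⟩ := hC.exists_cfg S₀ ht₀ hZ₀ hv₀ hvt₀ hvc hy hy1 hyt hbad
  haveI := hq
  haveI : Fact (Nat.Prime 2) := ⟨Nat.prime_two⟩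
  exact hc.false hC hq2 hn ((S.equiv S₀).trans e)

omit hp in
/-- The theorem of this file. -/
theorem psl_of_generalized_dihedral [IsSimpleGroup G] (S : Sylow 2 G) (n : ℕ) (hn : 2 ≤ n)
    (e : (S : Subgroup G) ≃* DihedralGroup n) (t : G) (ht : orderOf t = 2) (htS : t ∈ (S : Subgroup G))
    (htZ : ∀ s ∈ (S : Subgroup G), s * t = t * s)
    (hone : ∀ x y : G, orderOf x = 2 → orderOf y = 2 → ∃ g : G, g * x * g⁻¹ = y)
    (A : Subgroup G) (hAc : IsMulCommutative A) (v : G) (hv : orderOf v = 2)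
    (hinv : ∀ a ∈ A, v * a * v⁻¹ = a⁻¹) (hH : centralizer ({t} : Set G) = A ⊔ zpowers v)
    (hcyc : ∀ a ∈ A, a * a = 1 → a = 1 ∨ a = t) :
    ∃ (F : Type) (_ : Field F) (_ : Fintype F), Odd (Fintype.card F) ∧
      Nonempty (G ≃* Matrix.ProjectiveSpecialLinearGroup (Fin 2) F) := by
  haveI : Fact (Nat.Prime 2) := ⟨Nat.prime_two⟩
  have hrot : ∀ T : Sylow 2 G, RotLike (T : Subgroup G) := fun T =>
    rotLike_of_dihedral ((T.equiv S).trans e)
  have hC : Cent G := cent_of_gendihedral t ht hone A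
    (fun a ha b hb => congrArg Subtype.val (hAc.is_comm.comm ⟨a, ha⟩ ⟨b, hb⟩)) v hv hinv hH hcyc hrot
  -- a further involution of `S`
  obtain ⟨w, hwS, hw, hwt⟩ : ∃ w ∈ (S : Subgroup G), orderOf w = 2 ∧ w ≠ t := by
    haveI : NeZero n := ⟨by omega⟩
    have ho : ∀ i : ZMod n, orderOf ((e.symm (DihedralGroup.sr i) : (S : Subgroup G)) : G) = 2 := fun i => by
      rw [Subgroup.orderOf_coe, e.symm.orderOf_eq, DihedralGroup.orderOf_sr]
    by_contra hall
    push Not at hall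
    have h0 := hall _ (SetLike.coe_mem _) (ho 0)
    have h1 := hall _ (SetLike.coe_mem _) (ho 1)
    have h2 := e.symm.injective (Subtype.ext (h0.trans h1.symm))
    rw [DihedralGroup.sr.injEq] at h2
    haveI : Fact (1 < n) := ⟨hn⟩
    exact zero_ne_one h2
  have hwc : w * t = t * w := htZ w hwS
  set O := (oddCore ↥(centralizer ({t} : Set G))).map (centralizer ({t} : Set G)).subtype with hO
  have hOmem : ∀ y ∈ O, Odd (orderOf y) ∧ y * t = t * y := by
    rintro _ ⟨y, hy, rfl⟩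
    refine ⟨?_, mem_centralizer_singleton_iff.1 y.2⟩
    show Odd (orderOf (y : G))
    rw [Subgroup.orderOf_coe, ← Subgroup.orderOf_mk y hy]
    exact CfsgLib.Cores.odd_card_oddCore.of_dvd_nat (_root_.orderOf_dvd_natCard _)
  have hcomm : ∀ y ∈ O, ∀ y' ∈ O, y * y' = y' * y := fun y hy y' hy' =>
    hC.comm t y y' ht (hOmem y hy).1 (hOmem y' hy').1 (hOmem y hy).2 (hOmem y' hy').2
  -- an element of `S` centralises or inverts all of `O`
  have hb : ∀ s ∈ (S : Subgroup G), s ∉ centralizer (O : Set G) → ∀ y ∈ O, s * y * s⁻¹ = y⁻¹ := by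
    intro s hs hsO
    obtain ⟨y0, hy0, hy0c⟩ : ∃ y0 ∈ O, y0 * s ≠ s * y0 := by
      by_contra hcon
      push Not at hcon
      exact hsO (mem_centralizer_iff.2 hcon)
    have hdich : ∀ y ∈ O, s * y * s⁻¹ = y ∨ s * y * s⁻¹ = y⁻¹ := fun y hy =>
      hC.pm t y s ht (hOmem y hy).1 (hOmem y hy).2 (htZ s hs)
    have h0 : s * y0 * s⁻¹ = y0⁻¹ := (hdich y0 hy0).resolve_left fun h =>
      hy0c (mul_inv_eq_iff_eq_mul.1 h).symm
    intro y hy
    refine (hdich y hy).elim (fun h => ?_) id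
    have hcy : Commute y y0 := hcomm y hy y0 hy0
    have hp1 : s * (y * y0) * s⁻¹ = y * y0⁻¹ := by rw [← conj_mul, h, h0]
    rcases hdich _ (mul_mem hy hy0) with h1 | h1
    · rw [hp1, mul_right_inj] at h1
      have : y0 = 1 := eq_one_of_odd_of_sq (hOmem y0 hy0).1 (by nth_rewrite 1 [← h1]; exact inv_mul_cancel _)
      exact absurd (by rw [this, one_mul, mul_one]) hy0c
    · rw [hp1, hcy.eq, mul_inv_rev, mul_left_inj] at h1
      have : y = 1 := eq_one_of_odd_of_sq (hOmem y hy).1 (by nth_rewrite 1 [h1]; exact inv_mul_cancel _)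
      rw [h, this, inv_one]
  refine Cfsg.Agent.S0508.result S n hn ⟨e⟩ t ht htS htZ O hO (fun hne => ?_) hb fun Y hY hne => ?_
  · obtain ⟨y, hy, hy1⟩ : ∃ y ∈ O, y ≠ 1 := by
      by_contra hcon
      push Not at hcon
      exact hne (eq_bot_iff.2 fun y hy => mem_bot.2 (hcon y hy))
    obtain ⟨hyo, hyt⟩ := hOmem y hy
    refine ⟨((hrot S).mono inf_le_left).isCyclic_of_unique (S.2.to_le inf_le_left) ?_, ?_⟩
    · have key : ∀ x ∈ (S : Subgroup G) ⊓ centralizer (O : Set G), orderOf x = 2 → x = t := fun x hx hxo =>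
        hC.eq_of_commute ht hxo (htZ x (mem_inf.1 hx).1) hyo hy1 hyt
          (mem_centralizer_iff.1 (mem_inf.1 hx).2 y hy)
      exact fun a ha b hb hao hbo => (key a ha hao).trans (key b hb hbo).symm
    · have hwO : w ∉ centralizer (O : Set G) := fun h =>
        hwt (hC.eq_of_commute ht hw hwc hyo hy1 hyt (mem_centralizer_iff.1 h y hy))
      rw [relIndex_eq_two_iff_exists_notMem_and]
      refine ⟨w, hwS, fun h => hwO (mem_inf.1 h).2, fun b hb' => ?_⟩
      by_cases hbO : b ∈ centralizer (O : Set G)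
      · exact Or.inr (mem_inf.2 ⟨hb', hbO⟩)
      refine Or.inl (mem_inf.2 ⟨mul_mem hb' hwS, mem_centralizer_iff.2 fun x hx => ?_⟩)
      have h1 : b * w * x * (b * w)⁻¹ = x := by
        calc b * w * x * (b * w)⁻¹ = b * (w * x * w⁻¹) * b⁻¹ := by group
          _ = b * x⁻¹ * b⁻¹ := by rw [hb w hwS hwO x hx]
          _ = x := by rw [hb b hb' hbO _ (inv_mem hx), inv_inv]
      exact (mul_inv_eq_iff_eq_mul.1 h1).symm
  · obtain ⟨y, hy, hy1⟩ : ∃ y ∈ Y, y ≠ 1 := by
      by_contra hcon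
      push Not at hcon
      exact hne (eq_bot_iff.2 fun y hy => mem_bot.2 (hcon y hy))
    obtain ⟨hyo, hyt⟩ := hOmem y (hY hy)
    intro g hg
    obtain ⟨-, hgy⟩ := hOmem _ (hY ((mem_normalizer_iff.1 hg y).1 hy))
    have h1 : y * (g⁻¹ * t * g) = g⁻¹ * t * g * y := by
      calc y * (g⁻¹ * t * g) = g⁻¹ * (g * y * g⁻¹ * t) * g := by group
        _ = g⁻¹ * (t * (g * y * g⁻¹)) * g := by rw [hgy]
        _ = _ := by group
    have ho : orderOf (g⁻¹ * t * g) = 2 := by
      nth_rewrite 2 [← inv_inv g]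
      rw [orderOf_conj_eq]; exact ht
    have h2 : g⁻¹ * t * g * t = t * (g⁻¹ * t * g) :=
      mem_centralizer_singleton_iff.1 (hC.centralizer_le S hn e ht htZ hw hwt hwc hyo hy1 hyt
        (mem_centralizer_singleton_iff.2 h1.symm))
    have h3 := hC.eq_of_commute ht ho h2 hyo hy1 hyt h1
    rw [mem_centralizer_singleton_iff]
    calc g * t = g * (g⁻¹ * t * g) := by rw [h3]
      _ = t * g := by group

end CfsgLib.DihCore
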