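import Cfsg.Agent.Lib.DihCore.RedTools
import Cfsg.Agent.Lib.Invol.ZStarFinal
import Cfsg.Agent.Lib.Invol.Isolated
import Cfsg.Agent.Lib.Invol.FusionFixedCentral
import Cfsg.Agent.Lib.Recognition.CycNorm.NoEight
import Cfsg.Agent.Lib.Solvable.MinimalNormal
import Cfsg.Prelude.Def_CaseTheorems

/-!
# Reduced groups with semidihedral Sylow 2-subgroups

The centre of the Sylow subgroup is an isolated involution, so it is central, and the quotient has a
dihedral Sylow 2-subgroup with an involution centraliser of order four.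
-/

set_option autoImplicit false

namespace CfsgLib.DihCore.Red

open Subgroup
open CfsgLib.Invol (orderOf_conj_eq orderOf_eq_two_iff' inv_eq_of_orderOf_two)

universe u

variable {G : Type u} [Group G]

/-- Coordinates of a semidihedral group `⟨a, y⟩`. -/
structure Semi (T : Subgroup G) (n : ℕ) (a y z : G) : Prop where
  le : 3 ≤ n
  card : Nat.card T = 2 ^ (n + 1)
  aT : a ∈ T
  yT : y ∈ T
  ord : orderOf a = 2 ^ n
  y2 : y * y = 1
  rel : y * a * y⁻¹ = a ^ (2 ^ (n - 1) - 1)
  zdef : z = a ^ 2 ^ (n - 1)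

namespace Semi

variable {T : Subgroup G} {n : ℕ} {a y z : G} (h : Semi T n a y z)
include h

theorem z2 : orderOf z = 2 := by
  rw [h.zdef, orderOf_pow' _ (by positivity), h.ord]
  obtain ⟨m, rfl⟩ : ∃ m, n = m + 1 := ⟨n - 1, by have := h.le; omega⟩
  rw [Nat.add_sub_cancel, pow_succ, Nat.gcd_mul_right_left, Nat.mul_div_cancel_left _ (by positivity)]

theorem zz : z * z = 1 := by rw [← pow_two, ← h.z2, pow_orderOf_eq_one]

theorem ay : y * a * y⁻¹ = z * a⁻¹ := by
  rw [h.rel, h.zdef, pow_sub _ Nat.one_le_two_pow, pow_one]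

theorem za : Commute z a := h.zdef ▸ (Commute.refl a).pow_left _

theorem zy : Commute z y := by
  have h2 : (2 : ℕ) ∣ 2 ^ (n - 1) := dvd_pow_self 2 (by have := h.le; omega)
  obtain ⟨k, hk⟩ := h2
  have e : y * z * y⁻¹ = z := by
    conv_lhs => rw [h.zdef, hk]
    rw [← conj_pow, h.ay, h.za.inv_right.mul_pow, inv_pow, ← hk, ← h.zdef, hk, pow_mul, pow_two, h.zz,
      one_pow, one_mul, inv_eq_of_orderOf_two h.z2]
  exact (mul_inv_eq_iff_eq_mul.1 e).symm

theorem cases [Finite G] {g : G} (hg : g ∈ T) : g ∈ zpowers a ∨ g * y ∈ zpowers a := by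
  have hle : zpowers a ≤ T := zpowers_le.2 h.aT
  have hidx : ((zpowers a).subgroupOf T).index = 2 := by
    have e := ((zpowers a).subgroupOf T).card_mul_index
    rw [Nat.card_congr (subgroupOfEquivOfLe hle).toEquiv, Nat.card_zpowers, h.ord, h.card, pow_succ] at e
    exact Nat.eq_of_mul_eq_mul_left (by positivity) e
  have hy : y ∉ zpowers a := fun hy => by
    obtain ⟨i, rfl⟩ := hy
    have e := h.ay
    rw [(Commute.refl a).zpow_left i |>.eq, mul_inv_cancel_right] at e
    have e2 : (a * a) * (a * a) = 1 := by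
      rw [show a * a = z by
        calc a * a = z * a⁻¹ * a := by rw [← e]
          _ = z := by group, h.zz]
    have := orderOf_dvd_of_pow_eq_one (show a ^ 4 = 1 by rw [show a ^ 4 = a * a * (a * a) by simp [pow_succ, mul_assoc], e2])
    rw [h.ord] at this
    have h3 : 2 ^ 3 ≤ 2 ^ n := Nat.pow_le_pow_right (by norm_num) h.le
    have := Nat.le_of_dvd (by norm_num) this
    omega
  by_cases hga : g ∈ zpowers a
  · exact Or.inl hga
  · refine Or.inr ?_
    have h1 := (Subgroup.mul_mem_iff_of_index_two hidx (a := ⟨g, hg⟩) (b := ⟨y, h.yT⟩)).2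
      (by simp only [mem_subgroupOf]; exact iff_of_false hga hy)
    exact mem_subgroupOf.1 h1

theorem yconj_zpow (i : ℤ) : y * a ^ i * y⁻¹ = z ^ i * (a ^ i)⁻¹ := by
  rw [← conj_zpow, h.ay, h.za.inv_right.mul_zpow, inv_zpow]

/-- `(a ^ i * y) ^ 2 = z ^ i`. -/
theorem sq_out (i : ℤ) : a ^ i * y * (a ^ i * y) = z ^ i := by
  calc a ^ i * y * (a ^ i * y) = a ^ i * (y * a ^ i * y⁻¹) * (y * y) := by group
    _ = a ^ i * (z ^ i * (a ^ i)⁻¹) := by rw [h.yconj_zpow, h.y2, mul_one]
    _ = z ^ i * (a ^ i * (a ^ i)⁻¹) := by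
        rw [← mul_assoc, ((h.za.zpow_zpow i i)).eq.symm, mul_assoc]
    _ = z ^ i := by rw [mul_inv_cancel, mul_one]

/-- Involutions of `T` are `z` or conjugate in `T` to a given reflection. -/
theorem invol_cases [Finite G] {g : G} (hg : g ∈ T) (hg2 : orderOf g = 2) :
    g = z ∨ ∃ j : ℤ, a ^ j * y * (a ^ j)⁻¹ = g := by
  obtain ⟨hg1, hgg⟩ := orderOf_eq_two_iff'.1 hg2
  rcases h.cases hg with hc | hc
  · obtain ⟨i, rfl⟩ := hc
    left
    have hd : (orderOf a : ℤ) ∣ 2 * i :=
      orderOf_dvd_iff_zpow_eq_one.2 (by rw [two_mul, zpow_add]; exact hgg)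
    have hn : n - 1 + 1 = n := by have := h.le; omega
    rw [h.ord, ← hn, pow_succ'] at hd
    push_cast at hd
    obtain ⟨k, rfl⟩ := (mul_dvd_mul_iff_left (two_ne_zero' ℤ)).1 hd
    rcases Int.even_or_odd k with ⟨l, rfl⟩ | ⟨l, rfl⟩
    · exfalso
      refine hg1 ?_
      show a ^ ((2 : ℤ) ^ (n - 1) * (l + l)) = 1
      refine orderOf_dvd_iff_zpow_eq_one.1 ⟨l, ?_⟩
      rw [h.ord, ← hn, pow_succ']
      push_cast [hn]
      rw [← hn, Nat.add_sub_cancel]
      ring
    · show a ^ ((2 : ℤ) ^ (n - 1) * (2 * l + 1)) = z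
      have e : ((2 : ℤ) ^ (n - 1)) = ((2 ^ (n - 1) : ℕ) : ℤ) := by push_cast; rfl
      rw [e, zpow_mul, zpow_natCast, ← h.zdef, zpow_add, zpow_mul, zpow_two, h.zz, one_zpow, one_mul,
        zpow_one]
  · obtain ⟨i, hi⟩ := hc
    right
    have hgi : g = a ^ i * y := by
      show g = a ^ i * y
      rw [show a ^ i = g * y from hi, mul_assoc, h.y2, mul_one]
    -- `i` is even
    have hz : z ^ i = 1 := by rw [← h.sq_out i, ← hgi, hgg]
    have hie : (2 : ℤ) ∣ i := by simpa [h.z2] using orderOf_dvd_iff_zpow_eq_one.2 hz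
    obtain ⟨m, rfl⟩ := hie
    -- conjugation by `a ^ j` adds `j * (2 - 2 ^ (n - 1))` to the exponent
    obtain ⟨N, hN⟩ : ∃ N : ℤ, (2 : ℤ) ^ (n - 1) = 2 * N ∧ (2 : ℤ) ∣ N := by
      refine ⟨2 ^ (n - 2), ?_, dvd_pow_self 2 (by have := h.le; omega)⟩
      rw [← pow_succ', show n - 2 + 1 = n - 1 by have := h.le; omega]
    obtain ⟨hN1, k, hk⟩ := hN
    refine ⟨m * (1 + N), ?_⟩
    have e : ∀ j : ℤ, a ^ j * y * (a ^ j)⁻¹ = a ^ (2 * j) * z ^ j * y := fun j => by
      calc a ^ j * y * (a ^ j)⁻¹ = a ^ j * (y * (a ^ j)⁻¹ * y⁻¹) * y := by group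
        _ = a ^ j * (z ^ j * (a ^ j)⁻¹)⁻¹ * y := by rw [← h.yconj_zpow]; group
        _ = a ^ j * (a ^ j * (z ^ j)⁻¹) * y := by group
        _ = a ^ (2 * j) * z ^ j * y := by
          rw [← mul_assoc, ← zpow_add, ← two_mul, ← inv_zpow, inv_eq_of_orderOf_two h.z2]
    rw [e, hgi]
    congr 1
    have hz' : z = a ^ (2 * N) := by
      rw [h.zdef, ← hN1, ← zpow_natCast]; push_cast; rfl
    rw [hz', ← zpow_mul, ← zpow_add]
    refine zpow_eq_zpow_iff_modEq.2 (Int.modEq_iff_dvd.2 ⟨-(m * (1 + k)), ?_⟩)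
    rw [h.ord, show n = n - 1 + 1 by have := h.le; omega, pow_succ]
    push_cast
    rw [hN1, hk]
    ring

end Semi

variable [Finite G]

/-- **Semidihedral case.** -/
theorem target_of_quasi (T : Sylow 2 G) (hQ : Cfsg.IsQuasiDihedral (T : Subgroup G)) (A : Subgroup G)
    (hAc : ∀ a ∈ A, ∀ b ∈ A, a * b = b * a) (x : G) (hx : orderOf x = 2) (hxA : x ∉ A)
    (hinv : ∀ a ∈ A, x * a * x⁻¹ = a⁻¹) (t : G) (ht : orderOf t = 2) (htA : t ∈ A)
    (hcyc : ∀ a ∈ A, a * a = 1 → a = 1 ∨ a = t)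
    (hC : centralizer ({t} : Set G) = A ⊔ zpowers x) (htT : t ∈ T)
    (hO : ∀ N : Subgroup G, N.Normal → Odd (Nat.card N) → N = ⊥) (hns : ¬ Group.IsSolvable G)
    (hdih : ∀ (Q : Type u) [Group Q] [Finite Q] (T' : Sylow 2 Q) (n : ℕ),
      Nonempty ((T' : Subgroup Q) ≃* DihedralGroup n) → ∀ t' : Q, orderOf t' = 2 →
      Nat.card (centralizer ({t'} : Set Q)) = 4 →
      (∀ N : Subgroup Q, N.Normal → Odd (Nat.card N) → N = ⊥) → ¬ Group.IsSolvable Q → TargetEq Q) :
    Target G := by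
  classical
  haveI : Fact (Nat.Prime 2) := ⟨Nat.prime_two⟩
  obtain ⟨n, hn, hcard, a, y, ha, hy, hrel⟩ := hQ
  have hS : Semi (T : Subgroup G) n (a : G) (y : G) ((a : G) ^ 2 ^ (n - 1)) :=
    { le := hn
      card := hcard
      aT := a.2
      yT := y.2
      ord := by rw [Subgroup.orderOf_coe, ha]
      y2 := congrArg Subtype.val (show y * y = 1 from (orderOf_eq_two_iff'.1 hy).2)
      rel := congrArg Subtype.val hrel
      zdef := rfl }
  obtain ⟨z, hzd⟩ : ∃ z, z = (a : G) ^ 2 ^ (n - 1) := ⟨_, rfl⟩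
  rw [← hzd] at hS
  obtain ⟨hx1, hx2⟩ := orderOf_eq_two_iff'.1 hx
  obtain ⟨ht1, ht2⟩ := orderOf_eq_two_iff'.1 ht
  have hxt : x * t = t * x := by
    have e := hinv t htA
    rw [inv_eq_of_orderOf_two ht] at e
    exact mul_inv_eq_iff_eq_mul.1 e
  have hHcases : ∀ g ∈ centralizer ({t} : Set G), g ∈ A ∨ g * x ∈ A := by
    intro g hg
    rw [hC, sup_eq_closure] at hg
    induction hg using closure_induction with
    | mem g hg =>
      rcases hg with hg | hg
      · exact Or.inl hg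
      · obtain ⟨i, rfl⟩ := hg
        rcases Int.even_or_odd i with ⟨l, rfl⟩ | ⟨l, rfl⟩
        · left; simp [← two_mul, zpow_mul, zpow_two, pow_two, hx2]
        · right; simp [zpow_add, zpow_mul, zpow_two, pow_two, hx2]
    | one => exact Or.inl A.one_mem
    | mul p q _ _ hp hq =>
      have hxx : ∀ b ∈ A, x * b * x ∈ A := fun b hb => by
        have := hinv b hb; rw [inv_eq_of_orderOf_two hx] at this; rw [this]; exact A.inv_mem hb
      rcases hp with hp | hp <;> rcases hq with hq | hq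
      · exact Or.inl (A.mul_mem hp hq)
      · exact Or.inr (by rw [mul_assoc]; exact A.mul_mem hp hq)
      · right
        have := A.mul_mem hp (hxx q hq)
        rwa [show p * x * (x * q * x) = p * (x * x) * q * x by group, hx2, mul_one] at this
      · left
        have := A.mul_mem hp (hxx _ hq)
        rwa [show p * x * (x * (q * x) * x) = p * (x * x) * q * (x * x) by group, hx2, mul_one,
          mul_one] at this
    | inv p _ hp =>
      rcases hp with hp | hp
      · exact Or.inl (A.inv_mem hp)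
      · right
        have e := hinv _ (A.inv_mem hp)
        rw [mul_inv_rev, inv_eq_of_orderOf_two hx] at e
        rw [show x * (x * p⁻¹) * x = x * x * (p⁻¹ * x) by group, hx2, one_mul] at e
        rw [e]
        have hm := A.inv_mem (A.inv_mem hp)
        rwa [mul_inv_rev, inv_eq_of_orderOf_two hx] at hm
  -- `t` is not conjugate to `z`
  have hne : ∀ g : G, g * z * g⁻¹ ≠ t := by
    intro g hg
    have hcm : ∀ w : G, Commute z w → g * w * g⁻¹ ∈ centralizer ({t} : Set G) := fun w hw =>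
      mem_centralizer_singleton_iff.2 (by
        rw [← hg]
        calc g * w * g⁻¹ * (g * z * g⁻¹) = g * (w * z) * g⁻¹ := by group
          _ = g * (z * w) * g⁻¹ := by rw [hw.eq]
          _ = _ := by group)
    set a' := g * (a : G) * g⁻¹ with ha'
    set y' := g * (y : G) * g⁻¹ with hy'
    have ho : orderOf a' = 2 ^ n := by rw [ha', orderOf_conj_eq, hS.ord]
    have hno : a' * a' ≠ 1 := fun e => by
      have := orderOf_dvd_of_pow_eq_one ((pow_two a').trans e)
      rw [ho] at this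
      have h3 : 2 ^ 3 ≤ 2 ^ n := Nat.pow_le_pow_right (by norm_num) hn
      have := Nat.le_of_dvd (by norm_num) this
      omega
    have haA : a' ∈ A := by
      refine (hHcases _ (hcm _ hS.za)).resolve_right fun hc => hno ?_
      have e := hinv _ hc
      rw [inv_eq_of_orderOf_two hx, mul_inv_rev, inv_eq_of_orderOf_two hx] at e
      have e2 : x * a' = x * a'⁻¹ := by
        rwa [show x * (a' * x) * x = x * a' * (x * x) by group, hx2, mul_one] at e
      exact mul_eq_one_iff_eq_inv.2 (mul_left_cancel e2)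
    have hconj : y' * a' * y'⁻¹ = t * a'⁻¹ := by
      rw [ha', hy', ← hg]
      calc g * y * g⁻¹ * (g * a * g⁻¹) * (g * (y : G) * g⁻¹)⁻¹ = g * ((y : G) * a * (y : G)⁻¹) * g⁻¹ := by group
        _ = g * (z * (a : G)⁻¹) * g⁻¹ := by rw [hS.ay]
        _ = _ := by group
    rcases hHcases _ (hcm _ hS.zy) with hyA | hyA
    · rw [hAc _ hyA _ haA, mul_inv_cancel_right] at hconj
      have e4 : (a' * a') * (a' * a') = 1 := by
        rw [show a' * a' = t by
          calc a' * a' = t * a'⁻¹ * a' := by rw [← hconj]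
            _ = t := by group, ht2]
      have := orderOf_dvd_of_pow_eq_one (show a' ^ 4 = 1 by rw [show a' ^ 4 = a' * a' * (a' * a') by simp [pow_succ, mul_assoc], e4])
      rw [ho] at this
      have h3 : 2 ^ 3 ≤ 2 ^ n := Nat.pow_le_pow_right (by norm_num) hn
      have := Nat.le_of_dvd (by norm_num) this
      omega
    · -- `y'` inverts `A`
      have e : y' * a' * y'⁻¹ = a'⁻¹ := by
        calc y' * a' * y'⁻¹ = (y' * x) * (x⁻¹ * a' * x) * (y' * x)⁻¹ := by group
          _ = (y' * x) * a'⁻¹ * (y' * x)⁻¹ := by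
              rw [show x⁻¹ * a' * x = a'⁻¹ by rw [← hinv a' haA, inv_eq_of_orderOf_two hx]]
          _ = a'⁻¹ := by rw [hAc _ hyA _ (A.inv_mem haA), mul_inv_cancel_right]
      rw [e, right_eq_mul] at hconj
      exact ht1 hconj
  -- `t` is a reflection, `z` is isolated
  have hzT : z ∈ (T : Subgroup G) := hzd ▸ pow_mem a.2 _
  obtain ⟨j₀, hj₀⟩ := (hS.invol_cases htT ht).resolve_left fun e => hne 1 (by rw [e]; group)
  have hiso : Cfsg.IsIsolatedInvolution z := by
    refine CfsgLib.Invol.isolated_of_sylow T hS.z2 hzT fun g hg => ?_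
    refine (hS.invol_cases hg (by rw [orderOf_conj_eq, hS.z2])).resolve_right ?_
    rintro ⟨j, hj⟩
    refine hne ((a : G) ^ j₀ * ((a : G) ^ j)⁻¹ * g) ?_
    rw [← hj₀]
    calc _ = (a : G) ^ j₀ * ((a : G) ^ j)⁻¹ * (g * z * g⁻¹) * (a : G) ^ j * ((a : G) ^ j₀)⁻¹ := by group
      _ = _ := by rw [← hj]; group
  have hOc : Cfsg.oddCore G = ⊥ := hO _ inferInstance CfsgLib.Cores.odd_card_oddCore
  have hzc : z ∈ center G := CfsgLib.Invol.zstar_center hiso hOc
  -- `C(t)` has order four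
  have hzH : z ∈ centralizer ({t} : Set G) :=
    mem_centralizer_singleton_iff.2 (mem_center_iff.1 hzc t).symm
  have hzA : z ∉ A := fun hzA => by
    rcases hcyc z hzA hS.zz with e | e
    · exact (orderOf_eq_two_iff'.1 hS.z2).1 e
    · exact hne 1 (by rw [e]; group)
  have hAsq : ∀ b ∈ A, b * b = 1 := fun b hb => by
    have hzx : z * x ∈ A := (hHcases z hzH).resolve_left hzA
    have e : z * b * z⁻¹ = b⁻¹ := by
      calc z * b * z⁻¹ = (z * x) * (x⁻¹ * b * x) * (z * x)⁻¹ := by group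
        _ = (z * x) * b⁻¹ * (z * x)⁻¹ := by
            rw [show x⁻¹ * b * x = b⁻¹ by rw [← hinv b hb, inv_eq_of_orderOf_two hx]]
        _ = b⁻¹ := by rw [hAc _ hzx _ (A.inv_mem hb), mul_inv_cancel_right]
    rw [(mem_center_iff.1 hzc b).symm, mul_inv_cancel_right] at e
    exact mul_eq_one_iff_eq_inv.2 e
  have hA2 : ∀ b ∈ A, b = 1 ∨ b = t := fun b hb => hcyc b hb (hAsq b hb)
  have hC4 : Nat.card (centralizer ({t} : Set G)) = 4 := by
    have hAle : A ≤ centralizer ({t} : Set G) := hC ▸ le_sup_left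
    have hxC : x ∈ centralizer ({t} : Set G) := mem_centralizer_singleton_iff.2 hxt
    have hA : A = zpowers t := by
      refine le_antisymm (fun b hb => ?_) (zpowers_le.2 htA)
      rcases hA2 b hb with rfl | rfl
      exacts [one_mem _, mem_zpowers _]
    have hidx : (A.subgroupOf (centralizer ({t} : Set G))).index = 2 := by
      refine index_eq_two_iff.2 ⟨⟨x, hxC⟩, fun b => ?_⟩
      simp only [mem_subgroupOf, coe_mul]
      rcases hHcases b b.2 with hb | hb
      · exact Or.inr ⟨hb, fun hc => hxA ((A.mul_mem_cancel_left hb).1 hc)⟩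
      · exact Or.inl ⟨hb, fun hc => hxA ((A.mul_mem_cancel_left hc).1 hb)⟩
    have e := (A.subgroupOf (centralizer ({t} : Set G))).card_mul_index
    rw [hidx, Nat.card_congr (subgroupOfEquivOfLe hAle).toEquiv, hA, Nat.card_zpowers, ht] at e
    exact e.symm
  -- pass to the quotient by `z`
  haveI hZn : (zpowers z).Normal := ⟨fun b hb g => by
    rwa [mem_center_iff.1 ((zpowers_le.2 hzc) hb) g, mul_inv_cancel_right]⟩
  set Z := zpowers z with hZdef
  have hZcard : Nat.card Z = 2 := by rw [hZdef, Nat.card_zpowers, hS.z2]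
  have hZmem : ∀ b ∈ Z, b = 1 ∨ b = z := by
    rintro _ ⟨i, rfl⟩
    rcases Int.even_or_odd i with ⟨l, rfl⟩ | ⟨l, rfl⟩
    · left; simp [← two_mul, zpow_mul, zpow_two, pow_two, hS.zz]
    · right; simp [zpow_add, zpow_mul, zpow_two, pow_two, hS.zz]
  set π := QuotientGroup.mk' Z with hπ
  have hOq : ∀ N : Subgroup (G ⧸ Z), N.Normal → Odd (Nat.card N) → N = ⊥ := by
    intro N hN hNo
    haveI := hN
    have h1 := CfsgLib.Invol.oddCore_quotient_central_two hOc Z
      (IsPGroup.of_card (n := 1) (by rw [hZcard, pow_one])) (zpowers_le.2 hzc)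
    exact le_bot_iff.1 (h1 ▸ CfsgLib.Cores.le_oddCore_of_odd hNo)
  have hnsq : ¬ Group.IsSolvable (G ⧸ Z) := fun hs => by
    haveI := hs
    haveI : Group.IsSolvable Z := Group.isSolvable_of_comm fun p q =>
      (IsCyclic.commGroup (α := Z)).mul_comm p q
    exact hns (Group.isSolvable_of_ker_le_range Z.subtype π
      (le_of_eq ((QuotientGroup.ker_mk' Z).trans (range_subtype Z).symm)))
  have hty : t * a * t⁻¹ = z * (a : G)⁻¹ := by
    rw [← hj₀]
    calc _ = (a : G) ^ j₀ * ((y : G) * a * (y : G)⁻¹) * ((a : G) ^ j₀)⁻¹ := by group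
      _ = (a : G) ^ j₀ * (z * (a : G)⁻¹) * ((a : G) ^ j₀)⁻¹ := by rw [hS.ay]
      _ = z * (a : G)⁻¹ := by
        rw [← mul_assoc, (hS.za.zpow_right j₀).eq.symm]; group
  have hta : t ∉ zpowers (a : G) := fun hm => by
    obtain ⟨i, hi⟩ := hm
    have hi' : (a : G) ^ i = t := hi
    rw [← hi', (Commute.refl (a : G)).zpow_left i |>.eq, mul_inv_cancel_right] at hty
    have e2 : (a : G) * a = z := by
      calc (a : G) * a = z * (a : G)⁻¹ * a := by rw [← hty]
        _ = z := by group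
    have := orderOf_dvd_of_pow_eq_one (show (a : G) ^ 4 = 1 by
      rw [show (a : G) ^ 4 = (a : G) * a * ((a : G) * a) by simp [pow_succ, mul_assoc], e2, hS.zz])
    rw [hS.ord] at this
    have h3 : 2 ^ 3 ≤ 2 ^ n := Nat.pow_le_pow_right (by norm_num) hn
    have := Nat.le_of_dvd (by norm_num) this
    omega
  -- the image of the Sylow subgroup is dihedral
  let T' : Sylow 2 (G ⧸ Z) := T.mapSurjective (f := π) (QuotientGroup.mk'_surjective Z)
  have hT' : (T' : Subgroup (G ⧸ Z)) = (T : Subgroup G).map π := rfl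
  have hn1 : n - 1 + 1 = n := by omega
  have hoa : orderOf (π (a : G)) = 2 ^ (n - 1) := by
    have hp : π (a : G) ^ 2 ^ (n - 1 - 1 + 1) = 1 := by
      rw [show n - 1 - 1 + 1 = n - 1 by omega, ← map_pow, ← hzd, hπ, QuotientGroup.mk'_apply,
        QuotientGroup.eq_one_iff]
      exact mem_zpowers z
    have hnp : ¬ π (a : G) ^ 2 ^ (n - 1 - 1) = 1 := fun e => by
      rw [← map_pow, hπ, QuotientGroup.mk'_apply, QuotientGroup.eq_one_iff] at e
      have h2 : ((a : G) ^ 2 ^ (n - 1 - 1)) ^ 2 = 1 := by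
        rw [pow_two]
        rcases hZmem _ e with e' | e' <;> rw [e']
        exacts [mul_one 1, hS.zz]
      rw [← pow_mul, ← pow_succ, show n - 1 - 1 + 1 = n - 1 by omega, ← hzd] at h2
      exact (orderOf_eq_two_iff'.1 hS.z2).1 h2
    rw [orderOf_eq_prime_pow hnp hp, show n - 1 - 1 + 1 = n - 1 by omega]
  have hdd : CfsgLib.Recognition.CycNorm.DihData (T' : Subgroup (G ⧸ Z)) (2 ^ (n - 1)) (π (a : G)) (π t) := by
    refine ⟨Nat.le_self_pow (by omega) 2, hT' ▸ mem_map_of_mem π a.2, hT' ▸ mem_map_of_mem π htT, hoa,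
      by rw [← map_mul, ht2, map_one], ?_, ?_, ?_⟩
    · rw [← map_mul, ← map_mul, ← map_inv,
        show t * (a : G) * t = t * a * t⁻¹ by rw [inv_eq_of_orderOf_two ht], hty, map_mul,
        show π z = 1 from (QuotientGroup.eq_one_iff z).2 (mem_zpowers z), one_mul]
    · intro hm
      rw [← MonoidHom.map_zpowers] at hm
      obtain ⟨b, hb, hbt⟩ := hm
      refine hta ?_
      have hbz : b⁻¹ * t ∈ Z := QuotientGroup.eq.1 hbt
      have hzle : Z ≤ zpowers (a : G) := zpowers_le.2 (hzd ▸ pow_mem (mem_zpowers _) _)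
      simpa using mul_mem hb (hzle hbz)
    · have hle : Z ≤ (T : Subgroup G) := zpowers_le.2 hzT
      have e := CfsgLib.Solvable.card_comap_mk' Z (T' : Subgroup (G ⧸ Z))
      rw [hT', comap_map_eq, QuotientGroup.ker_mk', sup_eq_left.2 hle, hcard, hZcard, pow_succ'] at e
      rw [hT', ← pow_succ', hn1]
      exact (Nat.eq_of_mul_eq_mul_left two_pos e).symm
  -- the centraliser of the image of `t` has order four
  have htb : orderOf (π t) = 2 := orderOf_eq_two_iff'.2 ⟨fun e => by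
    rcases hZmem t ((QuotientGroup.eq_one_iff t).1 e) with e' | e'
    · exact ht1 e'
    · exact hne 1 (by rw [e']; group), by rw [← map_mul, ht2, map_one]⟩
  have hC4' : Nat.card (centralizer ({π t} : Set (G ⧸ Z))) = 4 := by
    set M := (centralizer ({π t} : Set (G ⧸ Z))).comap π with hM
    have hmem : ∀ g : G, g ∈ M ↔ g * t * g⁻¹ = t ∨ g * t * g⁻¹ = t * z := by
      intro g
      rw [hM, mem_comap, mem_centralizer_singleton_iff, ← map_mul, ← map_mul]
      constructor
      · intro e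
        have e' : (g * t)⁻¹ * (t * g) ∈ Z := QuotientGroup.eq.1 e
        have key : g * t * g⁻¹ = t * ((g * t)⁻¹ * (t * g))⁻¹ := by
          have hc := mem_center_iff.1 ((zpowers_le.2 hzc) (inv_mem e')) g
          calc g * t * g⁻¹ = t * (g * ((g * t)⁻¹ * (t * g))⁻¹ * g⁻¹) := by group
            _ = _ := by rw [hc, mul_inv_cancel_right]
        rcases hZmem _ e' with e'' | e'' <;> rw [e''] at key
        · left; simpa using key
        · right; rw [key, inv_eq_of_orderOf_two hS.z2]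
      · intro e
        rcases e with e | e
        · rw [mul_inv_eq_iff_eq_mul.1 e]
        · rw [mul_inv_eq_iff_eq_mul.1 e, map_mul, map_mul,
            show π z = 1 from (QuotientGroup.eq_one_iff z).2 (mem_zpowers z), mul_one]
          exact (map_mul π t g).symm
    set g₀ := (a : G) ^ 2 ^ (n - 2) with hg₀
    have hg₀t : g₀ * t * g₀⁻¹ = t * z := by
      have e1 : t * g₀ * t⁻¹ = g₀⁻¹ := by
        rw [hg₀, ← conj_pow, hty, hS.za.inv_right.mul_pow, inv_pow,
          show z ^ 2 ^ (n - 2) = 1 from orderOf_dvd_iff_pow_eq_one.1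
            (by rw [hS.z2]; exact dvd_pow_self 2 (by omega)), one_mul]
      have e2 : g₀ * g₀ = z := by
        rw [hg₀, ← pow_add, ← two_mul, ← pow_succ', show n - 2 + 1 = n - 1 by omega, ← hzd]
      calc g₀ * t * g₀⁻¹ = g₀ * (t * g₀⁻¹ * t⁻¹) * t := by group
        _ = g₀ * g₀ * t := by
            rw [show t * g₀⁻¹ * t⁻¹ = (t * g₀ * t⁻¹)⁻¹ by group, e1, inv_inv]
        _ = t * z := by rw [e2, mem_center_iff.1 hzc t]
    have hle : centralizer ({t} : Set G) ≤ M := fun g hg => (hmem g).2 (Or.inl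
      (mul_inv_eq_iff_eq_mul.2 (mem_centralizer_singleton_iff.1 hg)))
    have hidx : ((centralizer ({t} : Set G)).subgroupOf M).index = 2 := by
      refine index_eq_two_iff.2 ⟨⟨g₀, (hmem g₀).2 (Or.inr hg₀t)⟩, fun b => ?_⟩
      simp only [mem_subgroupOf, coe_mul, mem_centralizer_singleton_iff, ← mul_inv_eq_iff_eq_mul]
      have hne' : t * z ≠ t := fun e => (orderOf_eq_two_iff'.1 hS.z2).1 (mul_eq_left.1 e)
      have e3 : (b : G) * g₀ * t * ((b : G) * g₀)⁻¹ = (b : G) * t * (b : G)⁻¹ * z := by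
        calc (b : G) * g₀ * t * ((b : G) * g₀)⁻¹ = (b : G) * (g₀ * t * g₀⁻¹) * (b : G)⁻¹ := by group
          _ = (b : G) * t * (z * (b : G)⁻¹) := by rw [hg₀t]; group
          _ = _ := by rw [← mem_center_iff.1 hzc]; group
      rw [e3]
      rcases (hmem b).1 b.2 with hb | hb <;> rw [hb]
      · exact Or.inr ⟨rfl, hne'⟩
      · exact Or.inl ⟨by rw [mul_assoc, hS.zz, mul_one], hne'⟩
    have h8 := ((centralizer ({t} : Set G)).subgroupOf M).card_mul_index
    rw [hidx, Nat.card_congr (subgroupOfEquivOfLe hle).toEquiv, hC4, hM,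
      CfsgLib.Solvable.card_comap_mk', hZcard] at h8
    omega
  obtain ⟨F, iF, iF', h3, hiso'⟩ := hdih (G ⧸ Z) T' _ hdd.equiv (π t) htb hC4' hOq hnsq
  exact ⟨Z, hZn, Or.inr ⟨1, odd_one, by rw [hZcard, mul_one]⟩, F, iF, iF', h3, hiso'⟩

end CfsgLib.DihCore.Red
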