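import Cfsg.Agent.Lib.DihCore.Reduced
import Cfsg.Agent.Lib.DihCore.RedQuasi
import Cfsg.Agent.Lib.DihCore.Assembly

/-!
# The cyclic branch of the self-centralising D-group theorem
-/

set_option autoImplicit false

namespace CfsgLib.DihCore

universe u

theorem quasiStep : Red.QuasiStep.{u} :=
  fun Q _ _ T hQ A x t h htT hO hns =>
    Red.target_of_quasi T hQ A h.comm x h.hx h.hxA h.inv t h.ht h.htA h.uniq h.hC htT hO hns
      fun Q' _ _ T' n he t' ht' h4 hO' hns' => Red.target_of_four T' n he t' ht' h4 hO' hns'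

theorem target_of_cyclic {G : Type u} [Group G] [Finite G] : CyclicBranch G :=
  fun _A hAc _x hx hxA hinv _ _t ht htA hcyc hC hns =>
    Red.target_of_cent quasiStep ⟨hAc, hx, hxA, hinv, ht, htA, hcyc, hC⟩ hns

end CfsgLib.DihCore
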