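import Mathlib
import Cfsg.Prelude.Def_TwoFusion
import Cfsg.Agent.S0205
import Cfsg.Agent.S1230

/-!
# Self-centralising D-groups: elementary facts and the elementary abelian case

`H` is a D-group with witness `A`: every element of `H` outside `A` squares to `1`.
-/

set_option autoImplicit false

namespace CfsgLib.DihCore

universe u

variable {G : Type u} [Group G]

/-- The conclusion of the theorem: `G ⧸ N` is `PSL(2, q)` or `PGL(2, q)`, `N` of order odd or twice odd. -/
def Target (G : Type u) [Group G] : Prop :=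
  ∃ (N : Subgroup G) (_ : N.Normal), (Odd (Nat.card ↥N) ∨ ∃ m : ℕ, Odd m ∧ Nat.card ↥N = 2 * m) ∧
    ∃ (F : Type) (_ : Field F) (_ : Fintype F), 3 < Fintype.card F ∧
      (Nonempty (G ⧸ N ≃* Matrix.ProjectiveSpecialLinearGroup (Fin 2) F) ∨
        Nonempty (G ⧸ N ≃* Matrix.ProjGenLinGroup (Fin 2) F))

/-- A finite group with a normal odd-order subgroup and a solvable quotient is solvable. -/
theorem isSolvable_of_odd_normal [Finite G] (K : Subgroup G) [K.Normal] (hK : Odd (Nat.card K))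
    (hq : Group.IsSolvable (G ⧸ K)) : Group.IsSolvable G := by
  haveI := Cfsg.Agent.S0205.result hK
  haveI := hq
  exact Group.isSolvable_of_ker_le_range K.subtype (QuotientGroup.mk' K)
    (by rw [QuotientGroup.ker_mk', Subgroup.range_subtype])

/-- A finite group with a normal Sylow 2-subgroup is solvable. -/
theorem isSolvable_of_sylow_normal [Finite G] (P : Sylow 2 G) [(P : Subgroup G).Normal] :
    Group.IsSolvable G := by
  haveI : Fact (Nat.Prime 2) := ⟨Nat.prime_two⟩
  have hodd : Odd (Nat.card (G ⧸ (P : Subgroup G))) := by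
    rw [← Subgroup.index_eq_card, ← Nat.not_even_iff_odd, even_iff_two_dvd]
    exact P.not_dvd_index
  haveI : Group.IsNilpotent ↥(P : Subgroup G) := P.isPGroup'.isNilpotent
  haveI := Cfsg.Agent.S0205.result hodd
  exact Group.isSolvable_of_ker_le_range (P : Subgroup G).subtype (QuotientGroup.mk' _)
    (le_of_eq ((QuotientGroup.ker_mk' _).trans (Subgroup.range_subtype _).symm))

section DGroup

variable {H A : Subgroup G}

theorem invol_mul_self (hD : ∀ x ∈ H, x ∉ A → x ^ 2 = 1) {x : G} (hx : x ∈ H) (hxA : x ∉ A) :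
    x * x = 1 := by
  rw [← sq]; exact hD x hx hxA

/-- An element of `H` outside `A` inverts `A`. -/
theorem inverts (hAH : A ≤ H) (hD : ∀ x ∈ H, x ∉ A → x ^ 2 = 1) {x : G} (hx : x ∈ H) (hxA : x ∉ A)
    {a : G} (ha : a ∈ A) : x * a * x⁻¹ = a⁻¹ := by
  have hx2 := invol_mul_self hD hx hxA
  have hxinv : x⁻¹ = x := inv_eq_of_mul_eq_one_right hx2
  have h := invol_mul_self hD (H.mul_mem hx (hAH ha))
    (fun hc => hxA ((A.mul_mem_cancel_right ha).1 hc))
  have h' : (x * a * x) * a = 1 := by rw [← h]; group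
  rw [hxinv]
  exact eq_inv_of_mul_eq_one_left h'

theorem comm_of_lt (hAH : A < H) (hD : ∀ x ∈ H, x ∉ A → x ^ 2 = 1) {a b : G} (ha : a ∈ A)
    (hb : b ∈ A) : a * b = b * a := by
  obtain ⟨x, hx, hxA⟩ := SetLike.exists_of_lt hAH
  have e1 := inverts hAH.le hD hx hxA (A.mul_mem ha hb)
  have e2 : x * (a * b) * x⁻¹ = a⁻¹ * b⁻¹ := by
    rw [← inverts hAH.le hD hx hxA ha, ← inverts hAH.le hD hx hxA hb]; group
  have e3 := congrArg (·⁻¹) (e1.symm.trans e2)
  simpa [mul_inv_rev] using e3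

/-- If some element of `A` has order greater than 2 then `A` has index 2 in `H`. -/
theorem mul_mem_of_not_mem (hAH : A ≤ H) (hD : ∀ x ∈ H, x ∉ A → x ^ 2 = 1) {a₀ : G} (ha₀ : a₀ ∈ A)
    (h₀ : a₀ * a₀ ≠ 1) {x y : G} (hx : x ∈ H) (hxA : x ∉ A) (hy : y ∈ H) (hyA : y ∉ A) :
    x * y ∈ A := by
  by_contra hc
  have e1 := inverts hAH hD (H.mul_mem hx hy) hc ha₀
  have e2 : x * y * a₀ * (x * y)⁻¹ = a₀ := by
    rw [show x * y * a₀ * (x * y)⁻¹ = x * (y * a₀ * y⁻¹) * x⁻¹ by group,
      inverts hAH hD hy hyA ha₀, inverts hAH hD hx hxA (A.inv_mem ha₀), inv_inv]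
  rw [e2] at e1
  exact h₀ (mul_eq_one_iff_eq_inv.2 e1)

end DGroup

variable [Finite G]

/-- **Elementary abelian case.** -/
theorem target_of_elementary (H : Subgroup G) (h4 : 4 ∣ Nat.card ↥H) (hH : ∀ h ∈ H, h * h = 1)
    (hC : ∀ j ∈ H, orderOf j = 2 → (∀ h ∈ H, h * j = j * h) →
      Subgroup.centralizer ({j} : Set G) = H)
    (hns : ¬ Group.IsSolvable G) : Target G := by
  haveI : Fact (Nat.Prime 2) := ⟨Nat.prime_two⟩
  have hcomm : ∀ a ∈ H, ∀ b ∈ H, a * b = b * a := by
    intro a ha b hb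
    have e1 : a⁻¹ = a := inv_eq_of_mul_eq_one_right (hH a ha)
    have e2 : b⁻¹ = b := inv_eq_of_mul_eq_one_right (hH b hb)
    have e3 : (a * b)⁻¹ = a * b := inv_eq_of_mul_eq_one_right (hH _ (H.mul_mem ha hb))
    rw [← e3, mul_inv_rev, e1, e2]
  have hCj : ∀ j ∈ H, orderOf j = 2 → Subgroup.centralizer ({j} : Set G) = H :=
    fun j hj hj2 => hC j hj hj2 fun h hh => hcomm h hh j hj
  have hHp : IsPGroup 2 H := fun h => ⟨1, Subtype.ext (by simpa [pow_two] using hH h h.2)⟩
  obtain ⟨T, hT⟩ := hHp.exists_le_sylow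
  -- `H` is a Sylow 2-subgroup
  have hTH : (T : Subgroup G) = H := by
    refine le_antisymm ?_ hT
    haveI : Nontrivial ↥(T : Subgroup G) := by
      rw [← Finite.one_lt_card_iff_nontrivial]
      have h1 := Nat.le_of_dvd Nat.card_pos (h4.trans (Subgroup.card_dvd_of_le hT))
      omega
    haveI := T.isPGroup'.center_nontrivial
    obtain ⟨z, hz⟩ := exists_prime_orderOf_dvd_card' (G := Subgroup.center ↥(T : Subgroup G)) 2 (by
      obtain ⟨n, hn⟩ := (T.isPGroup'.to_subgroup (Subgroup.center ↥(T : Subgroup G))).exists_card_eq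
      have h1 : 1 < Nat.card (Subgroup.center ↥(T : Subgroup G)) := Finite.one_lt_card
      cases n with
      | zero => simp [hn] at h1
      | succ n => exact ⟨2 ^ n, by rw [hn, pow_succ']⟩)
    have hz2 : orderOf ((z : ↥(T : Subgroup G)) : G) = 2 := by
      rw [Subgroup.orderOf_coe, Subgroup.orderOf_coe, hz]
    have hcz : ∀ t ∈ (T : Subgroup G), t * ((z : ↥(T : Subgroup G)) : G) = ((z : ↥(T : Subgroup G)) : G) * t :=
      fun t ht => congrArg Subtype.val (Subgroup.mem_center_iff.1 z.2 ⟨t, ht⟩)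
    -- `z` centralises some involution of `H`
    obtain ⟨j, hj⟩ := exists_prime_orderOf_dvd_card' (G := H) 2 ((by norm_num : 2 ∣ 4).trans h4)
    have hzH : ((z : ↥(T : Subgroup G)) : G) ∈ H := by
      rw [← hCj j j.2 (by rw [Subgroup.orderOf_coe, hj])]
      exact Subgroup.mem_centralizer_singleton_iff.2 ((hcz j (hT j.2)).symm)
    rw [← hCj _ hzH hz2]
    exact fun t ht => Subgroup.mem_centralizer_singleton_iff.2 (hcz t ht)
  have hCall : ∀ t : G, orderOf t = 2 → IsMulCommutative (Subgroup.centralizer ({t} : Set G)) ∧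
      ∀ c ∈ Subgroup.centralizer ({t} : Set G), c ^ 2 = 1 := by
    intro t ht
    obtain ⟨S, hS⟩ := (IsPGroup.of_card (G := Subgroup.zpowers t) (p := 2) (n := 1)
      (by rw [Nat.card_zpowers, ht, pow_one])).exists_le_sylow
    obtain ⟨g, hg⟩ := MulAction.exists_smul_eq G S T
    have htH : g * t * g⁻¹ ∈ H := by
      rw [← hTH, ← hg]
      exact ⟨t, hS (Subgroup.mem_zpowers t), rfl⟩
    have hc : ∀ c ∈ Subgroup.centralizer ({t} : Set G), g * c * g⁻¹ ∈ H := by
      intro c hc
      rw [← hCj _ htH (by rw [← MulAut.conj_apply, MulEquiv.orderOf_eq, ht]),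
        Subgroup.mem_centralizer_singleton_iff]
      have := Subgroup.mem_centralizer_singleton_iff.1 hc
      calc g * c * g⁻¹ * (g * t * g⁻¹) = g * (c * t) * g⁻¹ := by group
        _ = g * (t * c) * g⁻¹ := by rw [this]
        _ = g * t * g⁻¹ * (g * c * g⁻¹) := by group
    refine ⟨⟨⟨fun a b => Subtype.ext ?_⟩⟩, fun c hcc => ?_⟩
    · have := hcomm _ (hc a a.2) _ (hc b b.2)
      apply mul_left_cancel (a := g)
      apply mul_right_cancel (b := g⁻¹)
      calc g * ((a : G) * b) * g⁻¹ = (g * a * g⁻¹) * (g * b * g⁻¹) := by group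
        _ = (g * b * g⁻¹) * (g * a * g⁻¹) := this
        _ = g * ((b : G) * a) * g⁻¹ := by group
    · have := hH _ (hc c hcc)
      rw [sq]
      apply mul_left_cancel (a := g)
      apply mul_right_cancel (b := g⁻¹)
      calc g * (c * c) * g⁻¹ = (g * c * g⁻¹) * (g * c * g⁻¹) := by group
        _ = 1 := this
        _ = g * 1 * g⁻¹ := by group
  have hnc : ¬ IsCyclic (T : Subgroup G) := by
    intro hcyc
    obtain ⟨g, hg⟩ := hcyc.exists_generator
    have h1 : orderOf g = Nat.card (T : Subgroup G) := orderOf_eq_card_of_forall_mem_zpowers hg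
    have h2 : orderOf g ∣ 2 := orderOf_dvd_of_pow_eq_one
      (Subtype.ext (by simpa [pow_two] using hH g (hTH ▸ g.2)))
    have h3 : 4 ∣ 2 := (by rw [h1, hTH]; exact h4 : 4 ∣ orderOf g).trans h2
    omega
  have hnn : ¬ (T : Subgroup G).Normal := fun h => hns (by haveI := h; exact isSolvable_of_sylow_normal T)
  obtain ⟨F, iF, iF', hcard, ⟨e⟩⟩ := Cfsg.Agent.S1230.result T hnc hnn hCall
  refine ⟨⊥, inferInstance, Or.inl (by simp), F, iF, iF', ?_, Or.inl ⟨QuotientGroup.quotientBot.trans e⟩⟩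
  rw [hcard, hTH]
  exact Nat.lt_of_lt_of_le (by norm_num) (Nat.le_of_dvd Nat.card_pos h4)

end CfsgLib.DihCore
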