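import Cfsg.Agent.Lib.DihCore.Maximal
import Cfsg.Agent.Lib.Cores.BrauerWielandt
import Cfsg.Agent.Lib.Signalizer.Basic
import Cfsg.Agent.Lib.PStab.Control
import Cfsg.Agent.Lib.Invol.Counting
import Cfsg.Agent.S0215

/-!
The normaliser of `Z(J(R))` fuses all involutions of the Sylow 2-subgroup.
-/

set_option autoImplicit false

namespace CfsgLib.DihCore

open Subgroup Cfsg CfsgLib.PStab

variable {G : Type*} [Group G] [Finite G]

/-- In a dihedral 2-group a noncentral involution is conjugate to its product with the central one unless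
the group has order four. -/
theorem conj_or_four {S : Sylow 2 G} {n : ℕ} (hn : 2 ≤ n) (e : (S : Subgroup G) ≃* DihedralGroup n) {t v : G}
    (ht : orderOf t = 2) (htS : t ∈ (S : Subgroup G)) (htZ : ∀ s ∈ (S : Subgroup G), s * t = t * s)
    (hv : orderOf v = 2) (hvS : v ∈ (S : Subgroup G)) (hvt : v ≠ t) :
    (∃ s ∈ (S : Subgroup G), s * v * s⁻¹ = t * v) ∨
      ∀ w ∈ (S : Subgroup G), orderOf w = 2 → w = t ∨ w = v ∨ w = t * v := by
  haveI : Fact (Nat.Prime 2) := ⟨Nat.prime_two⟩
  haveI : NeZero n := ⟨by omega⟩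
  have hcard : Nat.card (S : Subgroup G) = 2 * n := by
    rw [Nat.card_congr e.toEquiv, DihedralGroup.nat_card]
  rcases eq_or_lt_of_le hn with h2 | h2
  · -- order four
    right
    intro w hw hwo
    by_contra hne
    simp only [not_or] at hne
    obtain ⟨h1, h2', h3⟩ := hne
    have hx1 := Invol.ne_one_of_orderOf_two ht
    have hv1 := Invol.ne_one_of_orderOf_two hv
    have hw1 := Invol.ne_one_of_orderOf_two hwo
    have htv : t * v ≠ 1 := fun e1 => hvt (by
      calc v = t * (t * v) := by rw [← mul_assoc, Invol.mul_self_of_orderOf_two ht, one_mul]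
        _ = t := by rw [e1, mul_one])
    classical
    have hsub : ∀ x ∈ ({1, t, v, t * v, w} : Finset G), x ∈ (S : Subgroup G) := by
      simp [hw, htS, hvS, mul_mem htS hvS, one_mem]
    have d2 : t ≠ t * v := fun e1 => hv1 (mul_eq_left.1 e1.symm)
    have d3 : v ≠ t * v := fun e1 => hx1 (mul_eq_right.1 e1.symm)
    have h5 : Nat.card ↥({1, t, v, t * v, w} : Finset G) ≤ Nat.card (S : Subgroup G) :=
      Nat.card_le_card_of_injective (fun x => ⟨x.1, hsub x.1 x.2⟩) fun x y hxy =>
        Subtype.ext (congrArg Subtype.val hxy :)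
    rw [hcard, Nat.card_eq_fintype_card, Fintype.card_coe, Finset.card_insert_of_notMem
        (by simp [hx1.symm, hv1.symm, hw1.symm, Ne.symm htv]),
      Finset.card_insert_of_notMem (by simp [hvt.symm, d2, Ne.symm h1]),
      Finset.card_insert_of_notMem (by simp [d3, Ne.symm h2']),
      Finset.card_insert_of_notMem (by simp [Ne.symm h3]), Finset.card_singleton] at h5
    omega
  left
  obtain ⟨k, hk⟩ := IsPGroup.iff_card.1 S.2
  rw [hcard] at hk
  obtain ⟨h, hh, hn4⟩ : ∃ h, n = 2 * h ∧ Even h := by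
    rcases k with _ | _ | _ | k
    · simp at hk
    · norm_num at hk; omega
    · norm_num at hk; omega
    · exact ⟨2 * 2 ^ k, by rw [pow_succ, pow_succ, pow_succ] at hk; omega, ⟨2 ^ k, two_mul _⟩⟩
  obtain ⟨m, rfl⟩ := hn4
  set te := e ⟨t, htS⟩ with hte
  set ve := e ⟨v, hvS⟩ with hve
  have hte2 : orderOf te = 2 := by rw [hte, e.orderOf_eq, Subgroup.orderOf_mk]; exact ht
  have hve2 : orderOf ve = 2 := by rw [hve, e.orderOf_eq, Subgroup.orderOf_mk]; exact hv
  have hcen : ∀ x, x * te = te * x := fun x => by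
    obtain ⟨⟨s, hs⟩, rfl⟩ := e.surjective x
    rw [hte, ← map_mul, ← map_mul]
    exact congrArg e (Subtype.ext (htZ s hs))
  have hne : ve ≠ te := fun e1 => hvt (congrArg Subtype.val (e.injective e1))
  -- the central involution is the half turn
  have hrot : ∀ j : ZMod n, j + j = 0 → j = 0 ∨ j = ((m + m : ℕ) : ZMod n) := by
    intro j hj
    rw [← ZMod.natCast_zmod_val j, ← Nat.cast_add, ZMod.natCast_eq_zero_iff] at hj
    obtain ⟨l, hl⟩ := hj
    have hlt := ZMod.val_lt j
    have hl2 : l < 2 := by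
      by_contra hge
      push Not at hge
      have : n * 2 ≤ n * l := Nat.mul_le_mul_left n hge
      omega
    interval_cases l
    · left
      rw [← ZMod.natCast_zmod_val j, show j.val = 0 by omega, Nat.cast_zero]
    · right
      rw [← ZMod.natCast_zmod_val j, show j.val = m + m by omega]
  have hrinv : ∀ x : DihedralGroup n, orderOf x = 2 →
      x = DihedralGroup.r ((m + m : ℕ) : ZMod n) ∨ ∃ i, x = DihedralGroup.sr i := by
    intro x hx
    cases x with
    | r j =>
      left
      have h1 := hx ▸ pow_orderOf_eq_one (DihedralGroup.r j)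
      rw [pow_two, DihedralGroup.r_mul_r, DihedralGroup.one_def, DihedralGroup.r.injEq] at h1
      rcases hrot j h1 with rfl | rfl
      · exact absurd hx (by rw [← DihedralGroup.one_def, orderOf_one]; norm_num)
      · rfl
    | sr i => exact Or.inr ⟨i, rfl⟩
  have hter : te = DihedralGroup.r ((m + m : ℕ) : ZMod n) := by
    rcases hrinv te hte2 with h | ⟨i, hi⟩
    · exact h
    · exfalso
      have h1 := hcen (DihedralGroup.r 1)
      rw [hi, DihedralGroup.r_mul_sr, DihedralGroup.sr_mul_r, DihedralGroup.sr.injEq] at h1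
      have h3 : ((2 : ℕ) : ZMod n) = 0 := by
        push_cast
        linear_combination -h1
      rw [ZMod.natCast_eq_zero_iff] at h3
      have := Nat.le_of_dvd two_pos h3
      omega
  obtain ⟨i, hi⟩ : ∃ i, ve = DihedralGroup.sr i := by
    rcases hrinv ve hve2 with h | h
    · exact absurd (h.trans hter.symm) hne
    · exact h
  refine ⟨(e.symm (DihedralGroup.r ((m : ℕ) : ZMod n)) : G), SetLike.coe_mem _, ?_⟩
  have h2m : ((2 * (m + m) : ℕ) : ZMod n) = 0 := by rw [← hh]; exact ZMod.natCast_self n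
  have key : DihedralGroup.r ((m : ℕ) : ZMod n) * ve * (DihedralGroup.r ((m : ℕ) : ZMod n))⁻¹ = te * ve := by
    rw [hi, hter, DihedralGroup.inv_r, DihedralGroup.r_mul_sr, DihedralGroup.sr_mul_r, DihedralGroup.r_mul_sr,
      DihedralGroup.sr.injEq]
    push_cast
    ring
  have h3 := congrArg (fun x => ((e.symm x : (S : Subgroup G)) : G)) key
  simpa [hte, hve, -DihedralGroup.inv_r] using h3

variable {p : ℕ} [hp : Fact p.Prime] {S : Sylow 2 G} {t v z : G} {R : Subgroup G}

/-- An element of a subgroup containing the Sylow 2-subgroup moves a given involution of the centraliser of `t`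
into it. -/
theorem Cfg.exists_adjust (hc : Cfg p S t v z R) (K : Subgroup G) (hSK : (S : Subgroup G) ≤ K) {w : G}
    (hw : orderOf w = 2) (hwK : w ∈ K) (hwt : w * t = t * w) :
    ∃ c ∈ K, c * t = t * c ∧ c * w * c⁻¹ ∈ (S : Subgroup G) := by
  haveI : Fact (Nat.Prime 2) := ⟨Nat.prime_two⟩
  set L := K ⊓ centralizer ({t} : Set G) with hL
  have hSL : (S : Subgroup G) ≤ L := fun s hs =>
    mem_inf.2 ⟨hSK hs, mem_centralizer_singleton_iff.2 (hc.htZ s hs)⟩
  let T := S.subtype hSL
  let w' : L := ⟨w, mem_inf.2 ⟨hwK, mem_centralizer_singleton_iff.2 hwt⟩⟩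
  have hw' : IsPGroup 2 (zpowers w') :=
    IsPGroup.of_card (n := 1) (by rw [Nat.card_zpowers, pow_one, ← Subgroup.orderOf_coe]; exact hw)
  obtain ⟨U, hU⟩ := hw'.exists_le_sylow
  obtain ⟨c, hcU⟩ := MulAction.exists_smul_eq L T U
  have h1 := hU (mem_zpowers w')
  rw [← hcU, Sylow.coe_subgroup_smul, Subgroup.mem_pointwise_smul_iff_inv_smul_mem] at h1
  refine ⟨((c⁻¹ : L) : G), (mem_inf.1 (c⁻¹).2).1, mem_centralizer_singleton_iff.1 (mem_inf.1 (c⁻¹).2).2, ?_⟩
  have h2 : ((c : L) : G)⁻¹ * w * c ∈ (S : Subgroup G) := h1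
  simpa using h2

/-- Every `p`-element commuting with `x` lies in `R`. -/
def Full (p : ℕ) (R : Subgroup G) (x : G) : Prop :=
  ∀ y, y * x = x * y → IsPGroup p (zpowers y) → y ∈ R

theorem Full.conj {x g : G} (h : Full p R x) (hg : g ∈ normalizer (R : Set G)) : Full p R (g * x * g⁻¹) := by
  intro y hy hyp
  have h1 : g⁻¹ * y * g * x = x * (g⁻¹ * y * g) := by
    calc g⁻¹ * y * g * x = g⁻¹ * (y * (g * x * g⁻¹)) * g := by group
      _ = g⁻¹ * (g * x * g⁻¹ * y) * g := by rw [hy]
      _ = _ := by group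
  have hp1 : IsPGroup p (zpowers (g⁻¹ * y * g)) := by
    have := hyp.map (MulAut.conj g⁻¹).toMonoidHom
    have e : (MulAut.conj g⁻¹).toMonoidHom y = g⁻¹ * y * g := by
      show g⁻¹ * y * g⁻¹⁻¹ = _
      rw [inv_inv]
    rwa [MonoidHom.map_zpowers, e] at this
  have h2 := (mem_normalizer_iff.1 hg _).1 (h _ h1 hp1)
  simpa [mul_assoc] using h2

/-- The number of `p`-elements of `R` centralised by the three involutions of a four-group. -/
theorem card_three (hC : Cent G) {a b : G} (ha : orderOf a = 2) (hb : orderOf b = 2) (hne : b ≠ a)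
    (hab : b * a = a * b) (hR : IsPGroup p R) (hp2 : p ≠ 2) (haR : a ∈ normalizer (R : Set G))
    (hbR : b ∈ normalizer (R : Set G)) :
    Nat.card R = Nat.card ↥(R ⊓ centralizer ({a} : Set G)) * Nat.card ↥(R ⊓ centralizer ({b} : Set G)) *
      Nat.card ↥(R ⊓ centralizer ({b * a} : Set G)) := by
  classical
  haveI : Fact (Nat.Prime 2) := ⟨Nat.prime_two⟩
  obtain ⟨k, hk⟩ := IsPGroup.iff_card.1 hR
  have hodd : Odd (Nat.card R) := hk ▸ (hp.out.odd_of_ne_two hp2).pow
  have hfix : R ⊓ centralizer ((zpowers a ⊔ zpowers b : Subgroup G) : Set G) = ⊥ := by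
    rw [eq_bot_iff]
    rintro y ⟨hy, hyc⟩
    rw [SetLike.mem_coe, CfsgLib.Cores.centralizer_eq_inf_of_gen] at hyc
    obtain ⟨hya, hyb⟩ := hyc
    have hya := mem_centralizer_singleton_iff.1 hya
    have hyb := mem_centralizer_singleton_iff.1 hyb
    rw [mem_bot]
    by_contra hy1
    refine hne (hC.eq_of_commute ha hb hab ?_ hy1 hya hyb)
    exact hodd.of_dvd_nat (Subgroup.orderOf_mk y hy ▸ _root_.orderOf_dvd_natCard _)
  have h := CfsgLib.Cores.brauerWielandt (p := 2) (x := a) (y := b) (ha ▸ pow_orderOf_eq_one a)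
    (hb ▸ pow_orderOf_eq_one b) hab.symm (K := R) (Nat.coprime_two_right.2 hodd) haR hbR
  rw [hfix, Subgroup.card_bot, one_pow, mul_one, Fintype.prod_option, Fin.prod_univ_two] at h
  rw [h, mul_assoc]
  simp [CfsgLib.Cores.lineGen]

/-- The elements of `R` fixed by an involution inject into those fixed by `t`. -/
theorem Cfg.card_le (hC : Cent G) (hc : Cfg p S t v z R) {x : G} (hx : orderOf x = 2) :
    Nat.card ↥(R ⊓ centralizer ({x} : Set G)) ≤ Nat.card ↥(R ⊓ centralizer ({t} : Set G)) := by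
  obtain ⟨g, hg⟩ := hC.one x t hx hc.ht
  have hmem : ∀ y : ↥(R ⊓ centralizer ({x} : Set G)), g * (y : G) * g⁻¹ ∈ R ⊓ centralizer ({t} : Set G) := by
    intro y
    have h1 : g * (y : G) * g⁻¹ * t = t * (g * (y : G) * g⁻¹) := by
      rw [← hg, conj_mul, conj_mul, mem_centralizer_singleton_iff.1 (mem_inf.1 y.2).2]
    refine mem_inf.2 ⟨hc.pel _ h1 ?_, mem_centralizer_singleton_iff.2 h1⟩
    have := (hc.hR.to_le (zpowers_le.2 (mem_inf.1 y.2).1)).map (MulAut.conj g).toMonoidHom
    rwa [MonoidHom.map_zpowers] at this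
  refine Nat.card_le_card_of_injective (fun y => ⟨_, hmem y⟩) fun y y' h => Subtype.ext ?_
  have h2 := congrArg Subtype.val h
  exact mul_left_cancel (mul_right_cancel h2)

theorem Full.card_eq (hC : Cent G) (hc : Cfg p S t v z R) {x : G} (hx : orderOf x = 2) (h : Full p R x) :
    Nat.card ↥(R ⊓ centralizer ({x} : Set G)) = Nat.card ↥(R ⊓ centralizer ({t} : Set G)) := by
  refine le_antisymm (hc.card_le hC hx) ?_
  obtain ⟨g, hg⟩ := hC.one t x hc.ht hx
  have hmem : ∀ y : ↥(R ⊓ centralizer ({t} : Set G)), g * (y : G) * g⁻¹ ∈ R ⊓ centralizer ({x} : Set G) := by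
    intro y
    have h1 : g * (y : G) * g⁻¹ * x = x * (g * (y : G) * g⁻¹) := by
      rw [← hg, conj_mul, conj_mul, mem_centralizer_singleton_iff.1 (mem_inf.1 y.2).2]
    refine mem_inf.2 ⟨h _ h1 ?_, mem_centralizer_singleton_iff.2 h1⟩
    have := (hc.hR.to_le (zpowers_le.2 (mem_inf.1 y.2).1)).map (MulAut.conj g).toMonoidHom
    rwa [MonoidHom.map_zpowers] at this
  refine Nat.card_le_card_of_injective (fun y => ⟨_, hmem y⟩) fun y y' h => Subtype.ext ?_
  have h2 := congrArg Subtype.val h
  exact mul_left_cancel (mul_right_cancel h2)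

theorem Cfg.full_t (hc : Cfg p S t v z R) : Full p R t := hc.pel

/-- An involution in a subgroup containing the Sylow 2-subgroup `S` of order four can not swap. -/
theorem Cfg.not_swap (hc : Cfg p S t v z R) {w : G}
    (hall : ∀ x ∈ (S : Subgroup G), orderOf x = 2 → x = t ∨ x = w ∨ x = t * w)
    (hwS : w ∈ (S : Subgroup G)) (hw : orderOf w = 2) (hwt : w ≠ t)
    (h4 : Nat.card (S : Subgroup G) = 4) {g : G} (h1 : g * t * g⁻¹ = w) (h2 : g * w * g⁻¹ = t) : False := by
  haveI : Fact (Nat.Prime 2) := ⟨Nat.prime_two⟩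
  have hc1 : g * g * t = t * (g * g) := by
    calc g * g * t = g * (g * t * g⁻¹) * g := by group
      _ = g * w * g⁻¹ * (g * g) := by rw [h1]; group
      _ = _ := by rw [h2]
  have hc2 : g * g * w = w * (g * g) := by
    calc g * g * w = g * (g * w * g⁻¹) * g := by group
      _ = g * t * g⁻¹ * (g * g) := by rw [h2]; group
      _ = _ := by rw [h1]
  obtain ⟨k, m, hm, hkm⟩ := Nat.exists_eq_two_pow_mul_odd (orderOf_pos g).ne'
  obtain ⟨j, hj⟩ := hm
  set a := g ^ m with ha
  have hodd : ∀ x, g * g * x = x * (g * g) → a * x * a⁻¹ = g * x * g⁻¹ := by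
    intro x hx
    rw [ha, hj, pow_succ', pow_mul, pow_two]
    have hcx : Commute ((g * g) ^ j) x := (show Commute (g * g) x from hx).pow_left j
    calc g * (g * g) ^ j * x * (g * (g * g) ^ j)⁻¹ = g * ((g * g) ^ j * x * ((g * g) ^ j)⁻¹) * g⁻¹ := by group
      _ = _ := by rw [hcx.eq, mul_inv_cancel_right]
  have hat : a * t * a⁻¹ = w := (hodd t hc1).trans h1
  have haw : a * w * a⁻¹ = t := (hodd w hc2).trans h2
  have hap : IsPGroup 2 (zpowers a) := by
    refine IsPGroup.of_card (n := k) ?_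
    rw [Nat.card_zpowers, ha, orderOf_pow_of_dvd (by omega) (hkm ▸ dvd_mul_left m _), hkm,
      Nat.mul_div_cancel _ (by omega)]
  have hmemS : ∀ x ∈ (S : Subgroup G), x = 1 ∨ x = t ∨ x = w ∨ x = t * w := by
    intro x hx
    by_contra hne
    simp only [not_or] at hne
    obtain ⟨b, -, hb⟩ := (Nat.dvd_prime_pow Nat.prime_two).1
      (show orderOf x ∣ 2 ^ 2 by rw [← Subgroup.orderOf_mk x hx]; exact (_root_.orderOf_dvd_natCard _).trans (dvd_of_eq h4))
    have hne2 : orderOf x ≠ 2 := fun e => by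
      rcases hall x hx e with e' | e' | e' <;> simp_all
    -- an element of order four would make the group cyclic, with a single involution
    have hb2 : orderOf x = 4 := by
      rcases b with _ | _ | _ | b
      · exact absurd (orderOf_eq_one_iff.1 hb) hne.1
      · exact absurd hb hne2
      · exact hb
      · have : orderOf x ∣ 4 := by
          rw [← Subgroup.orderOf_mk x hx, ← h4]; exact _root_.orderOf_dvd_natCard _
        have h8 : 8 ≤ orderOf x := by
          rw [hb]
          exact le_trans (by norm_num) (Nat.pow_le_pow_right two_pos (show 3 ≤ b + 1 + 1 + 1 by omega))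
        have := Nat.le_of_dvd (by norm_num) this
        omega
    have hz : zpowers x = (S : Subgroup G) :=
      eq_of_le_of_card_ge (zpowers_le.2 hx) (by rw [Nat.card_zpowers, hb2, h4])
    exact hwt (CfsgLib.Invol.mem_zpowers_unique_involution (hz ▸ hwS) (hz ▸ hc.htS) hw hc.ht)
  set N := normalizer ((S : Subgroup G) : Set G) with hN
  have haN : a ∈ N := by
    refine CfsgLib.Solvable.mem_normalizer_of_conj_mem fun x hx => ?_
    rcases hmemS x hx with rfl | rfl | rfl | rfl
    · simp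
    · rw [hat]; exact hwS
    · rw [haw]; exact hc.htS
    · rw [← conj_mul, hat, haw, hc.htZ w hwS]; exact mul_mem hc.htS hwS
  have hle : (S : Subgroup G) ⊔ zpowers a ≤ (S : Subgroup G) := by
    refine le_of_eq (S.is_maximal' ?_ le_sup_left)
    exact IsPGroup.to_sup_of_normal_left' S.2 hap (zpowers_le.2 haN)
  have haS : a ∈ (S : Subgroup G) := hle (mem_sup_right (mem_zpowers a))
  rw [hc.htZ a haS, mul_inv_cancel_right] at hat
  exact hwt hat.symm

/-- Fusion of `t` with the involutions of `S` in a subgroup containing `S`. -/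
theorem Cfg.fused_of (hc : Cfg p S t v z R) {n : ℕ} (hn : 2 ≤ n) (e : (S : Subgroup G) ≃* DihedralGroup n)
    (K : Subgroup G) (hSK : (S : Subgroup G) ≤ K) {x : G} (hx : orderOf x = 2) (hxS : x ∈ (S : Subgroup G))
    (hxt : x ≠ t) (hk : ∃ k ∈ K, k * t * k⁻¹ = x) :
    ∃ k ∈ K, k * t * k⁻¹ = t * x := by
  obtain ⟨k, hkK, hkx⟩ := hk
  rcases conj_or_four hn e hc.ht hc.htS hc.htZ hx hxS hxt with ⟨s, hs, hsx⟩ | hall
  · exact ⟨s * k, mul_mem (hSK hs) hkK, by rw [← hsx, ← hkx]; group⟩
  -- order four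
  set g := k⁻¹ with hg
  have hgx : g * x * g⁻¹ = t := by rw [← hkx, hg]; group
  have hgt : (g * t * g⁻¹) * t = t * (g * t * g⁻¹) := by
    nth_rw 2 [← hgx]; nth_rw 2 [← hgx]
    rw [conj_mul, conj_mul, hc.htZ x hxS]
  obtain ⟨c, hcK, hct, hcS⟩ := hc.exists_adjust K hSK (w := g * t * g⁻¹)
    (by rw [orderOf_conj_eq]; exact hc.ht)
    (mul_mem (mul_mem (inv_mem hkK) (hSK hc.htS)) (inv_mem (inv_mem hkK))) hgt
  have hgg : c * (g * t * g⁻¹) * c⁻¹ = (c * g) * t * (c * g)⁻¹ := by group
  rw [hgg] at hcS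
  have hcgx : (c * g) * x * (c * g)⁻¹ = t := by
    rw [show (c * g) * x * (c * g)⁻¹ = c * (g * x * g⁻¹) * c⁻¹ by group, hgx, hct, mul_inv_cancel_right]
  rcases hall _ hcS (by rw [orderOf_conj_eq]; exact hc.ht) with h1 | h1 | h1
  · exact absurd (mul_left_cancel (mul_right_cancel (hcgx.trans h1.symm))) hxt
  · have h4 : Nat.card (S : Subgroup G) = 4 := by
      have hcard : Nat.card (S : Subgroup G) = 2 * n := by
        rw [Nat.card_congr e.toEquiv, DihedralGroup.nat_card]
      rcases eq_or_lt_of_le hn with h | h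
      · omega
      · exfalso
        -- at least two further involutions outside the cyclic part
        haveI : NeZero n := ⟨by omega⟩
        have hinj : Function.Injective fun i : ZMod n => (e.symm (DihedralGroup.sr i) : G) := fun i j hij => by
          simpa using e.symm.injective (Subtype.ext hij)
        classical
        have hsub : ∀ i : ZMod n, (e.symm (DihedralGroup.sr i) : G) ∈ ({t, x, t * x} : Finset G) := fun i => by
          simp only [Finset.mem_insert, Finset.mem_singleton]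
          refine hall _ (SetLike.coe_mem _) ?_
          rw [Subgroup.orderOf_coe, e.symm.orderOf_eq, DihedralGroup.orderOf_sr]
        have hle := Finset.card_le_card_of_injOn (s := (Finset.univ : Finset (ZMod n)))
          (fun i => (e.symm (DihedralGroup.sr i) : G)) (fun i _ => hsub i) hinj.injOn
        rw [Finset.card_univ, ZMod.card] at hle
        have h3 : ({t, x, t * x} : Finset G).card ≤ 3 := Finset.card_le_three
        obtain ⟨q, hq⟩ := IsPGroup.iff_card.1 S.2
        rw [hcard] at hq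
        rcases q with _ | _ | _ | q
        · simp at hq
        · norm_num at hq; omega
        · norm_num at hq; omega
        · rw [pow_succ, pow_succ, pow_succ] at hq
          have := Nat.one_le_two_pow (n := q)
          omega
    exact (hc.not_swap hall hxS hx hxt h4 h1 hcgx).elim
  · exact ⟨c * g, mul_mem hcK (inv_mem hkK), h1⟩

variable (hC : Cent G)
include hC

/-- Either `R` contains all `p`-elements centralised by involutions of `S`, or it is a Sylow subgroup of `G`. -/
theorem Cfg.full_or_sylow (hc : Cfg p S t v z R) (hp2 : p ≠ 2) {n : ℕ} (hn : 2 ≤ n)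
    (e : (S : Subgroup G) ≃* DihedralGroup n) :
    (∀ x ∈ (S : Subgroup G), orderOf x = 2 → Full p R x) ∨ ¬ p ∣ R.index := by
  haveI : Fact (Nat.Prime 2) := ⟨Nat.prime_two⟩
  set N := normalizer (R : Set G) with hN
  by_cases hiso : ∀ g ∈ N, g * t * g⁻¹ ∈ (S : Subgroup G) → g * t * g⁻¹ = t
  · right
    let SN : Sylow 2 N := S.subtype hc.hSR
    obtain ⟨O, hOn, hOodd, hO⟩ := Cfsg.Agent.S0215.result SN ⟨t, hc.hSR hc.htS⟩
      (by rw [Subgroup.orderOf_mk]; exact hc.ht) hc.htS
      fun g hg => Subtype.ext (hiso g g.2 hg)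
    set O' := (oddCore N).map N.subtype with hO'
    have hO'odd : Odd (Nat.card O') := by
      rw [hO', card_map_of_injective N.subtype_injective]; exact CfsgLib.Cores.odd_card_oddCore
    have hO'N : N ≤ normalizer (O' : Set G) := fun g hg => by
      refine CfsgLib.Solvable.mem_normalizer_of_conj_mem ?_
      rintro _ ⟨a, ha, rfl⟩
      exact ⟨⟨g, hg⟩ * a * ⟨g, hg⟩⁻¹, Normal.conj_mem inferInstance a ha _, rfl⟩
    have hcom : ∀ g ∈ N, t * g * t⁻¹ * g⁻¹ ∈ O' := fun g hg =>
      ⟨_, CfsgLib.Cores.le_oddCore_of_odd hOodd (hO ⟨g, hg⟩), rfl⟩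
    have hRO : R ≤ O' := by
      intro r hr
      haveI : (R.subgroupOf N).Normal := normal_in_normalizer
      exact ⟨⟨r, le_normalizer hr⟩, CfsgLib.Cores.le_oddCore_of_odd (N := R.subgroupOf N) (by
        rw [Nat.card_congr (subgroupOfEquivOfLe le_normalizer).toEquiv]
        obtain ⟨k, hk⟩ := IsPGroup.iff_card.1 hc.hR
        exact hk ▸ (hp.out.odd_of_ne_two hp2).pow) hr, rfl⟩
    obtain ⟨Q, hQO, hQp, hQi, hQS⟩ := exists_sylow_normalized hO'odd S.2 (hc.hSR.trans hO'N) p
    have hRQ : R ≤ Q := by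
      obtain ⟨T, hT⟩ := (hc.hR.comap_of_injective O'.subtype O'.subtype_injective).exists_le_sylow
      haveI : (R.subgroupOf O').Normal :=
        (normal_subgroupOf_iff_le_normalizer hRO).2 fun a ha => (map_subtype_le (oddCore N)) ha
      have h := IsPGroup.le_sylow_of_normal (N := R.subgroupOf O')
        (hc.hR.comap_of_injective O'.subtype O'.subtype_injective)
        (IsPGroup.toSylow ((hQp.comap_of_injective O'.subtype O'.subtype_injective)) hQi)
      intro r hr
      have h2 := h (show (⟨r, hRO hr⟩ : O') ∈ R.subgroupOf O' from hr)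
      exact h2
    have hQR : Q = R := le_antisymm (hc.max Q hRQ hQp hQS) hRQ
    subst hQR
    intro hd
    obtain ⟨P, hP⟩ := hc.hR.exists_le_sylow
    have hlt : Q < (P : Subgroup G) := lt_of_le_of_ne hP fun e1 => P.not_dvd_index (e1 ▸ hd)
    obtain ⟨a, haP, haQ, haN⟩ : ∃ a ∈ (P : Subgroup G), a ∉ Q ∧ a ∈ N := by
      have h := CfsgLib.Techniques.Functor.lt_norm P.2 hlt
      obtain ⟨a, ha, haQ⟩ := SetLike.exists_of_lt h
      exact ⟨a, (mem_inf.1 ha).1, haQ, (mem_inf.1 ha).2⟩
    -- lift a fixed point in the coset `a O'`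
    obtain ⟨b, hbO, hbt⟩ : ∃ b ∈ O', a * b * t = t * (a * b) := by
      have htO : t ∈ normalizer (O' : Set G) := hO'N (hc.hSR hc.htS)
      let φ : MulAut G := MulAut.conj t
      have hx : a⁻¹ * φ a ∈ O' := by
        have h1 := hcom a haN
        have h2 := (mem_normalizer_iff''.1 (hO'N haN) _).1 h1
        simpa [φ, mul_assoc] using h2
      obtain ⟨u, hu, hfix⟩ := CfsgLib.Solvable.exists_fixed_in_coset (φ := φ) (m := 1) (p := 2)
        (by rw [pow_one, ← map_pow, ← hc.ht, pow_orderOf_eq_one, map_one])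
        (fun hd => Nat.not_even_iff_odd.2 hO'odd (even_iff_two_dvd.2 hd))
        (fun y hy => (mem_normalizer_iff.1 htO y).1 hy) hx
      refine ⟨a⁻¹ * u, ?_, ?_⟩
      · have := inv_mem hu
        simpa using this
      · rw [mul_inv_cancel_left]
        have h2 : t * u * t⁻¹ = u := hfix
        rw [mul_inv_eq_iff_eq_mul] at h2
        exact h2.symm
    set L := N ⊓ centralizer ({t} : Set G) with hL
    have habL : a * b ∈ L := mem_inf.2 ⟨mul_mem haN ((map_subtype_le (oddCore N)) hbO),
      mem_centralizer_singleton_iff.2 hbt⟩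
    set π := QuotientGroup.mk' (oddCore N)
    have hab : π ⟨a * b, habL.1⟩ = π ⟨a, haN⟩ := by
      obtain ⟨b', hb', rfl⟩ := hbO
      rw [show (⟨a * N.subtype b', habL.1⟩ : N) = ⟨a, haN⟩ * b' from rfl, map_mul,
        show π b' = 1 from (QuotientGroup.eq_one_iff b').2 hb', mul_one]
    -- the p-part of `a * b`
    obtain ⟨k, hk⟩ := IsPGroup.iff_orderOf.1 P.2 ⟨a, haP⟩
    rw [Subgroup.orderOf_mk] at hk
    obtain ⟨m, l, hl, hlm⟩ := Nat.exists_eq_pow_mul_and_not_dvd (orderOf_pos (a * b)).ne' p hp.out.ne_one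
    set c := (a * b) ^ l with hcdef
    have hcp : IsPGroup p (zpowers c) := by
      refine IsPGroup.of_card (n := m) ?_
      have hl0 : l ≠ 0 := fun e0 => hl (e0 ▸ dvd_zero p)
      rw [Nat.card_zpowers, hcdef, orderOf_pow_of_dvd hl0 (hlm ▸ dvd_mul_left l _), hlm,
        Nat.mul_div_cancel _ (Nat.pos_of_ne_zero hl0)]
    have hcR : c ∈ Q := hc.pel c
      ((Commute.pow_left (show Commute (a * b) t from hbt) l).eq) hcp
    have haO : π ⟨a, haN⟩ = 1 := by
      have h1 : π ⟨a, haN⟩ ^ l = 1 := by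
        rw [← hab, ← map_pow]
        refine (QuotientGroup.eq_one_iff _).2 ?_
        obtain ⟨c', hc', hce⟩ := hRO hcR
        have : (⟨a * b, habL.1⟩ : N) ^ l = c' := Subtype.ext (by rw [coe_pow]; exact hce.symm)
        rw [this]; exact hc'
      have h2 : π ⟨a, haN⟩ ^ p ^ k = 1 := by
        rw [← map_pow, show (⟨a, haN⟩ : N) ^ p ^ k = 1 from
          Subtype.ext (by rw [coe_pow, coe_one, ← hk, pow_orderOf_eq_one]), map_one]
      have h3 := Nat.dvd_gcd (orderOf_dvd_of_pow_eq_one h1) (orderOf_dvd_of_pow_eq_one h2)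
      rw [(Nat.Coprime.pow_right k ((hp.out.coprime_iff_not_dvd).2 hl).symm).gcd_eq_one, Nat.dvd_one,
        orderOf_eq_one_iff] at h3
      exact h3
    have haO' : a ∈ O' := ⟨⟨a, haN⟩, (QuotientGroup.eq_one_iff _).1 haO, rfl⟩
    have hsup : IsPGroup p (Q ⊔ zpowers a : Subgroup G) := P.2.to_le (sup_le hP (zpowers_le.2 haP))
    have hle : Q ⊔ zpowers a ≤ O' := sup_le hRO (zpowers_le.2 haO')
    refine haQ (relIndex_eq_one.1 ?_ (mem_sup_right (mem_zpowers a) : a ∈ Q ⊔ zpowers a))
    obtain ⟨j, hj⟩ := IsPGroup.iff_card.1 hsup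
    obtain ⟨i, -, hi⟩ := (Nat.dvd_prime_pow hp.out).1 (hj ▸ relIndex_dvd_card Q (Q ⊔ zpowers a))
    rcases Nat.eq_zero_or_pos i with rfl | h0
    · rw [hi, pow_zero]
    · exact absurd ((hi ▸ dvd_pow_self p h0.ne').trans
        (Dvd.intro _ (relIndex_mul_relIndex Q (Q ⊔ zpowers a) O' le_sup_left hle))) hQi
  left
  push Not at hiso
  obtain ⟨g, hgN, hgS, hgne⟩ := hiso
  set w := g * t * g⁻¹ with hwdef
  have hw : orderOf w = 2 := by rw [hwdef, orderOf_conj_eq]; exact hc.ht
  have hfw : Full p R w := (hc.full_t).conj hgN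
  have hftw : Full p R (t * w) := by
    obtain ⟨k, hk, hke⟩ := hc.fused_of hn e N hc.hSR hw hgS hgne ⟨g, hgN, rfl⟩
    exact hke ▸ (hc.full_t).conj hk
  set a := Nat.card ↥(R ⊓ centralizer ({t} : Set G)) with ha
  have htw : orderOf (t * w) = 2 := by
    refine orderOf_eq_prime ?_ fun e1 => hgne ?_
    · rw [(show Commute t w from (hc.htZ w hgS).symm).mul_pow, ← hc.ht, pow_orderOf_eq_one, one_mul,
        hc.ht, ← hw, pow_orderOf_eq_one]
    · show w = t
      calc w = t * (t * w) := by rw [← mul_assoc, Invol.mul_self_of_orderOf_two hc.ht, one_mul]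
        _ = t := by rw [e1, mul_one]
  have hcard : Nat.card R = a * a * a := by
    rw [card_three hC hc.ht hw hgne (hc.htZ w hgS) hc.hR hp2 (hc.hSR hc.htS) (hc.hSR hgS),
      hfw.card_eq hC hc hw, show w * t = t * w from hc.htZ w hgS, hftw.card_eq hC hc htw]
  intro x hxS hx
  by_cases hxt : x = t
  · subst hxt; exact hc.full_t
  have hxt' : orderOf (x * t) = 2 := by
    refine orderOf_eq_prime ?_ fun e1 => hxt ?_
    · rw [(show Commute x t from hc.htZ x hxS).mul_pow, ← hc.ht, pow_orderOf_eq_one, mul_one,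
        hc.ht, ← hx, pow_orderOf_eq_one]
    · calc x = (x * t) * t := by rw [mul_assoc, Invol.mul_self_of_orderOf_two hc.ht, mul_one]
        _ = t := by rw [e1, one_mul]
  have h3 := card_three hC hc.ht hx hxt (hc.htZ x hxS) hc.hR hp2 (hc.hSR hc.htS) (hc.hSR hxS)
  rw [hcard] at h3
  have hb := hc.card_le hC hx
  have hb' := hc.card_le hC hxt'
  rw [← ha] at hb hb' h3
  set b := Nat.card ↥(R ⊓ centralizer ({x} : Set G))
  set b' := Nat.card ↥(R ⊓ centralizer ({x * t} : Set G))
  have ha0 : 0 < a := Nat.card_pos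
  have hb0 : 0 < b' := Nat.card_pos
  have hbe : b = a := by
    refine le_antisymm hb ?_
    have h4 : a * a = b * b' := by
      refine Nat.eq_of_mul_eq_mul_left ha0 ?_
      rw [← mul_assoc, h3, mul_assoc]
    have h5 : b * b' ≤ b * a := Nat.mul_le_mul_left b hb'
    rw [← h4] at h5
    exact Nat.le_of_mul_le_mul_right h5 ha0
  intro y hy hyp
  obtain ⟨h, hh⟩ := hC.one x t hx hc.ht
  -- equal finite cardinals: conjugation is onto
  have hmem : ∀ u : ↥(R ⊓ centralizer ({x} : Set G)), h * (u : G) * h⁻¹ ∈ R ⊓ centralizer ({t} : Set G) := by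
    intro u
    have h1 : h * (u : G) * h⁻¹ * t = t * (h * (u : G) * h⁻¹) := by
      rw [← hh, conj_mul, conj_mul, mem_centralizer_singleton_iff.1 (mem_inf.1 u.2).2]
    refine mem_inf.2 ⟨hc.pel _ h1 ?_, mem_centralizer_singleton_iff.2 h1⟩
    have := (hc.hR.to_le (zpowers_le.2 (mem_inf.1 u.2).1)).map (MulAut.conj h).toMonoidHom
    rwa [MonoidHom.map_zpowers] at this
  have hinj : Function.Injective fun u => (⟨_, hmem u⟩ : ↥(R ⊓ centralizer ({t} : Set G))) :=
    fun u u' hu => Subtype.ext (mul_left_cancel (mul_right_cancel (congrArg Subtype.val hu)))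
  have hy' : h * y * h⁻¹ ∈ R ⊓ centralizer ({t} : Set G) := by
    have h1 : h * y * h⁻¹ * t = t * (h * y * h⁻¹) := by rw [← hh, conj_mul, conj_mul, hy]
    refine mem_inf.2 ⟨hc.pel _ h1 ?_, mem_centralizer_singleton_iff.2 h1⟩
    have := hyp.map (MulAut.conj h).toMonoidHom
    rwa [MonoidHom.map_zpowers] at this
  obtain ⟨u, hu⟩ := ((Nat.bijective_iff_injective_and_card _).2 ⟨hinj, hbe⟩).2 ⟨_, hy'⟩
  have hu' : (u : G) = y := mul_left_cancel (mul_right_cancel (congrArg Subtype.val hu))
  exact hu' ▸ (mem_inf.1 u.2).1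

/-- `R` is generated by the fixed points of the involutions of a four-group. -/
theorem le_of_three (hp2 : p ≠ 2) (hR : IsPGroup p R) {a b : G} (ha : orderOf a = 2) (hb : orderOf b = 2)
    (hne : b ≠ a) (hab : b * a = a * b) (haR : a ∈ normalizer (R : Set G)) (hbR : b ∈ normalizer (R : Set G))
    {T : Subgroup G} (hT : ∀ y ∈ R, y * a = a * y ∨ y * b = b * y ∨ y * (a * b) = a * b * y → y ∈ T) :
    R ≤ T := by
  haveI : Fact (Nat.Prime 2) := ⟨Nat.prime_two⟩
  have ha2 : a * a = 1 := Invol.mul_self_of_orderOf_two ha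
  have hb2 : b * b = 1 := Invol.mul_self_of_orderOf_two hb
  set V := pairGroup a b ha2 hb2 hab
  have hV : IsElementaryAbelian 2 V := by
    refine ⟨⟨⟨?_⟩⟩, fun x hx => ?_⟩
    · rintro ⟨x, hx⟩ ⟨y, hy⟩
      apply Subtype.ext
      show x * y = y * x
      have cab : Commute a b := hab.symm
      have cy : ∀ g, g = 1 ∨ g = a ∨ g = b ∨ g = a * b → Commute a g ∧ Commute b g := by
        rintro g (rfl | rfl | rfl | rfl)
        · exact ⟨Commute.one_right _, Commute.one_right _⟩
        · exact ⟨Commute.refl _, cab.symm⟩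
        · exact ⟨cab, Commute.refl _⟩
        · exact ⟨(Commute.refl a).mul_right cab, cab.symm.mul_right (Commute.refl b)⟩
      obtain ⟨ca, cb⟩ := cy y hy
      rcases hx with rfl | rfl | rfl | rfl
      exacts [(Commute.one_left y).eq, ca.eq, cb.eq, (ca.mul_left cb).eq]
    · rcases hx with rfl | rfl | rfl | rfl
      · exact one_pow _
      · rw [pow_two, ha2]
      · rw [pow_two, hb2]
      · rw [(show Commute a b from hab.symm).mul_pow, pow_two, pow_two, ha2, hb2, one_mul]
  obtain ⟨k, hk⟩ := IsPGroup.iff_card.1 hR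
  refine CfsgLib.Signalizer.le_of_fixed hV ?_ ?_ ?_ fun x hx hx1 y hy => ?_
  · classical
    have hcard : Nat.card ({1, a, b} : Finset G) ≤ Nat.card V := by
      refine Nat.card_le_card_of_injective (fun x => (⟨x.1, ?_⟩ : V)) fun x y hxy =>
        Subtype.ext (congrArg Subtype.val hxy :)
      have hx := x.2
      simp only [Finset.mem_insert, Finset.mem_singleton] at hx
      rcases hx with h | h | h
      exacts [Or.inl h, Or.inr (Or.inl h), Or.inr (Or.inr (Or.inl h))]
    rw [Nat.card_eq_fintype_card, Fintype.card_coe, Finset.card_insert_of_notMem,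
      Finset.card_insert_of_notMem, Finset.card_singleton] at hcard
    · obtain ⟨j, hj⟩ := IsPGroup.iff_card.1 (CfsgLib.PGroup.elemAb_isPGroup hV)
      rw [hj] at hcard ⊢
      rcases j with _ | _ | j
      · simp at hcard
      · simp at hcard
      · exact Nat.pow_le_pow_right two_pos (by omega)
    · rw [Finset.mem_singleton]; exact hne.symm
    · simp only [Finset.mem_insert, Finset.mem_singleton]
      rintro (h | h)
      · exact Invol.ne_one_of_orderOf_two ha h.symm
      · exact Invol.ne_one_of_orderOf_two hb h.symm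
  · intro hd
    rw [hk] at hd
    exact hp2 ((Nat.prime_dvd_prime_iff_eq Nat.prime_two hp.out).1 (Nat.prime_two.dvd_of_dvd_pow hd)).symm
  · rintro x (rfl | rfl | rfl | rfl)
    exacts [one_mem _, haR, hbR, mul_mem haR hbR]
  · have hyx := mem_centralizer_singleton_iff.1 hy.2
    refine hT y hy.1 ?_
    rcases hx with rfl | rfl | rfl | rfl
    · exact absurd rfl hx1
    · exact Or.inl hyx
    · exact Or.inr (Or.inl hyx)
    · exact Or.inr (Or.inr hyx)

/-- The normaliser of `Z(J(R))` fuses `t` with every involution of `S`. -/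
theorem Cfg.fused (hc : Cfg p S t v z R) (hp2 : p ≠ 2) {n : ℕ} (hn : 2 ≤ n)
    (e : (S : Subgroup G) ≃* DihedralGroup n) {x : G} (hxS : x ∈ (S : Subgroup G)) (hx : orderOf x = 2) :
    ∃ k ∈ normalizer (zjGen 0 R : Set G), k * t * k⁻¹ = x := by
  haveI : Fact (Nat.Prime 2) := ⟨Nat.prime_two⟩
  set K := normalizer (zjGen 0 R : Set G) with hK
  have hNK : normalizer (R : Set G) ≤ K := normalizer_le_normalizer_zjGen 0 R
  have hSK : (S : Subgroup G) ≤ K := hc.hSR.trans hNK
  by_cases hxt : x = t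
  · subst hxt; exact ⟨1, one_mem _, by group⟩
  rcases hc.full_or_sylow hC hp2 hn e with hfull | hsyl
  · -- a suitable conjugation normalises `R`
    obtain ⟨h, hh⟩ := hC.one x t hx hc.ht
    have hcomm : h * t * h⁻¹ * t = t * (h * t * h⁻¹) := by
      nth_rw 2 [← hh]; nth_rw 2 [← hh]
      rw [conj_mul, conj_mul, hc.htZ x hxS]
    obtain ⟨c, -, hct, hcS⟩ := hc.exists_adjust ⊤ le_top (w := h * t * h⁻¹)
      (by rw [orderOf_conj_eq]; exact hc.ht) (mem_top _) hcomm
    set g := c * h with hg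
    have hgx : g * x * g⁻¹ = t := by
      rw [hg, show c * h * x * (c * h)⁻¹ = c * (h * x * h⁻¹) * c⁻¹ by group, hh, hct, mul_inv_cancel_right]
    have hgt : g * t * g⁻¹ ∈ (S : Subgroup G) := by
      rw [hg, show c * h * t * (c * h)⁻¹ = c * (h * t * h⁻¹) * c⁻¹ by group]; exact hcS
    have hgR : g ∈ normalizer (R : Set G) := by
      refine CfsgLib.Solvable.mem_normalizer_of_conj_mem fun r hr => ?_
      suffices R ≤ R.comap (MulAut.conj g).toMonoidHom from this hr
      refine le_of_three hC hp2 hc.hR hc.ht hx hxt (hc.htZ x hxS) (hc.hSR hc.htS) (hc.hSR hxS) fun y hy hyc => ?_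
      show g * y * g⁻¹ ∈ R
      have hyp : IsPGroup p (zpowers (g * y * g⁻¹)) := by
        have := (hc.hR.to_le (zpowers_le.2 hy)).map (MulAut.conj g).toMonoidHom
        rwa [MonoidHom.map_zpowers] at this
      have hkey : ∀ w, y * w = w * y → g * w * g⁻¹ ∈ (S : Subgroup G) → orderOf w = 2 → g * y * g⁻¹ ∈ R :=
        fun w hyw hwS hw => hfull _ hwS (by rw [orderOf_conj_eq]; exact hw) _
          (by rw [conj_mul, conj_mul, hyw]) hyp
      rcases hyc with h1 | h1 | h1
      · exact hkey t h1 hgt hc.ht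
      · exact hkey x h1 (by rw [hgx]; exact hc.htS) hx
      · refine hkey _ h1 ?_ (orderOf_eq_prime ?_ fun e1 => hxt ?_)
        · rw [← conj_mul, hgx]; exact mul_mem hgt hc.htS
        · rw [(show Commute t x from (hc.htZ x hxS).symm).mul_pow, ← hc.ht, pow_orderOf_eq_one, one_mul,
            hc.ht, ← hx, pow_orderOf_eq_one]
        · calc x = t * (t * x) := by rw [← mul_assoc, Invol.mul_self_of_orderOf_two hc.ht, one_mul]
            _ = t := by rw [e1, mul_one]
    exact ⟨g⁻¹, inv_mem (hNK hgR), by rw [← hgx]; group⟩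
  · -- the Sylow case
    set SR : Sylow p G := hc.hR.toSylow hsyl
    have hSRc : (SR : Subgroup G) = R := IsPGroup.toSylow_coe _ _
    obtain ⟨T⟩ : Nonempty (Sylow 2 G) := inferInstance
    have hst := stableAll_of_rotLike (p := p) hp2 T (hC.rot T)
    have key : ∀ w ∈ (S : Subgroup G), orderOf w = 2 → ¬ R ⊓ centralizer ({w} : Set G) ≤ ⊥ →
        ∃ k ∈ K, k * t * k⁻¹ = w := by
      intro w hwS hw hne
      obtain ⟨u, hu, hu1⟩ : ∃ u ∈ R ⊓ centralizer ({w} : Set G), u ≠ 1 := by
        by_contra hcon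
        push Not at hcon
        exact hne fun u hu => mem_bot.2 (hcon u hu)
      have huw := mem_centralizer_singleton_iff.1 (mem_inf.1 hu).2
      obtain ⟨h, hh⟩ := hC.one w t hw hc.ht
      have hup : IsPGroup p (zpowers (h * u * h⁻¹)) := by
        have := (hc.hR.to_le (zpowers_le.2 (mem_inf.1 hu).1)).map (MulAut.conj h).toMonoidHom
        rwa [MonoidHom.map_zpowers] at this
      have hu't : h * u * h⁻¹ * t = t * (h * u * h⁻¹) := by rw [← hh, conj_mul, conj_mul, huw]
      have hu'R : h * u * h⁻¹ ∈ R := hc.pel _ hu't hup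
      obtain ⟨m, hm, hag⟩ := control_of_stableAll hp2 hst (Or.inl rfl) SR
        (D := (SR : Subgroup G)) ⟨le_rfl, fun _ _ _ h => h⟩ (zpowers u) h
        (by rw [hSRc]; exact zpowers_le.2 (mem_inf.1 hu).1)
        (by rw [hSRc, CfsgLib.Fusion.conjSub, MonoidHom.map_zpowers]; exact zpowers_le.2 hu'R)
      rw [hSRc] at hm
      have hmu : m * u * m⁻¹ = h * u * h⁻¹ := hag u (mem_zpowers u)
      have huo : Odd (orderOf u) := by
        obtain ⟨k, hk⟩ := IsPGroup.iff_card.1 (hc.hR.to_le (zpowers_le.2 (mem_inf.1 hu).1))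
        rw [Nat.card_zpowers] at hk
        exact hk ▸ (hp.out.odd_of_ne_two hp2).pow
      set t' := m⁻¹ * t * m with ht'
      have ht'o : orderOf t' = 2 := by
        rw [ht', show m⁻¹ * t * m = m⁻¹ * t * m⁻¹⁻¹ by rw [inv_inv], orderOf_conj_eq]; exact hc.ht
      have hut' : u * t' = t' * u := by
        have h1 : (m * u * m⁻¹) * t = t * (m * u * m⁻¹) := by rw [hmu]; exact hu't
        calc u * t' = m⁻¹ * ((m * u * m⁻¹) * t) * m := by rw [ht']; group
          _ = m⁻¹ * (t * (m * u * m⁻¹)) * m := by rw [h1]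
          _ = _ := by rw [ht']; group
      obtain ⟨k, hkK, -, hk⟩ := hC.conj_of_commute K ht'o hw
        (mul_mem (mul_mem (inv_mem hm) (hSK hc.htS)) hm) (hSK hwS) huo hu1 hut' huw
      exact ⟨k * m⁻¹, mul_mem hkK (inv_mem hm), by rw [← hk, ht']; group⟩
    have hxt' : orderOf (t * x) = 2 := by
      refine orderOf_eq_prime ?_ fun e1 => hxt ?_
      · rw [(show Commute t x from (hc.htZ x hxS).symm).mul_pow, ← hc.ht, pow_orderOf_eq_one, one_mul,
          hc.ht, ← hx, pow_orderOf_eq_one]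
      · calc x = t * (t * x) := by rw [← mul_assoc, Invol.mul_self_of_orderOf_two hc.ht, one_mul]
          _ = t := by rw [e1, mul_one]
    by_cases hne : R ⊓ centralizer ({x} : Set G) ≤ ⊥
    · have hne' : ¬ R ⊓ centralizer ({t * x} : Set G) ≤ ⊥ := fun hle => hc.hnot
        (le_of_three hC hp2 hc.hR hc.ht hx hxt (hc.htZ x hxS) (hc.hSR hc.htS) (hc.hSR hxS) fun y hy hyc => by
          rcases hyc with h1 | h1 | h1
          · exact mem_centralizer_singleton_iff.2 h1
          · rw [mem_bot.1 (hne ⟨hy, mem_centralizer_singleton_iff.2 h1⟩)]; exact one_mem _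
          · rw [mem_bot.1 (hle ⟨hy, mem_centralizer_singleton_iff.2 h1⟩)]; exact one_mem _)
      obtain ⟨k, hk, hke⟩ := hc.fused_of hn e K hSK hxt' (mul_mem hc.htS hxS)
        (fun e1 => Invol.ne_one_of_orderOf_two hx (mul_eq_left.1 e1))
        (key _ (mul_mem hc.htS hxS) hxt' hne')
      exact ⟨k, hk, by rw [hke, ← mul_assoc, Invol.mul_self_of_orderOf_two hc.ht, one_mul]⟩
    · exact key x hxS hx hne

end CfsgLib.DihCore
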