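import Cfsg.Agent.Lib.DihCore.Basic
import Cfsg.Agent.Lib.Solvable.AbelianCentralizers.Setup

/-!
Subgroups of odd order invariant under two commuting involutions.
-/

set_option autoImplicit false

namespace CfsgLib.DihCore

open Subgroup CfsgLib.Solvable.AbCent CfsgLib.FGS.NilpotentMaximal

variable {G : Type*} [Group G]

/-- The group generated by two commuting involutions. -/
def pairGroup (x w : G) (hx : x * x = 1) (hw : w * w = 1) (hxw : w * x = x * w) : Subgroup G where
  carrier := {g | g = 1 ∨ g = x ∨ g = w ∨ g = x * w}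
  one_mem' := Or.inl rfl
  mul_mem' := by
    have e1 : x * (x * w) = w := by rw [← mul_assoc, hx, one_mul]
    have e2 : w * (x * w) = x := by rw [← mul_assoc, hxw, mul_assoc, hw, mul_one]
    have e3 : x * w * x = w := by rw [mul_assoc, hxw, ← mul_assoc, hx, one_mul]
    have e4 : x * w * w = x := by rw [mul_assoc, hw, mul_one]
    have e5 : x * w * (x * w) = 1 := by rw [mul_assoc, e2, hx]
    rintro a b (rfl | rfl | rfl | rfl) (rfl | rfl | rfl | rfl) <;>
      simp [hx, hw, hxw, e1, e2, e3, e4, e5]
  inv_mem' := by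
    rintro a (rfl | rfl | rfl | rfl)
    · left; exact inv_one
    · right; left; exact inv_eq_of_mul_eq_one_left hx
    · right; right; left; exact inv_eq_of_mul_eq_one_left hw
    · right; right; right
      rw [mul_inv_rev, inv_eq_of_mul_eq_one_left hw, inv_eq_of_mul_eq_one_left hx, hxw]

variable [Finite G]

/-- The invariant Sylow subgroup of an invariant subgroup of odd order contains all invariant `p`-subgroups. -/
theorem Cent.exists_inv_sylow (hC : Cent G) {x w : G} (hx : orderOf x = 2) (hw : orderOf w = 2)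
    (hne : w ≠ x) (hxw : w * x = x * w) {W : Subgroup G} (hW : Odd (Nat.card W))
    (hxW : x ∈ normalizer (W : Set G)) (hwW : w ∈ normalizer (W : Set G)) (p : ℕ) [Fact p.Prime] :
    ∃ P : Subgroup G, P ≤ W ∧ IsPGroup p P ∧ ¬ p ∣ P.relIndex W ∧ x ∈ normalizer (P : Set G) ∧
      w ∈ normalizer (P : Set G) ∧
      ∀ X ≤ W, IsPGroup p X → x ∈ normalizer (X : Set G) → w ∈ normalizer (X : Set G) → X ≤ P := by
  classical
  haveI : Fact (Nat.Prime 2) := ⟨Nat.prime_two⟩
  have hx2 : x * x = 1 := by rw [← pow_two, ← hx, pow_orderOf_eq_one]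
  have hw2 : w * w = 1 := by rw [← pow_two, ← hw, pow_orderOf_eq_one]
  set V := pairGroup x w hx2 hw2 hxw with hV
  have hx1 : x ≠ 1 := fun e => by rw [e, orderOf_one] at hx; exact absurd hx (by norm_num)
  have hw1 : w ≠ 1 := fun e => by rw [e, orderOf_one] at hw; exact absurd hw (by norm_num)
  have hxwne : x * w ≠ 1 := fun e => hne (by
    calc w = x * (x * w) := by rw [← mul_assoc, hx2, one_mul]
      _ = x := by rw [e, mul_one])
  have hVN : V ≤ normalizer (W : Set G) := by
    rintro g (rfl | rfl | rfl | rfl)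
    exacts [one_mem _, hxW, hwW, mul_mem hxW hwW]
  letI : CommGroup ↥V :=
    { (inferInstance : Group ↥V) with
      mul_comm := by
        have cxw : Commute x w := hxw.symm
        rintro ⟨a, ha⟩ ⟨b, hb⟩
        apply Subtype.ext
        show Commute a b
        have cb : ∀ g, g = 1 ∨ g = x ∨ g = w ∨ g = x * w → Commute x g ∧ Commute w g := by
          rintro g (rfl | rfl | rfl | rfl)
          · exact ⟨Commute.one_right _, Commute.one_right _⟩
          · exact ⟨Commute.refl _, cxw.symm⟩
          · exact ⟨cxw, Commute.refl _⟩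
          · exact ⟨(Commute.refl x).mul_right cxw, cxw.symm.mul_right (Commute.refl w)⟩
        obtain ⟨cx, cw⟩ := cb b hb
        rcases ha with rfl | rfl | rfl | rfl
        exacts [Commute.one_left _, cx, cw, cx.mul_left cw] }
  let φ : ↥V →* MulAut ↥W := (normalizerMonoidHom W).comp (inclusion hVN)
  have hφ : ∀ (a : V) (y : W), ((φ a y : W) : G) = (a : G) * y * (a : G)⁻¹ := fun a y => rfl
  have hVcard : Nat.card ↥V = 2 ^ 2 := by
    have : Nat.card ↥V = Nat.card ({1, x, w, x * w} : Finset G) := by
      refine Nat.card_congr (Equiv.subtypeEquivRight fun g => ?_)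
      simp only [Finset.mem_insert, Finset.mem_singleton]
      rfl
    rw [this, Nat.card_eq_fintype_card, Fintype.card_coe]
    rw [Finset.card_insert_of_notMem, Finset.card_insert_of_notMem, Finset.card_insert_of_notMem,
      Finset.card_singleton]
    · rfl
    · rw [Finset.mem_singleton]; exact fun e => hx1 (by simpa using e)
    · simp only [Finset.mem_insert, Finset.mem_singleton]
      rintro (e | e)
      · exact hne e.symm
      · exact hw1 (by simpa using e)
    · simp only [Finset.mem_insert, Finset.mem_singleton]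
      rintro (e | e | e)
      exacts [hx1 e.symm, hw1 e.symm, hxwne e.symm]
  have hodd : ∀ y : W, Odd (orderOf (y : G)) := fun y => by
    rw [Subgroup.orderOf_coe]; exact hW.of_dvd_nat (orderOf_dvd_natCard y)
  have hcomm_of : ∀ (a : V) (y : W), φ a y = y → (y : G) * (a : G) = (a : G) * y := fun a y h => by
    have h1 := congrArg Subtype.val h
    rw [hφ, mul_inv_eq_iff_eq_mul] at h1
    exact h1.symm
  have hord : ∀ a : V, a ≠ 1 → orderOf (a : G) = 2 := by
    rintro ⟨a, (rfl | rfl | rfl | rfl)⟩ ha
    · exact absurd rfl ha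
    · exact hx
    · exact hw
    · refine orderOf_eq_prime ?_ hxwne
      rw [pow_two, mul_assoc, ← mul_assoc w x w, hxw, mul_assoc x w w, hw2, mul_one, hx2]
  have h : Hyp 2 φ :=
    { cardA := hVcard
      exp := fun a => by
        by_cases ha : a = 1
        · rw [ha, one_pow]
        · exact Subtype.ext (by rw [coe_pow, ← hord a ha, pow_orderOf_eq_one]; rfl)
      cop := fun hd => Nat.not_even_iff_odd.2 hW (even_iff_two_dvd.2 hd)
      comm := fun a ha y y' hy hy' => Subtype.ext
        (hC.comm (a : G) y y' (hord a ha) (hodd y) (hodd y') (hcomm_of a y hy) (hcomm_of a y' hy'))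
      fix := fun y hy => by
        by_contra hy1
        exact hne (hC.eq_of_commute hx hw hxw (hodd y) (fun e => hy1 (Subtype.ext e))
          (hcomm_of ⟨x, Or.inr (Or.inl rfl)⟩ y (hy _))
          (hcomm_of ⟨w, Or.inr (Or.inr (Or.inl rfl))⟩ y (hy _))) }
  set P := (syl h p : Subgroup W).map W.subtype with hP
  have hnorm : ∀ a : V, (a : G) ∈ normalizer (P : Set G) := by
    intro a
    refine CfsgLib.Solvable.mem_normalizer_of_conj_mem ?_
    rintro _ ⟨y, hy, rfl⟩
    exact ⟨φ a y, inv_syl h p a y hy, rfl⟩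
  refine ⟨P, map_subtype_le _, (syl h p).2.map _, ?_, hnorm ⟨x, Or.inr (Or.inl rfl)⟩,
    hnorm ⟨w, Or.inr (Or.inr (Or.inl rfl))⟩, fun X hXW hX hxX hwX => ?_⟩
  · rw [relIndex, hP, subgroupOf, comap_map_eq_self_of_injective W.subtype_injective]
    exact (syl h p).not_dvd_index
  · rw [← map_subgroupOf_eq_of_le hXW]
    refine map_mono (le_syl h (hX.comap_of_injective W.subtype W.subtype_injective) fun a y hy => ?_)
    rw [mem_subgroupOf] at hy ⊢
    rw [hφ]
    have haX : (a : G) ∈ normalizer (X : Set G) := by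
      obtain ⟨g, hg⟩ := a
      rcases hg with rfl | rfl | rfl | rfl
      exacts [one_mem _, hxX, hwX, mul_mem hxX hwX]
    exact (mem_normalizer_iff.1 haX _).1 hy

/-- A 2-group normalising an odd subgroup normalises one of its Sylow `p`-subgroups. -/
theorem exists_sylow_normalized {W T : Subgroup G} (hW : Odd (Nat.card W)) (hT : IsPGroup 2 T)
    (hTW : T ≤ normalizer (W : Set G)) (p : ℕ) [Fact p.Prime] :
    ∃ P : Subgroup G, P ≤ W ∧ IsPGroup p P ∧ ¬ p ∣ P.relIndex W ∧ T ≤ normalizer (P : Set G) := by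
  haveI : Fact (Nat.Prime 2) := ⟨Nat.prime_two⟩
  let f : ↥T →* MulAut ↥W := (normalizerMonoidHom W).comp (inclusion hTW)
  letI : MulAction ↥T (Sylow p ↥W) :=
    { smul := fun a Q => Q.mapSurjective (f := (f a).toMonoidHom) (f a).surjective
      one_smul := fun Q => Sylow.ext (by
        show (Q : Subgroup ↥W).map (f 1).toMonoidHom = Q
        rw [map_one]
        exact Subgroup.map_id _)
      mul_smul := fun a b Q => Sylow.ext (by
        show (Q : Subgroup ↥W).map (f (a * b)).toMonoidHom =
          ((Q : Subgroup ↥W).map (f b).toMonoidHom).map (f a).toMonoidHom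
        rw [Subgroup.map_map, map_mul]
        rfl) }
  have hnd : ¬ 2 ∣ Nat.card (Sylow p ↥W) := by
    obtain ⟨P⟩ : Nonempty (Sylow p ↥W) := inferInstance
    intro hd
    exact Nat.not_even_iff_odd.2 hW (even_iff_two_dvd.2 (hd.trans
      (P.card_dvd_index.trans (Subgroup.index_dvd_card _))))
  obtain ⟨Q, hQ⟩ := hT.nonempty_fixed_point_of_prime_not_dvd_card (α := Sylow p ↥W) hnd
  refine ⟨(Q : Subgroup ↥W).map W.subtype, map_subtype_le _, Q.2.map _, ?_, fun a ha => ?_⟩
  · rw [relIndex, subgroupOf, comap_map_eq_self_of_injective W.subtype_injective]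
    exact Q.not_dvd_index
  · refine CfsgLib.Solvable.mem_normalizer_of_conj_mem ?_
    rintro _ ⟨y, hy, rfl⟩
    have h1 : (f ⟨a, ha⟩) y ∈ (Q : Subgroup ↥W) := by
      have h2 := congrArg (fun P : Sylow p ↥W => (P : Subgroup ↥W)) (hQ ⟨a, ha⟩)
      exact h2.le ⟨y, hy, rfl⟩
    exact ⟨_, h1, rfl⟩

end CfsgLib.DihCore
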