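import Cfsg.Agent.Lib.DihCore.Invariant
import Cfsg.Agent.Lib.Cores.Basic

/-!
A maximal `p`-subgroup invariant under a four-group but centralised by none of its involutions.
-/

set_option autoImplicit false

namespace CfsgLib.DihCore

open Subgroup Cfsg

variable {G : Type*} [Group G] [Finite G]

/-- The odd core of a centraliser. -/
def oddCent (y : G) : Subgroup G :=
  (oddCore ↥(centralizer ({y} : Set G))).map (centralizer ({y} : Set G)).subtype

theorem odd_card_oddCent (y : G) : Odd (Nat.card (oddCent y)) := by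
  rw [oddCent, card_map_of_injective (subtype_injective _)]
  exact CfsgLib.Cores.odd_card_oddCore

omit [Finite G] in
theorem oddCent_le (y : G) : oddCent y ≤ centralizer ({y} : Set G) := map_subtype_le _

theorem mem_normalizer_oddCent {y g : G} (hg : g * y * g⁻¹ = y ∨ g * y * g⁻¹ = y⁻¹) :
    g ∈ normalizer (oddCent y : Set G) := by
  haveI : (oddCore ↥(centralizer ({y} : Set G))).Characteristic :=
    CfsgLib.Cores.pPrimeCore_characteristic 2
  have key : ∀ x : G, x * y = y * x ↔ (g * x * g⁻¹) * y = y * (g * x * g⁻¹) := by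
    intro x
    have hy : g * y * g⁻¹ = y ∨ g * y * g⁻¹ = y⁻¹ := hg
    have h1 : (g * x * g⁻¹) * (g * y * g⁻¹) = (g * y * g⁻¹) * (g * x * g⁻¹) ↔ x * y = y * x := by
      constructor
      · intro h
        have h2 : g * (x * y) * g⁻¹ = g * (y * x) * g⁻¹ := by rw [← conj_mul, ← conj_mul]; exact h
        exact mul_left_cancel (mul_right_cancel h2)
      · intro h; rw [conj_mul, conj_mul, h]
    rcases hy with e | e <;> rw [e] at h1
    · exact h1.symm
    · rw [← h1]
      exact ⟨fun h => by simpa using (Commute.inv_right (show Commute _ y⁻¹ from h)).eq,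
        fun h => (Commute.inv_right (show Commute _ y from h)).eq⟩
  have hC : g ∈ normalizer ((centralizer ({y} : Set G) : Subgroup G) : Set G) := by
    rw [mem_normalizer_iff]
    intro x
    rw [mem_centralizer_singleton_iff, mem_centralizer_singleton_iff]
    exact key x
  set C := centralizer ({y} : Set G)
  refine CfsgLib.Solvable.mem_normalizer_of_conj_mem ?_
  rintro _ ⟨x, hx, rfl⟩
  let e : MulAut ↥C := normalizerMonoidHom C ⟨g, hC⟩
  have h := (Characteristic.fixed (H := oddCore ↥C) inferInstance e).ge hx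
  exact ⟨e x, h, rfl⟩

/-- In the centraliser of an odd element commuting with an involution, the odd order elements form the core
and the core and the centraliser of the involution generate. -/
theorem Cent.oddCent_spec (hC : Cent G) {t y : G} (ht : orderOf t = 2) (hy : Odd (orderOf y)) (hy1 : y ≠ 1)
    (hty : y * t = t * y) :
    (∀ g, g * y = y * g → Odd (orderOf g) → g ∈ oddCent y) ∧
      ∀ g, g * y = y * g → ∃ w ∈ oddCent y, ∃ s, s * t = t * s ∧ g = w * s := by
  haveI : Fact (Nat.Prime 2) := ⟨Nat.prime_two⟩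
  set C := centralizer ({y} : Set G) with hCdef
  let t' : C := ⟨t, mem_centralizer_singleton_iff.2 hty.symm⟩
  have ht' : orderOf t' = 2 := by rw [← Subgroup.orderOf_coe]; exact ht
  obtain ⟨P, hP⟩ := (IsPGroup.of_card (p := 2) (n := 1)
    (show Nat.card (zpowers t') = 2 ^ 1 by rw [Nat.card_zpowers, ht', pow_one])).exists_le_sylow
  have hcyc := hC.isCyclic_sylow (t := t) ht hy hy1 P
  have heven : Even (Nat.card C) := even_iff_two_dvd.2 (ht' ▸ orderOf_dvd_natCard t')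
  obtain ⟨ψ, hψ, hodd⟩ := Invol.exists_retraction_of_cyclic_sylow_two P hcyc heven
  have hker : ψ.ker ≤ oddCore C := by
    refine CfsgLib.Cores.le_oddCore_of_odd ?_
    rw [← Nat.not_even_iff_odd]
    intro he
    obtain ⟨k, hk⟩ := exists_prime_orderOf_dvd_card' 2 he.two_dvd
    have h1 := (hodd (k : C)).1 k.2
    rw [Subgroup.orderOf_coe, hk] at h1
    exact absurd h1 (by decide)
  refine ⟨fun g hg ho => ⟨⟨g, mem_centralizer_singleton_iff.2 hg⟩, hker ((hodd _).2 ?_), rfl⟩, fun g hg => ?_⟩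
  · rwa [Subgroup.orderOf_mk]
  · let g' : C := ⟨g, mem_centralizer_singleton_iff.2 hg⟩
    refine ⟨((g' * ((ψ g' : P) : C)⁻¹ : C) : G), ⟨g' * ((ψ g' : P) : C)⁻¹, hker ?_, rfl⟩, (((ψ g' : P) : C) : G), ?_, ?_⟩
    · rw [MonoidHom.mem_ker, map_mul, map_inv, hψ, mul_inv_cancel]
    · letI := hcyc.commGroup
      have h1 := congrArg (fun a : P => ((a : C) : G)) (mul_comm (ψ g') ⟨t', hP (mem_zpowers t')⟩)
      exact h1
    · simp only [coe_mul, coe_inv, inv_mul_cancel_right]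
      rfl

/-- A maximal configuration. -/
structure Cfg (p : ℕ) (S : Sylow 2 G) (t v z : G) (R : Subgroup G) : Prop where
  ht : orderOf t = 2
  htS : t ∈ (S : Subgroup G)
  htZ : ∀ s ∈ (S : Subgroup G), s * t = t * s
  hv : orderOf v = 2
  hvS : v ∈ (S : Subgroup G)
  hvt : v ≠ t
  hz : orderOf z = p
  hzR : z ∈ R
  hzt : z * t = t * z
  hzc : ∀ r ∈ R, r * z = z * r
  hR : IsPGroup p R
  hSR : (S : Subgroup G) ≤ normalizer (R : Set G)
  hnot : ¬ R ≤ centralizer {t}
  pel : ∀ y, y * t = t * y → IsPGroup p (zpowers y) → y ∈ R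
  syl : ¬ p ∣ R.relIndex (centralizer {z})
  max : ∀ X : Subgroup G, R ≤ X → IsPGroup p X → (S : Subgroup G) ≤ normalizer (X : Set G) → X ≤ R

omit [Finite G] in
theorem mem_normalizer_zpowers {g y : G} (h : g * y * g⁻¹ = y ∨ g * y * g⁻¹ = y⁻¹) :
    g ∈ normalizer (zpowers y : Set G) := by
  rw [mem_normalizer_iff]
  intro x
  constructor
  · rintro ⟨i, rfl⟩
    show g * y ^ i * g⁻¹ ∈ zpowers y
    rw [← conj_zpow]
    rcases h with e | e <;> rw [e]
    · exact zpow_mem (mem_zpowers y) i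
    · exact zpow_mem (inv_mem (mem_zpowers y)) i
  · rintro ⟨i, hi⟩
    have hx : x = g⁻¹ * y ^ i * g := by rw [show y ^ i = g * x * g⁻¹ from hi]; group
    have e : g⁻¹ * y * g = y ∨ g⁻¹ * y * g = y⁻¹ := by
      rcases h with e | e
      · left; nth_rewrite 1 [← e]; group
      · right
        have := congrArg (fun a => g⁻¹ * a⁻¹ * g) e
        simp only [inv_inv] at this
        rw [← this]; group
    rw [hx, show g⁻¹ * y ^ i * g = g⁻¹ * y ^ i * g⁻¹⁻¹ by rw [inv_inv], ← conj_zpow, inv_inv]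
    rcases e with e | e <;> rw [e]
    · exact zpow_mem (mem_zpowers y) i
    · exact zpow_mem (inv_mem (mem_zpowers y)) i

/-- A Sylow 2-subgroup centralising `x` and containing a commuting involution `w`. -/
theorem Cent.exists_sylow (hC : Cent G) {x w : G} (hx : orderOf x = 2) (hw : orderOf w = 2)
    (hwx : w * x = x * w) (t₀ : G) (ht₀ : orderOf t₀ = 2) (S₀ : Sylow 2 G)
    (hZ₀ : ∀ s ∈ (S₀ : Subgroup G), s * t₀ = t₀ * s) :
    ∃ S : Sylow 2 G, x ∈ (S : Subgroup G) ∧ w ∈ (S : Subgroup G) ∧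
      ∀ s ∈ (S : Subgroup G), s * x = x * s := by
  haveI : Fact (Nat.Prime 2) := ⟨Nat.prime_two⟩
  obtain ⟨g, hg⟩ := hC.one t₀ x ht₀ hx
  set C := centralizer ({x} : Set G)
  have hS₁ : ((g • S₀ : Sylow 2 G) : Subgroup G) ≤ C := by
    intro s hs
    rw [Sylow.coe_subgroup_smul, Subgroup.mem_pointwise_smul_iff_inv_smul_mem] at hs
    rw [mem_centralizer_singleton_iff]
    have hs' : g⁻¹ * s * g ∈ (S₀ : Subgroup G) := by simpa [MulAut.smul_def] using hs
    have h1 := hZ₀ _ hs'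
    rw [← hg]
    calc s * (g * t₀ * g⁻¹) = g * (g⁻¹ * s * g * t₀) * g⁻¹ := by group
      _ = g * (t₀ * (g⁻¹ * s * g)) * g⁻¹ := by rw [h1]
      _ = _ := by group
  have hx2 : x * x = 1 := by rw [← pow_two, ← hx, pow_orderOf_eq_one]
  have hw2 : w * w = 1 := by rw [← pow_two, ← hw, pow_orderOf_eq_one]
  set V := pairGroup x w hx2 hw2 hwx
  have hV : IsPGroup 2 V := by
    rintro ⟨a, ha⟩
    refine ⟨1, Subtype.ext ?_⟩
    show a ^ (2 ^ 1) = 1
    rcases ha with rfl | rfl | rfl | rfl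
    · exact one_pow _
    · rw [pow_one, pow_two, hx2]
    · rw [pow_one, pow_two, hw2]
    · rw [pow_one, pow_two, mul_assoc, ← mul_assoc w x w, hwx, mul_assoc x w w, hw2, mul_one, hx2]
  have hVC : V ≤ C := by
    rintro a (rfl | rfl | rfl | rfl)
    exacts [one_mem _, mem_centralizer_singleton_iff.2 rfl, mem_centralizer_singleton_iff.2 hwx,
      mul_mem (mem_centralizer_singleton_iff.2 rfl) (mem_centralizer_singleton_iff.2 hwx)]
  let T := (g • S₀).subtype hS₁
  obtain ⟨U, hU⟩ := (hV.comap_of_injective C.subtype C.subtype_injective).exists_le_sylow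
  obtain ⟨c, hc⟩ := MulAction.exists_smul_eq C T U
  refine ⟨(c : G) • (g • S₀), ?_⟩
  have hcoe : ∀ a : C, a ∈ (U : Subgroup C) →
      (a : G) ∈ (((c : G) • (g • S₀) : Sylow 2 G) : Subgroup G) := by
    intro a ha
    rw [← hc, Sylow.coe_subgroup_smul, Subgroup.mem_pointwise_smul_iff_inv_smul_mem] at ha
    rw [Sylow.coe_subgroup_smul, Subgroup.mem_pointwise_smul_iff_inv_smul_mem]
    exact ha
  refine ⟨hcoe ⟨x, hVC (Or.inr (Or.inl rfl))⟩ (hU (Or.inr (Or.inl rfl))),
    hcoe ⟨w, hVC (Or.inr (Or.inr (Or.inl rfl)))⟩ (hU (Or.inr (Or.inr (Or.inl rfl)))), fun s hs => ?_⟩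
  rw [Sylow.coe_subgroup_smul, Subgroup.mem_pointwise_smul_iff_inv_smul_mem] at hs
  have h1 : (c : G)⁻¹ * s * c ∈ C := hS₁ (by simpa [MulAut.smul_def] using hs)
  have h2 : s ∈ C := by
    have := mul_mem (mul_mem c.2 h1) (inv_mem c.2)
    simpa [mul_assoc] using this
  exact mem_centralizer_singleton_iff.1 h2

/-- The family from which the maximal subgroup is taken. -/
def Wide (p : ℕ) (X : Subgroup G) : Prop :=
  IsPGroup p X ∧ ∃ x w : G, orderOf x = 2 ∧ orderOf w = 2 ∧ w ≠ x ∧ w * x = x * w ∧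
    x ∈ normalizer (X : Set G) ∧ w ∈ normalizer (X : Set G) ∧
    ¬ X ≤ centralizer {x} ∧ ¬ X ≤ centralizer {w} ∧ ¬ X ≤ centralizer {x * w}

theorem Cent.exists_cfg (hC : Cent G) (S₀ : Sylow 2 G) {t₀ v₀ y : G} (ht₀ : orderOf t₀ = 2)
    (hZ₀ : ∀ s ∈ (S₀ : Subgroup G), s * t₀ = t₀ * s) (hv₀ : orderOf v₀ = 2) (hvt₀ : v₀ ≠ t₀)
    (hvc : v₀ * t₀ = t₀ * v₀) (hy : Odd (orderOf y)) (hy1 : y ≠ 1) (hyt : y * t₀ = t₀ * y)
    (hbad : ¬ centralizer ({y} : Set G) ≤ centralizer {t₀}) :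
    ∃ (p : ℕ) (_ : Fact p.Prime), p ≠ 2 ∧ ∃ (S : Sylow 2 G) (t v z : G) (R : Subgroup G), Cfg p S t v z R := by
  classical
  set W := oddCent y with hWdef
  have hWodd := odd_card_oddCent y
  obtain ⟨hel, hgen⟩ := hC.oddCent_spec ht₀ hy hy1 hyt
  have hWt : ¬ W ≤ centralizer {t₀} := fun hle => hbad fun g hg => by
    obtain ⟨w, hw, s, hs, rfl⟩ := hgen g (mem_centralizer_singleton_iff.1 hg)
    exact mul_mem (hle hw) (mem_centralizer_singleton_iff.2 hs)
  have htW : t₀ ∈ normalizer (W : Set G) :=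
    mem_normalizer_oddCent (Or.inl (by rw [← hyt, mul_inv_cancel_right]))
  have hvW : v₀ ∈ normalizer (W : Set G) :=
    mem_normalizer_oddCent (Or.inr (hC.invert t₀ v₀ y ht₀ hv₀ hvt₀ hvc hy hyt))
  obtain ⟨p, hp, hpW, P, hPW, hPp, hPt, hPv, hPmax, hPnot⟩ : ∃ p, ∃ _ : Fact p.Prime, p ∣ Nat.card W ∧
      ∃ P : Subgroup G, P ≤ W ∧ IsPGroup p P ∧ t₀ ∈ normalizer (P : Set G) ∧ v₀ ∈ normalizer (P : Set G) ∧
        (∀ X ≤ W, IsPGroup p X → t₀ ∈ normalizer (X : Set G) → v₀ ∈ normalizer (X : Set G) → X ≤ P) ∧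
        ¬ P ≤ centralizer {t₀} := by
    by_contra hcon
    push Not at hcon
    refine hWt (relIndex_eq_one.1 ?_)
    by_contra hne
    obtain ⟨q, hq, hqd⟩ := Nat.exists_prime_and_dvd hne
    haveI : Fact q.Prime := ⟨hq⟩
    obtain ⟨P, hPW, hPp, hidx, hPt, hPv, hmax⟩ :=
      hC.exists_inv_sylow ht₀ hv₀ hvt₀ hvc hWodd htW hvW q
    have hle := hcon q inferInstance (hqd.trans (relIndex_dvd_card _ _)) P hPW hPp hPt hPv hmax
    exact hidx (hqd.trans (relIndex_dvd_of_le_left W hle))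
  have hp2 : p ≠ 2 := fun e => Nat.not_even_iff_odd.2 hWodd (even_iff_two_dvd.2 (e ▸ hpW))
  have hpo : Odd p := hp.out.odd_of_ne_two hp2
  have hoddp : ∀ g : G, IsPGroup p (zpowers g) → Odd (orderOf g) := fun g hg => by
    obtain ⟨k, hk⟩ := IsPGroup.iff_card.1 hg
    rw [Nat.card_zpowers] at hk
    rw [hk]; exact hpo.pow
  -- the invariant Sylow subgroup is wide
  have hpel : ∀ g, g * t₀ = t₀ * g → IsPGroup p (zpowers g) → g ∈ P := by
    intro g hg hgp
    have hgy := hC.comm t₀ g y ht₀ (hoddp g hgp) hy hg hyt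
    refine hPmax (zpowers g) (zpowers_le.2 (hel g hgy (hoddp g hgp))) hgp
      (mem_normalizer_zpowers (Or.inl (by rw [← hg, mul_inv_cancel_right]))) ?_ (mem_zpowers g)
    exact mem_normalizer_zpowers (Or.inr (hC.invert t₀ v₀ g ht₀ hv₀ hvt₀ hvc (hoddp g hgp) hg))
  have hPx : ∀ w, orderOf w = 2 → w ≠ t₀ → w * t₀ = t₀ * w → ¬ P ≤ centralizer {w} := by
    intro w hw hwne hwc hle
    refine hPnot ?_
    -- every `p`-element centralised by an involution is trivial
    intro g hg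
    have hgw := mem_centralizer_singleton_iff.1 (hle hg)
    have hgp : IsPGroup p (zpowers g) := hPp.to_le (zpowers_le.2 hg)
    obtain ⟨h, hh⟩ := hC.one w t₀ hw ht₀
    have e1 : h * g * h⁻¹ * t₀ = t₀ * (h * g * h⁻¹) := by
      rw [← hh, conj_mul, conj_mul, hgw]
    have hgp' : IsPGroup p (zpowers (h * g * h⁻¹)) := by
      have := hgp.map (MulAut.conj h).toMonoidHom
      rwa [MonoidHom.map_zpowers] at this
    have h2 := hpel _ e1 hgp'
    have e2 : h * g * h⁻¹ * w = w * (h * g * h⁻¹) := mem_centralizer_singleton_iff.1 (hle h2)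
    by_cases he : h * g * h⁻¹ = 1
    · rw [conj_eq_one_iff.1 he]; exact one_mem _
    · exact absurd (hC.eq_of_commute ht₀ hw hwc (hoddp _ hgp') he e1 e2) hwne
  have hPwide : Wide p P := by
    have hv2 : v₀ * v₀ = 1 := by rw [← pow_two, ← hv₀, pow_orderOf_eq_one]
    have ht2 : t₀ * t₀ = 1 := by rw [← pow_two, ← ht₀, pow_orderOf_eq_one]
    have hu : orderOf (t₀ * v₀) = 2 := orderOf_eq_prime
      (by rw [pow_two, mul_assoc, ← mul_assoc v₀ t₀ v₀, hvc, mul_assoc t₀ v₀ v₀, hv2, mul_one, ht2])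
      fun e => hvt₀ (by
        calc v₀ = t₀ * (t₀ * v₀) := by rw [← mul_assoc, ht2, one_mul]
          _ = t₀ := by rw [e, mul_one])
    exact ⟨hPp, t₀, v₀, ht₀, hv₀, hvt₀, hvc, hPt, hPv, hPnot, hPx v₀ hv₀ hvt₀ hvc,
      hPx _ hu (fun e => by
        rw [mul_eq_left] at e; exact Invol.ne_one_of_orderOf_two hv₀ e) (by rw [mul_assoc, hvc])⟩
  obtain ⟨R, hRw, hRmax⟩ := Set.Finite.exists_maximal (s := {X : Subgroup G | Wide p X}) (Set.toFinite _)
    ⟨P, hPwide⟩
  obtain ⟨hRp, x, w, hx, hw, hwne, hwx, hxR, hwR, hnx, hnw, hnxw⟩ := hRw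
  have hx2 : x * x = 1 := by rw [← pow_two, ← hx, pow_orderOf_eq_one]
  have hw2 : w * w = 1 := by rw [← pow_two, ← hw, pow_orderOf_eq_one]
  -- a central element of order `p` fixed by one of the three involutions
  obtain ⟨z, hz, hzR, hzc⟩ : ∃ z, orderOf z = p ∧ z ∈ R ∧ ∀ r ∈ R, r * z = z * r := by
    haveI : Nontrivial R := by
      rw [Subgroup.nontrivial_iff_ne_bot]
      rintro rfl
      exact hnx bot_le
    haveI := hRp.center_nontrivial
    obtain ⟨k, hk⟩ := IsPGroup.iff_card.1 (hRp.to_subgroup (Subgroup.center R))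
    have h2 : p ∣ Nat.card (Subgroup.center R) := by
      rcases Nat.eq_zero_or_pos k with rfl | h0
      · rw [pow_zero] at hk
        exact absurd hk (Finite.one_lt_card (α := Subgroup.center R)).ne'
      · exact hk ▸ dvd_pow_self p h0.ne'
    obtain ⟨⟨⟨z, hzR⟩, hzC⟩, hz⟩ := exists_prime_orderOf_dvd_card' p h2
    rw [Subgroup.orderOf_mk, Subgroup.orderOf_mk] at hz
    exact ⟨z, hz, hzR, fun r hr => congrArg Subtype.val (mem_center_iff.1 hzC ⟨r, hr⟩)⟩
  obtain ⟨z', hz', hz'R, hz'c, t, v, ht, hv, hvt, hvc', htR, hvR, hnt, hnv, hntv, hzt⟩ :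
      ∃ z', orderOf z' = p ∧ z' ∈ R ∧ (∀ r ∈ R, r * z' = z' * r) ∧ ∃ t v : G, orderOf t = 2 ∧
        orderOf v = 2 ∧ v ≠ t ∧ v * t = t * v ∧ t ∈ normalizer (R : Set G) ∧ v ∈ normalizer (R : Set G) ∧
        ¬ R ≤ centralizer {t} ∧ ¬ R ≤ centralizer {v} ∧ ¬ R ≤ centralizer {t * v} ∧ z' * t = t * z' := by
    have hconj : ∀ a, a ∈ normalizer (R : Set G) → ∀ b ∈ R, (∀ r ∈ R, r * b = b * r) →
        a * b * a⁻¹ ∈ R ∧ ∀ r ∈ R, r * (a * b * a⁻¹) = a * b * a⁻¹ * r := by
      intro a ha b hb hbc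
      refine ⟨(mem_normalizer_iff.1 ha b).1 hb, fun r hr => ?_⟩
      have h1 := hbc _ ((mem_normalizer_iff''.1 ha r).1 hr)
      calc r * (a * b * a⁻¹) = a * (a⁻¹ * r * a * b) * a⁻¹ := by group
        _ = a * (b * (a⁻¹ * r * a)) * a⁻¹ := by rw [h1]
        _ = _ := by group
    -- `z * z^a` is fixed by `a`
    have step : ∀ a, a * a = 1 → a ∈ normalizer (R : Set G) → a * z * a⁻¹ ≠ z⁻¹ →
        ∃ b, orderOf b = p ∧ b ∈ R ∧ (∀ r ∈ R, r * b = b * r) ∧ b * a = a * b := by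
      intro a ha haR hne
      obtain ⟨h1, h2⟩ := hconj a haR z hzR hzc
      have hab : z * (a * z * a⁻¹) = a * z * a⁻¹ * z := (hzc _ h1).symm
      refine ⟨z * (a * z * a⁻¹), orderOf_eq_prime ?_ fun e => hne (eq_inv_of_mul_eq_one_right e),
        mul_mem hzR h1, fun r hr => ?_, ?_⟩
      · rw [Commute.mul_pow hab, conj_pow, show z ^ p = 1 by rw [← hz]; exact pow_orderOf_eq_one z]; group
      · exact (show Commute r (z * (a * z * a⁻¹)) from (show Commute r z from hzc r hr).mul_right (h2 r hr)).eq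
      · have ainv : a⁻¹ = a := inv_eq_of_mul_eq_one_left ha
        calc z * (a * z * a⁻¹) * a = z * a * z := by group
          _ = a * (a * z * a⁻¹) * z := by rw [ainv]; simp only [← mul_assoc, ha, one_mul]
          _ = a * ((a * z * a⁻¹) * z) := by rw [mul_assoc]
          _ = _ := by rw [hab]
    have hxw : orderOf (x * w) = 2 := orderOf_eq_prime
      (by rw [pow_two, mul_assoc, ← mul_assoc w x w, hwx, mul_assoc x w w, hw2, mul_one, hx2])
      fun e => hwne (by
        calc w = x * (x * w) := by rw [← mul_assoc, hx2, one_mul]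
          _ = x := by rw [e, mul_one])
    by_cases h1 : x * z * x⁻¹ = z⁻¹
    · by_cases h2 : w * z * w⁻¹ = z⁻¹
      · -- fixed by the product
        refine ⟨z, hz, hzR, hzc, x * w, w, hxw, hw, ?_, ?_, mul_mem hxR hwR, hwR, hnxw, hnw, ?_, ?_⟩
        · intro e
          exact Invol.ne_one_of_orderOf_two hx (mul_eq_right.1 e.symm)
        · rw [← mul_assoc, hwx]
        · rwa [mul_assoc, hw2, mul_one]
        · have h3 : x * w * z * (x * w)⁻¹ = z := by
            calc x * w * z * (x * w)⁻¹ = x * (w * z * w⁻¹) * x⁻¹ := by group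
              _ = (x * z * x⁻¹)⁻¹ := by rw [h2]; group
              _ = z := by rw [h1, inv_inv]
          exact (mul_inv_eq_iff_eq_mul.1 h3).symm
      · obtain ⟨b, hb, hbR, hbc, hbw⟩ := step w hw2 hwR h2
        exact ⟨b, hb, hbR, hbc, w, x, hw, hx, hwne.symm, hwx.symm, hwR, hxR, hnw, hnx,
          by rwa [hwx], hbw⟩
    · obtain ⟨b, hb, hbR, hbc, hbx⟩ := step x hx2 hxR h1
      exact ⟨b, hb, hbR, hbc, x, w, hx, hw, hwne, hwx, hxR, hwR, hnx, hnw, hnxw, hbx⟩
  clear hz hzR hzc z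
  obtain ⟨S, htS, hvS, hZ⟩ := hC.exists_sylow ht hv hvc' t₀ ht₀ S₀ hZ₀
  have hz1 : z' ≠ 1 := fun e => by rw [e, orderOf_one] at hz'; exact hp.out.one_lt.ne hz'
  have hzo : Odd (orderOf z') := hz' ▸ hpo
  have hwideUp : ∀ X : Subgroup G, R ≤ X → IsPGroup p X → t ∈ normalizer (X : Set G) →
      v ∈ normalizer (X : Set G) → X ≤ R := fun X hle hX htX hvX =>
    hRmax (y := X) ⟨hX, t, v, ht, hv, hvt, hvc', htX, hvX, fun h => hnt (hle.trans h),
      fun h => hnv (hle.trans h), fun h => hntv (hle.trans h)⟩ hle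
  set Wz := oddCent z' with hWz
  obtain ⟨helz, -⟩ := hC.oddCent_spec ht hzo hz1 hzt
  have htW' : t ∈ normalizer (Wz : Set G) :=
    mem_normalizer_oddCent (Or.inl (by rw [← hzt, mul_inv_cancel_right]))
  have hvW' : v ∈ normalizer (Wz : Set G) :=
    mem_normalizer_oddCent (Or.inr (hC.invert t v z' ht hv hvt hvc' hzo hzt))
  have hRW : R ≤ Wz := fun r hr => helz r (hz'c r hr) (hoddp r (hRp.to_le (zpowers_le.2 hr)))
  obtain ⟨Q, hQW, hQp, hQi, hQt, hQv, hQmax⟩ :=
    hC.exists_inv_sylow ht hv hvt hvc' (odd_card_oddCent z') htW' hvW' p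
  have hQR : Q = R := le_antisymm
    (hwideUp Q (hQmax R hRW hRp htR hvR) hQp hQt hQv) (hQmax R hRW hRp htR hvR)
  subst hQR
  have hSW : (S : Subgroup G) ≤ normalizer (Wz : Set G) := fun s hs =>
    mem_normalizer_oddCent (hC.pm t z' s ht hzo hzt (hZ s hs))
  obtain ⟨U, hUW, hUp, hUi, hUS⟩ := exists_sylow_normalized (odd_card_oddCent z') S.2 hSW p
  have hUQ : U = Q := by
    have hle : U ≤ Q := hQmax U hUW hUp (hUS htS) (hUS hvS)
    refine le_antisymm hle (relIndex_eq_one.1 ?_)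
    obtain ⟨k, hk⟩ := IsPGroup.iff_card.1 hRp
    obtain ⟨i, -, hi⟩ := (Nat.dvd_prime_pow hp.out).1 (hk ▸ relIndex_dvd_card U Q)
    have h2 := relIndex_mul_relIndex U Q Wz hle hRW
    rcases Nat.eq_zero_or_pos i with rfl | h0
    · rw [hi, pow_zero]
    · exact absurd (h2 ▸ (hi ▸ dvd_pow_self p h0.ne').mul_right _) hUi
  refine ⟨p, hp, hp2, S, t, v, z', Q, ⟨ht, htS, hZ, hv, hvS, hvt, hz', hz'R, hzt, hz'c, hRp, hUQ ▸ hUS,
    hnt, fun g hg hgp => ?_, fun hd => ?_, fun X hle hX hSX => hwideUp X hle hX (hSX htS) (hSX hvS)⟩⟩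
  · refine hQmax (zpowers g) (zpowers_le.2 (helz g (hC.comm t g z' ht (hoddp g hgp) hzo hg hzt) (hoddp g hgp)))
      hgp (mem_normalizer_zpowers (Or.inl (by rw [← hg, mul_inv_cancel_right])))
      (mem_normalizer_zpowers (Or.inr (hC.invert t v g ht hv hvt hvc' (hoddp g hgp) hg))) (mem_zpowers g)
  · set C := centralizer ({z'} : Set G)
    have hWC : Wz ≤ C := oddCent_le z'
    obtain ⟨T⟩ : Nonempty (Sylow p C) := inferInstance
    rw [← relIndex_mul_relIndex Q Wz C hRW hWC] at hd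
    rcases (Nat.Prime.dvd_mul hp.out).1 hd with h | h
    · exact hQi h
    · have hT : (T : Subgroup C) ≤ Wz.subgroupOf C := fun a ha => by
        refine helz a (mem_centralizer_singleton_iff.1 a.2) ?_
        obtain ⟨k, hk⟩ := IsPGroup.iff_orderOf.1 T.2 ⟨a, ha⟩
        rw [Subgroup.orderOf_mk] at hk
        rw [Subgroup.orderOf_coe, hk]
        exact hpo.pow
      exact T.not_dvd_index (h.trans (index_dvd_of_le hT))

end CfsgLib.DihCore
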