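import Cfsg.Agent.Lib.DihCore.DGroup
import Cfsg.Agent.S0111

/-!
# Self-centralising generalised dihedral groups with two central involutions: local analysis
-/

set_option autoImplicit false

namespace CfsgLib.DihCore

universe u

variable {G : Type u} [Group G]

/-- `H = A⟨x⟩` generalised dihedral, centraliser of each involution of `A`, and two such involutions. -/
structure NonCyc (H A : Subgroup G) (x j₁ j₂ : G) : Prop where
  le : A ≤ H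
  xH : x ∈ H
  xA : x ∉ A
  comm : ∀ a ∈ A, ∀ b ∈ A, a * b = b * a
  inv : ∀ h ∈ H, h ∉ A → ∀ a ∈ A, h * a * h⁻¹ = a⁻¹
  sq : ∀ h ∈ H, h ∉ A → h * h = 1
  two : ∀ h ∈ H, h ∉ A → ∀ h' ∈ H, h' ∉ A → h * h' ∈ A
  big : ∃ a ∈ A, a * a ≠ 1
  cent : ∀ j ∈ A, j * j = 1 → j ≠ 1 → Subgroup.centralizer ({j} : Set G) = H
  j₁A : j₁ ∈ A
  j₂A : j₂ ∈ A
  j₁sq : j₁ * j₁ = 1
  j₂sq : j₂ * j₂ = 1
  j₁ne : j₁ ≠ 1
  j₂ne : j₂ ≠ 1
  ne : j₁ ≠ j₂

namespace NonCyc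

variable {H A : Subgroup G} {x j₁ j₂ : G} (h : NonCyc H A x j₁ j₂)
include h

/-- An element normalising `H` normalises `A`. -/
theorem conj_mem_iff {g : G} (hg : ∀ y, g * y * g⁻¹ ∈ H ↔ y ∈ H) (y : G) :
    g * y * g⁻¹ ∈ A ↔ y ∈ A := by
  obtain ⟨a₀, ha₀, h₀⟩ := h.big
  have key : ∀ g : G, (∀ y, g * y * g⁻¹ ∈ H ↔ y ∈ H) → ∀ a ∈ A, a * a ≠ 1 → g * a * g⁻¹ ∈ A := by
    intro g hg a ha hne
    by_contra hc
    refine hne ?_
    have := h.sq _ ((hg a).2 (h.le ha)) hc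
    apply mul_left_cancel (a := g)
    apply mul_right_cancel (b := g⁻¹)
    calc g * (a * a) * g⁻¹ = g * a * g⁻¹ * (g * a * g⁻¹) := by group
      _ = 1 := this
      _ = g * 1 * g⁻¹ := by group
  have key' : ∀ g : G, (∀ y, g * y * g⁻¹ ∈ H ↔ y ∈ H) → ∀ a ∈ A, g * a * g⁻¹ ∈ A := by
    intro g hg a ha
    by_cases hne : a * a = 1
    · have hne' : a * a₀ * (a * a₀) ≠ 1 := by
        rw [show a * a₀ * (a * a₀) = a * (a₀ * a) * a₀ by group, h.comm a₀ ha₀ a ha,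
          show a * (a * a₀) * a₀ = a * a * (a₀ * a₀) by group, hne, one_mul]
        exact h₀
      have e := A.mul_mem (key g hg _ (A.mul_mem ha ha₀) hne') (A.inv_mem (key g hg _ ha₀ h₀))
      rwa [show g * (a * a₀) * g⁻¹ * (g * a₀ * g⁻¹)⁻¹ = g * a * g⁻¹ by group] at e
    · exact key g hg a ha hne
  refine ⟨fun hy => ?_, key' g hg y⟩
  have := key' g⁻¹ (fun z => by
    rw [← hg (g⁻¹ * z * g⁻¹⁻¹)]; group) _ hy
  rwa [show g⁻¹ * (g * y * g⁻¹) * g⁻¹⁻¹ = y by group] at this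

/-- If `g` moves one involution of `A` into `A` it normalises `H`. -/
theorem conj_H {g j : G} (hj : j ∈ A) (hj2 : j * j = 1) (hj1 : j ≠ 1) (hgj : g * j * g⁻¹ ∈ A) (y : G) :
    g * y * g⁻¹ ∈ H ↔ y ∈ H := by
  have e2 := h.cent _ hgj
    (by rw [show g * j * g⁻¹ * (g * j * g⁻¹) = g * (j * j) * g⁻¹ by group, hj2]; group)
    (fun e => hj1 (by simpa using conj_eq_one_iff.1 e))
  have e3 : g * y * g⁻¹ ∈ H ↔ g * y * g⁻¹ * (g * j * g⁻¹) = g * j * g⁻¹ * (g * y * g⁻¹) := by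
    rw [← e2, Subgroup.mem_centralizer_singleton_iff]
  rw [e3, ← h.cent j hj hj2 hj1, Subgroup.mem_centralizer_singleton_iff]
  constructor
  · intro e
    apply mul_left_cancel (a := g)
    apply mul_right_cancel (b := g⁻¹)
    calc g * (y * j) * g⁻¹ = g * y * g⁻¹ * (g * j * g⁻¹) := by group
      _ = g * j * g⁻¹ * (g * y * g⁻¹) := e
      _ = g * (j * y) * g⁻¹ := by group
  · intro e
    calc g * y * g⁻¹ * (g * j * g⁻¹) = g * (y * j) * g⁻¹ := by group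
      _ = g * (j * y) * g⁻¹ := by rw [e]
      _ = g * j * g⁻¹ * (g * y * g⁻¹) := by group

/-- If `g` moves both involutions into `H` it normalises `A`. -/
theorem conj_of_two {g : G} (h₁ : g * j₁ * g⁻¹ ∈ H) (h₂ : g * j₂ * g⁻¹ ∈ H) :
    (∀ y, g * y * g⁻¹ ∈ H ↔ y ∈ H) ∧ ∀ y, g * y * g⁻¹ ∈ A ↔ y ∈ A := by
  suffices hh : ∀ y, g * y * g⁻¹ ∈ H ↔ y ∈ H from ⟨hh, fun y => h.conj_mem_iff hh y⟩
  by_cases c₁ : g * j₁ * g⁻¹ ∈ A
  · exact fun y => h.conj_H h.j₁A h.j₁sq h.j₁ne c₁ y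
  by_cases c₂ : g * j₂ * g⁻¹ ∈ A
  · exact fun y => h.conj_H h.j₂A h.j₂sq h.j₂ne c₂ y
  have c₃ := h.two _ h₁ c₁ _ h₂ c₂
  rw [show g * j₁ * g⁻¹ * (g * j₂ * g⁻¹) = g * (j₁ * j₂) * g⁻¹ by group] at c₃
  refine fun y => h.conj_H (A.mul_mem h.j₁A h.j₂A) ?_ ?_ c₃ y
  · rw [show j₁ * j₂ * (j₁ * j₂) = j₁ * (j₂ * j₁) * j₂ by group, h.comm _ h.j₂A _ h.j₁A,
      show j₁ * (j₁ * j₂) * j₂ = j₁ * j₁ * (j₂ * j₂) by group, h.j₁sq, h.j₂sq, mul_one]
  · intro e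
    exact h.ne (by rw [mul_eq_one_iff_eq_inv.1 e, inv_eq_of_mul_eq_one_right h.j₂sq])

theorem mem_H_of_commute {j y : G} (hj : j ∈ A) (hj2 : j * j = 1) (hj1 : j ≠ 1) (hy : y * j = j * y) :
    y ∈ H := by
  rw [← h.cent j hj hj2 hj1]; exact Subgroup.mem_centralizer_singleton_iff.2 hy

/-- A reflection is not conjugate to an involution of `A`. -/
theorem not_fused {g a y : G} (ha : a ∈ A) (ha2 : a * a = 1) (ha1 : a ≠ 1) (hy : y ∈ H) (hyA : y ∉ A)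
    (hg : g * a * g⁻¹ = y) : False := by
  have hc : ∀ j ∈ A, j * j = 1 → g⁻¹ * j * g⁻¹⁻¹ ∈ H := by
    intro j hj hj2
    refine h.mem_H_of_commute ha ha2 ha1 ?_
    have e := h.inv y hy hyA j hj
    rw [inv_eq_of_mul_eq_one_right hj2, mul_inv_eq_iff_eq_mul] at e
    subst hg
    calc g⁻¹ * j * g⁻¹⁻¹ * a = g⁻¹ * (j * (g * a * g⁻¹)) * g := by group
      _ = g⁻¹ * (g * a * g⁻¹ * j) * g := by rw [e]
      _ = a * (g⁻¹ * j * g⁻¹⁻¹) := by group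
  refine hyA (((h.conj_of_two (hc _ h.j₁A h.j₁sq) (hc _ h.j₂A h.j₂sq)).2 y).1 ?_)
  rw [← hg, show g⁻¹ * (g * a * g⁻¹) * g⁻¹⁻¹ = a by group]
  exact ha

/-- `A` is normal in `H`. -/
theorem conj_mem_A {k : G} (hk : k ∈ H) {a : G} (ha : a ∈ A) : k * a * k⁻¹ ∈ A := by
  by_cases hkA : k ∈ A
  · exact A.mul_mem (A.mul_mem hkA ha) (A.inv_mem hkA)
  · rw [h.inv k hk hkA a ha]; exact A.inv_mem ha

theorem conj_fix {k : G} (hk : k ∈ H) {a : G} (ha : a ∈ A) (ha2 : a * a = 1) : k * a * k⁻¹ = a := by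
  by_cases hkA : k ∈ A
  · rw [h.comm k hkA a ha, mul_inv_cancel_right]
  · rw [h.inv k hk hkA a ha, inv_eq_of_mul_eq_one_right ha2]

theorem isPGroup_zpowers_of_not_mem {y : G} (hy : y ∈ H) (hyA : y ∉ A) :
    IsPGroup 2 (Subgroup.zpowers y) := by
  rintro ⟨z, n, rfl⟩
  refine ⟨1, Subtype.ext ?_⟩
  rw [SubgroupClass.coe_pow, OneMemClass.coe_one, ← zpow_natCast, ← zpow_mul, mul_comm, zpow_mul,
    zpow_natCast, pow_one, pow_two, h.sq y hy hyA, one_zpow]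

variable [Finite G]

/-- A Sylow 2-subgroup of `G` lies in `H`, contains `x`, and contains the 2-elements of `A`. -/
theorem exists_sylow : ∃ T : Sylow 2 G, (T : Subgroup G) ≤ H ∧ x ∈ T ∧
    ∀ a ∈ A, (∃ m : ℕ, a ^ 2 ^ m = 1) → a ∈ T := by
  haveI : Fact (Nat.Prime 2) := ⟨Nat.prime_two⟩
  obtain ⟨P, hP⟩ := ((h.isPGroup_zpowers_of_not_mem h.xH h.xA).comap_of_injective H.subtype
    Subtype.coe_injective).exists_le_sylow
  set S : Subgroup G := (P : Subgroup H).map H.subtype with hS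
  have hSH : S ≤ H := Subgroup.map_subtype_le _
  have hxS : x ∈ S := ⟨⟨x, h.xH⟩, hP (Subgroup.mem_zpowers x), rfl⟩
  have hAS : ∀ a ∈ A, (∃ m : ℕ, a ^ 2 ^ m = 1) → a ∈ S := by
    intro a ha ⟨m, hm⟩
    have hz : IsPGroup 2 ((Subgroup.zpowers a).comap H.subtype) := by
      refine IsPGroup.comap_of_injective ?_ H.subtype Subtype.coe_injective
      rintro ⟨z, n, rfl⟩
      exact ⟨m, Subtype.ext (by
        rw [SubgroupClass.coe_pow, OneMemClass.coe_one, ← zpow_natCast, ← zpow_mul, mul_comm, zpow_mul,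
          zpow_natCast, hm, one_zpow])⟩
    obtain ⟨Q, hQ⟩ := hz.exists_le_sylow
    obtain ⟨k, hk⟩ := MulAction.exists_smul_eq H Q P
    have : ∀ b, ∀ hbA : b ∈ A, (⟨b, h.le hbA⟩ : H) ∈ (Q : Subgroup H) →
        (k : G) * b * (k : G)⁻¹ ∈ S := by
      intro b hbA hb
      refine ⟨k * ⟨b, h.le hbA⟩ * k⁻¹, ?_, by simp⟩
      rw [← hk]
      exact ⟨_, hb, rfl⟩
    have haQ : (⟨a, h.le ha⟩ : H) ∈ (Q : Subgroup H) := hQ (Subgroup.mem_zpowers a)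
    by_cases hkA : (k : G) ∈ A
    · have := this a ha haQ
      rwa [h.comm _ hkA a ha, mul_inv_cancel_right] at this
    · have := this a⁻¹ (A.inv_mem ha) (inv_mem haQ)
      rwa [h.inv _ k.2 hkA _ (A.inv_mem ha), inv_inv] at this
  obtain ⟨T, hT⟩ := (P.isPGroup'.map H.subtype).exists_le_sylow
  suffices hTS : (T : Subgroup G) = S by
    exact ⟨T, hTS ▸ hSH, hT hxS, fun a ha hm => hT (hAS a ha hm)⟩
  by_contra hne
  haveI : Group.IsNilpotent ↥(T : Subgroup G) := T.isPGroup'.isNilpotent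
  have hlt : S.subgroupOf (T : Subgroup G) < ⊤ :=
    lt_top_iff_ne_top.2 fun e => hne (le_antisymm (Subgroup.subgroupOf_eq_top.1 e) hT)
  obtain ⟨n, hn, hnS⟩ := SetLike.exists_of_lt (normalizerCondition_of_isNilpotent _ hlt)
  have hnc : ∀ j ∈ A, j * j = 1 → (n : G) * j * (n : G)⁻¹ ∈ S := by
    intro j hj hj2
    have hjS := hAS j hj ⟨1, by rw [pow_one, pow_two, hj2]⟩
    exact Subgroup.mem_subgroupOf.1 ((Subgroup.mem_normalizer_iff.1 hn ⟨j, hT hjS⟩).1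
      (Subgroup.mem_subgroupOf.2 hjS))
  obtain ⟨hnH, hnA⟩ := h.conj_of_two (hSH (hnc _ h.j₁A h.j₁sq)) (hSH (hnc _ h.j₂A h.j₂sq))
  -- `n` fixes an involution of `A`
  let Ω : Subgroup G :=
    { carrier := {j | j ∈ A ∧ j * j = 1}
      one_mem' := ⟨A.one_mem, one_mul 1⟩
      mul_mem' := by
        rintro a b ⟨ha, ha2⟩ ⟨hb, hb2⟩
        refine ⟨A.mul_mem ha hb, ?_⟩
        rw [show a * b * (a * b) = a * (b * a) * b by group, h.comm b hb a ha,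
          show a * (a * b) * b = a * a * (b * b) by group, ha2, hb2, mul_one]
      inv_mem' := by
        rintro a ⟨ha, ha2⟩
        exact ⟨A.inv_mem ha, by rw [← mul_inv_rev, ha2, inv_one]⟩ }
  have hΩ : ∀ m ∈ Subgroup.zpowers (n : G), ∀ j ∈ Ω, m * j * m⁻¹ ∈ Ω := by
    have hiter : ∀ (k : ℕ), ∀ j ∈ Ω, (n : G) ^ k * j * ((n : G) ^ k)⁻¹ ∈ Ω := by
      intro k
      induction k with
      | zero => intro j hj; simpa using hj
      | succ k ih =>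
        intro j hj
        rw [pow_succ', show (n : G) * (n : G) ^ k * j * ((n : G) * (n : G) ^ k)⁻¹ =
          (n : G) * ((n : G) ^ k * j * ((n : G) ^ k)⁻¹) * (n : G)⁻¹ by group]
        obtain ⟨h1, h2⟩ := ih j hj
        refine ⟨(hnA _).2 h1, ?_⟩
        rw [conj_mul, h2, mul_one, mul_inv_cancel]
    intro m hm
    obtain ⟨k, rfl⟩ := (mem_powers_iff_mem_zpowers (x := (n : G))).2 hm
    exact hiter k
  letI : MulAction (Subgroup.zpowers (n : G)) Ω :=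
    { smul := fun m j => ⟨(m : G) * j * (m : G)⁻¹, hΩ m m.2 j j.2⟩
      one_smul := fun j => Subtype.ext (by show (1 : G) * j * (1 : G)⁻¹ = j; group)
      mul_smul := fun m m' j => Subtype.ext (by
        show ((m : G) * m') * j * ((m : G) * m')⁻¹ = (m : G) * ((m' : G) * j * (m' : G)⁻¹) * (m : G)⁻¹
        group) }
  have hzp : IsPGroup 2 (Subgroup.zpowers (n : G)) :=
    T.isPGroup'.to_le (Subgroup.zpowers_le.2 n.2)
  have h2 : 2 ∣ Nat.card Ω := by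
    have := Subgroup.card_dvd_of_le (Subgroup.zpowers_le.2 (show j₁ ∈ Ω from ⟨h.j₁A, h.j₁sq⟩))
    rwa [Nat.card_zpowers, orderOf_eq_prime (p := 2) (by rw [pow_two]; exact h.j₁sq) h.j₁ne] at this
  obtain ⟨j, hj, hj1⟩ := hzp.exists_fixed_point_of_prime_dvd_card_of_fixed_point Ω h2 (a := (1 : Ω))
    (fun m => Subtype.ext (by show (m : G) * 1 * (m : G)⁻¹ = 1; group))
  have hfix : (n : G) * j * (n : G)⁻¹ = j :=
    congrArg Subtype.val (hj ⟨n, Subgroup.mem_zpowers _⟩)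
  have hnH' : (n : G) ∈ H := h.mem_H_of_commute j.2.1 j.2.2
    (fun e => hj1 (Subtype.ext e.symm)) (mul_inv_eq_iff_eq_mul.1 hfix)
  -- `n` with `P` generates a 2-subgroup of `H`
  refine hnS (Subgroup.mem_subgroupOf.2 ⟨⟨n, hnH'⟩, ?_, rfl⟩)
  have hPT : (P : Subgroup H) ≤ (T : Subgroup G).comap H.subtype := fun p hp => hT ⟨p, hp, rfl⟩
  rw [← P.3 (T.isPGroup'.comap_of_injective H.subtype Subtype.coe_injective) hPT]
  exact n.2

end NonCyc

end CfsgLib.DihCore
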