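import Cfsg.Agent.Lib.DihCore.NonCycSetup
import Cfsg.Agent.Lib.PGroup.CAI.Split
import Cfsg.Agent.Lib.PGroup.CAI.PSLEven
import Cfsg.Agent.Lib.Invol.ZStarFinal
import Cfsg.Agent.Lib.Invol.Isolated

/-!
# Self-centralising generalised dihedral groups with two central involutions

The intersection `K` of the normal subgroups of index 2 has abelian involution centralisers, so
`K` is a central extension of `PSL(2, 2^n)` by a group of odd order, and Glauberman's Z*-theorem
puts an involution outside `K` into the centre modulo the core.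
-/

set_option autoImplicit false

namespace CfsgLib.DihCore

universe u

variable {G : Type u} [Group G]

/-- The intersection of the normal subgroups of index 2. -/
def sqCore (G : Type u) [Group G] : Subgroup G :=
  sInf {M : Subgroup G | M.Normal ∧ M.index = 2}

theorem mem_sqCore {g : G} :
    g ∈ sqCore G ↔ ∀ M : Subgroup G, M.Normal → M.index = 2 → g ∈ M := by
  simp [sqCore, Subgroup.mem_sInf]

theorem mul_self_mem_sqCore (g : G) : g * g ∈ sqCore G :=
  mem_sqCore.2 fun _ _ hM => (Subgroup.mul_mem_iff_of_index_two hM).2 Iff.rfl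

theorem sqCore_normal : (sqCore G).Normal :=
  ⟨fun k hk g => mem_sqCore.2 fun M hMn hM => hMn.conj_mem k (mem_sqCore.1 hk M hMn hM) g⟩

theorem commutator_mem_sqCore (a b : G) : a * b * a⁻¹ * b⁻¹ ∈ sqCore G :=
  mem_sqCore.2 fun M _ hM => by
    simp only [Subgroup.mul_mem_iff_of_index_two hM, inv_mem_iff]
    tauto

theorem mem_sqCore_of_odd [Finite G] {g : G} (hg : Odd (orderOf g)) : g ∈ sqCore G := by
  obtain ⟨k, hk⟩ := hg
  have e : (g * g) ^ (k + 1) = g := by
    rw [← pow_two, ← pow_mul, show 2 * (k + 1) = orderOf g + 1 by omega, pow_succ,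
      pow_orderOf_eq_one, one_mul]
  exact e ▸ (sqCore G).pow_mem (mul_self_mem_sqCore g) _

/-- `Odd` number of elements outside an index two subgroup multiply to an element outside it. -/
theorem prod_not_mem {ι : Type*} {T : Type*} [CommGroup T] (B : Subgroup T) (hB : B.index = 2)
    (f : ι → T) (s : Finset ι) (hf : ∀ i ∈ s, f i ∉ B) : (∏ i ∈ s, f i) ∈ B ↔ Even s.card := by
  classical
  induction s using Finset.induction_on with
  | empty => simp [B.one_mem]
  | insert a t ha ih =>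
    rw [Finset.prod_insert ha, Finset.card_insert_of_notMem ha, Subgroup.mul_mem_iff_of_index_two hB,
      ih (fun i hi => hf i (Finset.mem_insert_of_mem hi)), Nat.even_add_one]
    have := hf a (Finset.mem_insert_self _ _)
    tauto

variable [Finite G]

namespace NonCyc

variable {H A : Subgroup G} {x j₁ j₂ : G} (h : NonCyc H A x j₁ j₂)
include h

/-- Elements of the Sylow 2-subgroup inside `sqCore` lie in `A`. -/
theorem sylow_inf_le (T : Sylow 2 G) (hTH : (T : Subgroup G) ≤ H) (hxT : x ∈ T) {t : G} (ht : t ∈ T)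
    (htK : t ∈ sqCore G) : t ∈ A := by
  by_contra htA
  haveI : Fact (Nat.Prime 2) := ⟨Nat.prime_two⟩
  have hi : (A ⊓ (T : Subgroup G)).relIndex (T : Subgroup G) = 2 := by
    rw [Subgroup.relIndex, Subgroup.index_eq_two_iff]
    refine ⟨⟨x, hxT⟩, fun b => ?_⟩
    by_cases hb : (b : G) ∈ A
    · refine Or.inr ⟨Subgroup.mem_subgroupOf.2 ⟨hb, b.2⟩, fun hc => h.xA ?_⟩
      exact (A.mul_mem_cancel_left hb).1 (Subgroup.mem_subgroupOf.1 hc).1
    · refine Or.inl ⟨Subgroup.mem_subgroupOf.2 ⟨h.two _ (hTH b.2) hb _ h.xH h.xA, ?_⟩, fun hc => hb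
        (Subgroup.mem_subgroupOf.1 hc).1⟩
      exact (b * ⟨x, hxT⟩).2
  have htsq := h.sq t (hTH ht) htA
  have ht1 : t ≠ 1 := fun e => htA (e ▸ A.one_mem)
  rcases Cfsg.Agent.S0111.result T (A ⊓ (T : Subgroup G)) inf_le_right hi t
    (orderOf_eq_prime (by rw [pow_two]; exact htsq) ht1) ht (fun hc => htA hc.1) with
    ⟨M, hMn, hM, htM⟩ | ⟨g, hg⟩
  · exact htM (mem_sqCore.1 htK M hMn hM)
  · refine h.not_fused (g := g⁻¹) hg.1 ?_ ?_ (hTH ht) htA (by group)
    · rw [show g * t * g⁻¹ * (g * t * g⁻¹) = g * (t * t) * g⁻¹ by group, htsq]; group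
    · exact fun e => ht1 (conj_eq_one_iff.1 e)

/-- `H ⊓ sqCore G ≤ A`. -/
theorem inf_sqCore_le (T : Sylow 2 G) (hTH : (T : Subgroup G) ≤ H) (hxT : x ∈ T) {k : G} (hkH : k ∈ H)
    (hk : k ∈ sqCore G) : k ∈ A := by
  by_contra hkA
  haveI : Fact (Nat.Prime 2) := ⟨Nat.prime_two⟩
  obtain ⟨Q, hQ⟩ := ((h.isPGroup_zpowers_of_not_mem hkH hkA).comap_of_injective H.subtype
    Subtype.coe_injective).exists_le_sylow
  obtain ⟨c, hc⟩ := MulAction.exists_smul_eq H Q (T.subtype hTH)
  have hcm : (c : G) * k * (c : G)⁻¹ ∈ T := by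
    have : c * ⟨k, hkH⟩ * c⁻¹ ∈ (T.subtype hTH : Subgroup H) := by
      rw [← hc]; exact ⟨⟨k, hkH⟩, hQ (Subgroup.mem_zpowers k), rfl⟩
    exact this
  have hA' := h.sylow_inf_le T hTH hxT hcm (sqCore_normal.conj_mem k hk c)
  have := h.conj_mem_A (inv_mem c.2) hA'
  rw [show (c : G)⁻¹ * ((c : G) * k * (c : G)⁻¹) * (c : G)⁻¹⁻¹ = k by group] at this
  exact hkA this

/-- Involution centralisers of `sqCore G` are abelian. -/
theorem centAbelian (T : Sylow 2 G) (hTH : (T : Subgroup G) ≤ H) (hxT : x ∈ T) :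
    CfsgLib.PGroup.CAI.CentAbelian ↥(sqCore G) := by
  haveI : Fact (Nat.Prime 2) := ⟨Nat.prime_two⟩
  intro t ht
  have ht' : orderOf (t : G) = 2 := by rw [Subgroup.orderOf_coe, ht]
  obtain ⟨S, hS⟩ := (IsPGroup.of_card (G := Subgroup.zpowers (t : G)) (p := 2) (n := 1)
    (by rw [Nat.card_zpowers, ht', pow_one])).exists_le_sylow
  obtain ⟨g, hg⟩ := MulAction.exists_smul_eq G S T
  have hj : g * (t : G) * g⁻¹ ∈ T := by
    rw [← hg]; exact ⟨t, hS (Subgroup.mem_zpowers _), rfl⟩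
  have hjA := h.sylow_inf_le T hTH hxT hj (sqCore_normal (G := G) |>.conj_mem (t : G) (t : sqCore G).2 g)
  have hjo : orderOf (g * (t : G) * g⁻¹) = 2 := by rw [← MulAut.conj_apply, MulEquiv.orderOf_eq, ht']
  have hmem : ∀ c : Subgroup.centralizer ({t} : Set (sqCore G)), g * ((c : sqCore G) : G) * g⁻¹ ∈ A := by
    intro c
    refine h.inf_sqCore_le T hTH hxT ?_ (sqCore_normal.conj_mem _ (c : sqCore G).2 g)
    refine h.mem_H_of_commute hjA
      (by rw [← pow_two, ← hjo, pow_orderOf_eq_one]) (fun e => by simp [e] at hjo) ?_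
    have e := congrArg Subtype.val (Subgroup.mem_centralizer_singleton_iff.1 c.2)
    simp only [Subgroup.coe_mul] at e
    calc g * ((c : sqCore G) : G) * g⁻¹ * (g * (t : G) * g⁻¹)
        = g * (((c : sqCore G) : G) * t) * g⁻¹ := by group
      _ = g * ((t : G) * (c : sqCore G)) * g⁻¹ := by rw [e]
      _ = g * (t : G) * g⁻¹ * (g * ((c : sqCore G) : G) * g⁻¹) := by group
  refine ⟨⟨fun a b => Subtype.ext (Subtype.ext ?_)⟩⟩
  have := h.comm _ (hmem a) _ (hmem b)
  apply mul_left_cancel (a := g)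
  apply mul_right_cancel (b := g⁻¹)
  calc g * (((a : sqCore G) : G) * (b : sqCore G)) * g⁻¹
      = g * ((a : sqCore G) : G) * g⁻¹ * (g * ((b : sqCore G) : G) * g⁻¹) := by group
    _ = g * ((b : sqCore G) : G) * g⁻¹ * (g * ((a : sqCore G) : G) * g⁻¹) := this
    _ = g * (((b : sqCore G) : G) * (a : sqCore G)) * g⁻¹ := by group

end NonCyc

theorem not_isSolvable_sqCore (hns : ¬ Group.IsSolvable G) : ¬ Group.IsSolvable ↥(sqCore G) := by
  intro hs
  haveI := hs
  haveI := sqCore_normal (G := G)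
  haveI : Group.IsSolvable (G ⧸ sqCore G) := Group.isSolvable_of_comm fun a b => by
    obtain ⟨a, rfl⟩ := QuotientGroup.mk_surjective a
    obtain ⟨b, rfl⟩ := QuotientGroup.mk_surjective b
    rw [← QuotientGroup.mk_mul, ← QuotientGroup.mk_mul, QuotientGroup.eq]
    have := commutator_mem_sqCore b⁻¹ a⁻¹
    rwa [show b⁻¹ * a⁻¹ * b⁻¹⁻¹ * a⁻¹⁻¹ = (a * b)⁻¹ * (b * a) by group] at this
  exact hns (Group.isSolvable_of_ker_le_range (sqCore G).subtype (QuotientGroup.mk' _)
    (le_of_eq ((QuotientGroup.ker_mk' _).trans (Subgroup.range_subtype _).symm)))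

/-- A Sylow 2-subgroup centralised by its normaliser forces solvability. -/
theorem isSolvable_of_normalizer_le {K : Type u} [Group K] [Finite K] (P : Sylow 2 K)
    (hP : Subgroup.normalizer ((P : Subgroup K) : Set K) ≤ Subgroup.centralizer ((P : Subgroup K) : Set K)) :
    Group.IsSolvable K := by
  haveI : Fact (Nat.Prime 2) := ⟨Nat.prime_two⟩
  have hc := MonoidHom.ker_transferSylow_isComplement' P hP
  refine isSolvable_of_odd_normal (MonoidHom.transferSylow P hP).ker ?_ ?_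
  · rw [← Nat.not_even_iff_odd, even_iff_two_dvd]
    exact MonoidHom.not_dvd_card_ker_transferSylow P hP
  · haveI : Group.IsNilpotent (K ⧸ (MonoidHom.transferSylow P hP).ker) :=
      IsPGroup.isNilpotent (p := 2) (by
        obtain ⟨n, hn⟩ := P.isPGroup'.exists_card_eq
        exact IsPGroup.of_card (n := n) (by rw [← Subgroup.index_eq_card, hc.symm.index_eq_card, hn]))
    infer_instance

theorem twoGood {K : Type u} [Group K] [Finite K] (hns : ¬ Group.IsSolvable K) :
    CfsgLib.PGroup.CAI.TwoGood K := by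
  haveI : Fact (Nat.Prime 2) := ⟨Nat.prime_two⟩
  refine ⟨fun P hP => hns ?_, fun P hP => hns ?_⟩
  · refine isSolvable_of_normalizer_le P ?_
    refine IsCyclic.normalizer_le_centralizer ?_ hP
    exact (Nat.minFac_eq_two_iff _).2 (even_iff_two_dvd.1 (Nat.not_odd_iff_even.1 fun ho =>
      hns (Cfsg.Agent.S0205.result ho)))
  · haveI := hP
    exact isSolvable_of_sylow_normal P

namespace NonCyc

variable {H A : Subgroup G} {x j₁ j₂ : G} (h : NonCyc H A x j₁ j₂)
include h

/-- The 2-part of `A` lies in `sqCore G`. -/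
theorem sylow_part_le (T : Sylow 2 G) (hTH : (T : Subgroup G) ≤ H) (hxT : x ∈ T)
    (hTA : ∀ a ∈ A, (∃ m : ℕ, a ^ 2 ^ m = 1) → a ∈ T) (hns : ¬ Group.IsSolvable G)
    {y : G} (hyT : y ∈ T) (hyA : y ∈ A) : y ∈ sqCore G := by
  classical
  haveI : Fact (Nat.Prime 2) := ⟨Nat.prime_two⟩
  by_contra hyK
  haveI := sqCore_normal (G := G)
  -- a Sylow 2-subgroup of `sqCore G` is `T ⊓ sqCore G`
  have hBp : IsPGroup 2 ((T : Subgroup G).subgroupOf (sqCore G)) :=
    T.isPGroup'.comap_of_injective _ Subtype.coe_injective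
  obtain ⟨P, hP⟩ := hBp.exists_le_sylow
  have hPT : (P : Subgroup (sqCore G)) = (T : Subgroup G).subgroupOf (sqCore G) := by
    obtain ⟨S, hS⟩ := (P.isPGroup'.map (sqCore G).subtype).exists_le_sylow
    obtain ⟨g, hg⟩ := MulAction.exists_smul_eq G S T
    let φ : ↥(P : Subgroup (sqCore G)) → ↥((T : Subgroup G).subgroupOf (sqCore G)) := fun p =>
      ⟨⟨g * ((p : sqCore G) : G) * g⁻¹, sqCore_normal.conj_mem _ (p : sqCore G).2 g⟩,
        Subgroup.mem_subgroupOf.2 (by rw [← hg]; exact ⟨_, hS ⟨_, p.2, rfl⟩, rfl⟩)⟩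
    have hφ : Function.Injective φ := fun p q e => Subtype.ext (Subtype.ext (by
      simpa [φ] using congrArg (fun z : ↥((T : Subgroup G).subgroupOf (sqCore G)) => ((z : sqCore G) : G)) e))
    exact (Subgroup.eq_of_le_of_card_ge hP (Nat.card_le_card_of_injective φ hφ)).symm
  have hPmem : ∀ p : sqCore G, p ∈ (P : Subgroup (sqCore G)) ↔ (p : G) ∈ T := by
    intro p; rw [hPT, Subgroup.mem_subgroupOf]; rfl
  have hPA : ∀ p : sqCore G, p ∈ (P : Subgroup (sqCore G)) → (p : G) ∈ A := fun p hp =>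
    h.sylow_inf_le T hTH hxT ((hPmem p).1 hp) p.2
  -- an involution of `P`
  obtain ⟨b, hb⟩ := exists_prime_orderOf_dvd_card' (G := sqCore G) 2
    (even_iff_two_dvd.1 (Nat.not_odd_iff_even.1 fun ho =>
      not_isSolvable_sqCore hns (Cfsg.Agent.S0205.result ho)))
  obtain ⟨S, hS⟩ := (IsPGroup.of_card (G := Subgroup.zpowers b) (p := 2) (n := 1)
    (by rw [Nat.card_zpowers, hb, pow_one])).exists_le_sylow
  obtain ⟨c, hc⟩ := MulAction.exists_smul_eq (sqCore G) S P
  set i := c * b * c⁻¹ with hidef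
  have hiP : i ∈ (P : Subgroup (sqCore G)) := by
    rw [← hc]; exact ⟨b, hS (Subgroup.mem_zpowers b), rfl⟩
  have hi2 : orderOf i = 2 := by rw [hidef, ← MulAut.conj_apply, MulEquiv.orderOf_eq, hb]
  have hisq : (i : G) * i = 1 := by
    rw [← Subgroup.coe_mul, ← pow_two, ← hi2, pow_orderOf_eq_one]; rfl
  have hi1 : (i : G) ≠ 1 := fun e => by
    rw [← Subgroup.orderOf_coe, e, orderOf_one] at hi2; omega
  -- normalisers of `P` act on the coset
  set N := Subgroup.normalizer ((P : Subgroup (sqCore G)) : Set (sqCore G)) with hN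
  have hnA : ∀ n ∈ N, ∀ z, (n : G) * z * (n : G)⁻¹ ∈ A ↔ z ∈ A := by
    intro n hn
    have h1 : (n : G) * i * (n : G)⁻¹ ∈ A := by
      have := hPA _ ((Subgroup.mem_normalizer_iff.1 hn i).1 hiP)
      simpa using this
    exact fun z => h.conj_mem_iff (h.conj_H (hPA i hiP) hisq hi1 h1) z
  have hAcent : ∀ n : sqCore G, (n : G) ∈ A → n ∈ Subgroup.centralizer ((P : Subgroup (sqCore G)) : Set (sqCore G)) :=
    fun n hn => Subgroup.mem_centralizer_iff.2 fun p hp => Subtype.ext (h.comm _ (hPA p hp) _ hn)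
  refine not_isSolvable_sqCore hns (isSolvable_of_normalizer_le P ?_)
  rw [← hN]
  suffices hidx : ((Subgroup.centralizer ((P : Subgroup (sqCore G)) : Set (sqCore G))).subgroupOf N).index = 1 by
    exact Subgroup.subgroupOf_eq_top.1 (Subgroup.index_eq_one.1 hidx)
  by_contra hne
  obtain ⟨r, hr, hrd⟩ := Nat.exists_prime_and_dvd hne
  haveI : Fact r.Prime := ⟨hr⟩
  obtain ⟨R⟩ := (inferInstance : Nonempty (Sylow r N))
  refine R.not_dvd_index (hrd.trans (Subgroup.index_dvd_of_le fun n hn => ?_))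
  obtain ⟨e, he⟩ := R.isPGroup' ⟨n, hn⟩
  have hne' : n ^ r ^ e = 1 := congrArg Subtype.val he
  rw [Subgroup.mem_subgroupOf]
  by_cases hr2 : r = 2
  · -- a 2-element of the normaliser lies in `P`
    subst hr2
    apply hAcent
    apply hPA
    have hz : IsPGroup 2 (Subgroup.zpowers (n : sqCore G)) := by
      rintro ⟨z, k, rfl⟩
      refine ⟨e, Subtype.ext ?_⟩
      rw [SubgroupClass.coe_pow, OneMemClass.coe_one, ← zpow_natCast, ← zpow_mul, mul_comm, zpow_mul,
        zpow_natCast, ← SubgroupClass.coe_pow, hne', OneMemClass.coe_one, one_zpow]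
    have := hz.inf_normalizer_sylow P
    exact (this.le ⟨Subgroup.mem_zpowers _, n.2⟩).2
  · -- an element of order prime to 2 fixes a point of the coset
    let Y : Set G := {z | z ∈ A ∧ z ∈ T ∧ z * y⁻¹ ∈ sqCore G}
    have hY : ∀ g : N, ∀ z ∈ Y, ((g : sqCore G) : G) * z * ((g : sqCore G) : G)⁻¹ ∈ Y := by
      rintro g z ⟨hzA, hzT, hzK⟩
      refine ⟨(hnA _ g.2 z).2 hzA, hTA _ ((hnA _ g.2 z).2 hzA) ?_, ?_⟩
      · obtain ⟨m, hm⟩ := T.isPGroup' ⟨z, hzT⟩
        refine ⟨m, ?_⟩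
        rw [conj_pow, show z ^ 2 ^ m = 1 from congrArg Subtype.val hm, mul_one, mul_inv_cancel]
      · have := (sqCore G).mul_mem (commutator_mem_sqCore ((g : sqCore G) : G) z) hzK
        rwa [show ((g : sqCore G) : G) * z * ((g : sqCore G) : G)⁻¹ * z⁻¹ * (z * y⁻¹) =
          ((g : sqCore G) : G) * z * ((g : sqCore G) : G)⁻¹ * y⁻¹ by group] at this
    letI : MulAction N Y :=
      { smul := fun g z => ⟨_, hY g z z.2⟩
        one_smul := fun z => Subtype.ext (by show (1 : G) * z * (1 : G)⁻¹ = z; group)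
        mul_smul := fun g g' z => Subtype.ext (by
          show (((g : sqCore G) : G) * (g' : sqCore G)) * z * (((g : sqCore G) : G) * (g' : sqCore G))⁻¹ =
            ((g : sqCore G) : G) * (((g' : sqCore G) : G) * z * ((g' : sqCore G) : G)⁻¹) * ((g : sqCore G) : G)⁻¹
          group) }
    have hcard : Nat.card Y = Nat.card (P : Subgroup (sqCore G)) := by
      refine Nat.card_congr ⟨fun z => ⟨⟨(z : G) * y⁻¹, z.2.2.2⟩, (hPmem _).2
          ((T : Subgroup G).mul_mem z.2.2.1 ((T : Subgroup G).inv_mem hyT))⟩,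
        fun p => ⟨((p : sqCore G) : G) * y, A.mul_mem (hPA p p.2) hyA,
          (T : Subgroup G).mul_mem ((hPmem p).1 p.2) hyT, by simp⟩,
        fun z => Subtype.ext (by simp), fun p => Subtype.ext (Subtype.ext (by simp))⟩
    have hndvd : ¬ r ∣ Nat.card Y := by
      rw [hcard]
      obtain ⟨k, hk⟩ := P.isPGroup'.exists_card_eq
      rw [hk]
      exact fun hd => hr2 ((Nat.prime_dvd_prime_iff_eq hr Nat.prime_two).1 (hr.dvd_of_dvd_pow hd))
    have hrp : IsPGroup r (Subgroup.zpowers n) := by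
      rintro ⟨z, k, rfl⟩
      refine ⟨e, Subtype.ext ?_⟩
      rw [SubgroupClass.coe_pow, OneMemClass.coe_one, ← zpow_natCast, ← zpow_mul, mul_comm, zpow_mul,
        zpow_natCast, hne', one_zpow]
    obtain ⟨z, hz⟩ := hrp.nonempty_fixed_point_of_prime_not_dvd_card Y hndvd
    have hzfix : ((n : sqCore G) : G) * (z : G) * ((n : sqCore G) : G)⁻¹ = z :=
      congrArg Subtype.val (hz ⟨n, Subgroup.mem_zpowers n⟩)
    have hcomm : Commute ((n : sqCore G) : G) (z : G) := mul_inv_eq_iff_eq_mul.1 hzfix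
    obtain ⟨hzA, hzT, hzK⟩ := z.2
    have hz1 : (z : G) ≠ 1 := fun e => hyK (by rw [e, one_mul, inv_mem_iff] at hzK; exact hzK)
    obtain ⟨m, hm⟩ := T.isPGroup' ⟨z, hzT⟩
    have hm' : (z : G) ^ 2 ^ m = 1 := congrArg Subtype.val hm
    have h2 : 2 ∣ orderOf (z : G) := by
      obtain ⟨k, -, hk⟩ := (Nat.dvd_prime_pow Nat.prime_two).1 (orderOf_dvd_of_pow_eq_one hm')
      cases k with
      | zero => exact absurd (orderOf_eq_one_iff.1 (by rw [hk, pow_zero])) hz1
      | succ k => exact ⟨2 ^ k, by rw [hk, pow_succ']⟩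
    obtain ⟨k, hk⟩ := h2
    have hj : orderOf ((z : G) ^ k) = 2 := by
      have hk0 : k ≠ 0 := fun e => (orderOf_pos (z : G)).ne' (by rw [hk, e, mul_zero])
      rw [orderOf_pow' _ hk0, hk, Nat.gcd_mul_left_left, Nat.mul_div_cancel _ (Nat.pos_of_ne_zero hk0)]
    apply hAcent
    refine h.inf_sqCore_le T hTH hxT ?_ (n : sqCore G).2
    exact h.mem_H_of_commute (A.pow_mem hzA k) (by rw [← pow_two, ← hj, pow_orderOf_eq_one])
      (fun e => by rw [e, orderOf_one] at hj; omega) (hcomm.pow_right k).eq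

/-- **Non-cyclic case.** -/
theorem target (hns : ¬ Group.IsSolvable G) : Target G := by
  classical
  haveI : Fact (Nat.Prime 2) := ⟨Nat.prime_two⟩
  haveI hKn := sqCore_normal (G := G)
  obtain ⟨T, hTH, hxT, hTA⟩ := h.exists_sylow
  have hnsK := not_isSolvable_sqCore hns
  obtain ⟨F, iF, iF', π, hchar, h4, hπs, hπk, hZodd⟩ := CfsgLib.PGroup.CAI.splitLinear _ (sqCore G) rfl
    (twoGood hnsK) (h.centAbelian T hTH hxT)
  haveI := hchar
  obtain ⟨hsimp, hnc, hPns⟩ := CfsgLib.Classical.Dickson.noncomm_of_four_le (F := F) rfl h4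
  haveI := hsimp
  have hxK : x ∉ sqCore G := fun hx => h.xA (h.sylow_inf_le T hTH hxT hxT hx)
  have hAK : ∀ y ∈ T, y ∈ A → y ∈ sqCore G := fun y hyT hyA => h.sylow_part_le T hTH hxT hTA hns hyT hyA
  -- 2-elements of `sqCore G` square to 1
  have hsqK : ∀ k : sqCore G, (∃ m : ℕ, k ^ 2 ^ m = 1) → k * k = 1 := by
    rintro k ⟨m, hm⟩
    have hmem : k * k ∈ Subgroup.center (sqCore G) := by
      rw [← hπk, MonoidHom.mem_ker, map_mul]
      by_cases h1 : π k = 1
      · rw [h1, one_mul]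
      have hm' : (π k) ^ 2 ^ m = 1 := by rw [← map_pow, hm, map_one]
      obtain ⟨l, -, hl⟩ := (Nat.dvd_prime_pow Nat.prime_two).1 (orderOf_dvd_of_pow_eq_one hm')
      have hl0 : l ≠ 0 := fun e => h1 (orderOf_eq_one_iff.1 (by rw [hl, e, pow_zero]))
      obtain ⟨l, rfl⟩ := Nat.exists_eq_succ_of_ne_zero hl0
      have hv : orderOf ((π k) ^ 2 ^ l) = 2 := by
        rw [orderOf_pow' _ (pow_ne_zero _ two_ne_zero), hl, pow_succ, Nat.gcd_mul_right_left,
          Nat.mul_div_cancel_left _ (pow_pos two_pos _)]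
      exact CfsgLib.PGroup.CAI.sq_eq_one_of_commute_invol hv ((Commute.refl (π k)).pow_right _).eq
    refine CfsgLib.PGroup.CAI.eq_one_of_two_pow_mem hZodd hmem ⟨m, ?_⟩
    rw [← pow_two, ← pow_mul, mul_comm, pow_mul, hm, one_pow]
  have hTsq : ∀ t ∈ T, t * t = 1 := by
    intro t ht
    by_cases htA : t ∈ A
    · obtain ⟨m, hm⟩ := T.isPGroup' ⟨t, ht⟩
      exact congrArg Subtype.val (hsqK ⟨t, hAK t ht htA⟩ ⟨m, Subtype.ext (by simpa using congrArg Subtype.val hm)⟩)
    · exact h.sq t (hTH ht) htA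
  haveI hTc : IsMulCommutative (T : Subgroup G) := ⟨⟨fun a b => Subtype.ext (by
    have e1 : (a : G)⁻¹ = a := inv_eq_of_mul_eq_one_right (hTsq a a.2)
    have e2 : (b : G)⁻¹ = b := inv_eq_of_mul_eq_one_right (hTsq b b.2)
    have e3 : ((a : G) * b)⁻¹ = (a : G) * b := inv_eq_of_mul_eq_one_right (hTsq _ (a * b).2)
    show (a : G) * b = b * a
    rw [← e3, mul_inv_rev, e1, e2])⟩⟩
  -- a reflection fixed by the normaliser of `T`
  set N := Subgroup.normalizer ((T : Subgroup G) : Set G) with hNdef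
  set B := (sqCore G).subgroupOf (T : Subgroup G) with hBdef
  have hBmem : ∀ t : ↥(T : Subgroup G), t ∈ B ↔ (t : G) ∈ A := fun t =>
    ⟨fun ht => h.sylow_inf_le T hTH hxT t.2 (Subgroup.mem_subgroupOf.1 ht),
      fun ht => Subgroup.mem_subgroupOf.2 (hAK t t.2 ht)⟩
  have hB : B.index = 2 := by
    rw [Subgroup.index_eq_two_iff]
    refine ⟨⟨x, hxT⟩, fun b => ?_⟩
    rw [hBmem, hBmem, Subgroup.coe_mul]
    by_cases hb : (b : G) ∈ A
    · exact Or.inr ⟨hb, fun hc => h.xA ((A.mul_mem_cancel_left hb).1 hc)⟩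
    · exact Or.inl ⟨h.two _ (hTH b.2) hb _ h.xH h.xA, hb⟩
  set Q := N ⧸ ((T : Subgroup G).subgroupOf N) with hQ
  haveI : Fintype Q := Fintype.ofFinite Q
  have hcx : ∀ n : N, (n : G) * x * (n : G)⁻¹ ∈ T := fun n => (Subgroup.mem_normalizer_iff.1 n.2 x).1 hxT
  let f₀ : N → ↥(T : Subgroup G) := fun n => ⟨(n : G) * x * (n : G)⁻¹, hcx n⟩
  have hf₀ : ∀ a b : N, (QuotientGroup.mk a : Q) = QuotientGroup.mk b → f₀ a = f₀ b := by
    intro a b e
    have hm : ((a : G)⁻¹ * (b : G)) ∈ T := Subgroup.mem_subgroupOf.1 (QuotientGroup.eq.1 e)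
    have hc : (a : G)⁻¹ * (b : G) * x = x * ((a : G)⁻¹ * (b : G)) :=
      congrArg Subtype.val (hTc.is_comm.comm ⟨_, hm⟩ ⟨x, hxT⟩)
    refine Subtype.ext ?_
    show (a : G) * x * (a : G)⁻¹ = (b : G) * x * (b : G)⁻¹
    calc (a : G) * x * (a : G)⁻¹ = (a : G) * (x * ((a : G)⁻¹ * b)) * (b : G)⁻¹ := by group
      _ = (a : G) * ((a : G)⁻¹ * b * x) * (b : G)⁻¹ := by rw [hc]
      _ = (b : G) * x * (b : G)⁻¹ := by group
  letI : CommGroup ↥(T : Subgroup G) :=
    { (inferInstance : Group ↥(T : Subgroup G)) with mul_comm := hTc.is_comm.comm }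
  set s : ↥(T : Subgroup G) := ∏ q : Q, f₀ q.out with hsdef
  have hsB : s ∉ B := by
    rw [hsdef, prod_not_mem B hB _ Finset.univ fun q _ hq => ?_]
    · rw [Finset.card_univ, ← Nat.card_eq_fintype_card, Nat.not_even_iff_odd, ← Nat.not_even_iff_odd,
        even_iff_two_dvd]
      intro hd
      have hd' : 2 ∣ (T : Subgroup G).relIndex N := hd
      exact T.not_dvd_index (hd'.trans (Subgroup.relIndex_dvd_index_of_le Subgroup.le_normalizer))
    · have : ((q.out : N) : G) * x * ((q.out : N) : G)⁻¹ ∈ sqCore G :=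
        Subgroup.mem_subgroupOf.1 hq
      have h2 := hKn.conj_mem _ this ((q.out : N) : G)⁻¹
      rw [show ((q.out : N) : G)⁻¹ * (((q.out : N) : G) * x * ((q.out : N) : G)⁻¹) *
        ((q.out : N) : G)⁻¹⁻¹ = x by group] at h2
      exact hxK h2
  have hsK : (s : G) ∉ sqCore G := fun hs => hsB (Subgroup.mem_subgroupOf.2 hs)
  have hs1 : (s : G) ≠ 1 := fun e => hsK (e ▸ (sqCore G).one_mem)
  have hsinv : ∀ n : N, (n : G) * s * (n : G)⁻¹ = s := by
    intro n
    let c : ↥(T : Subgroup G) →* ↥(T : Subgroup G) :=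
      { toFun := fun t => ⟨(n : G) * t * (n : G)⁻¹, (Subgroup.mem_normalizer_iff.1 n.2 t).1 t.2⟩
        map_one' := Subtype.ext (by simp)
        map_mul' := fun a b => Subtype.ext (by simp) }
    have hc : c s = s := by
      rw [hsdef, map_prod]
      refine Fintype.prod_equiv (MulAction.toPerm n) _ _ fun q => ?_
      have e : (QuotientGroup.mk (n * q.out) : Q) = QuotientGroup.mk (MulAction.toPerm n q : Q).out := by
        rw [QuotientGroup.out_eq', MulAction.toPerm_apply]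
        conv_rhs => rw [← QuotientGroup.out_eq' q]
        rfl
      rw [← hf₀ _ _ e]
      exact Subtype.ext (by simp [c, f₀, mul_assoc])
    exact congrArg Subtype.val hc
  have hs2 : orderOf (s : G) = 2 := orderOf_eq_prime (by rw [pow_two]; exact hTsq _ s.2) hs1
  have hiso : Cfsg.IsIsolatedInvolution (s : G) := by
    refine CfsgLib.Invol.isolated_of_sylow T hs2 s.2 fun g hg => ?_
    obtain ⟨n, hn, he⟩ := T.conj_eq_normalizer_conj_of_mem (s : G) g⁻¹ s.2 (by rw [inv_inv]; exact hg)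
    rw [inv_inv] at he
    rw [he]
    simpa using hsinv ⟨n⁻¹, inv_mem hn⟩
  -- the core is the centre of `sqCore G`
  set O := Cfsg.oddCore G with hOdef
  have hOodd : Odd (Nat.card O) := CfsgLib.Cores.odd_card_oddCore
  haveI hOn : O.Normal := inferInstance
  have hOK : O ≤ sqCore G := fun g hg => mem_sqCore_of_odd
    (hOodd.of_dvd_nat (Subgroup.orderOf_dvd_natCard O hg))
  have hOker : ∀ k : sqCore G, (k : G) ∈ O ↔ π k = 1 := by
    intro k
    constructor
    · intro hk
      set O' := (O.subgroupOf (sqCore G)).map π with hO'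
      haveI : O'.Normal := Subgroup.Normal.map inferInstance π hπs
      rcases (inferInstance : O'.Normal).eq_bot_or_eq_top with hb | ht
      · exact Subgroup.mem_bot.1 (hb ▸ ⟨k, Subgroup.mem_subgroupOf.2 hk, rfl⟩ : π k ∈ (⊥ : Subgroup _))
      · exfalso
        refine hPns (Cfsg.Agent.S0205.result (hOodd.of_dvd_nat ?_))
        have h2 := Subgroup.card_map_dvd (O.subgroupOf (sqCore G)) π
        rw [← hO', ht, Subgroup.card_top] at h2
        exact h2.trans (by rw [Nat.card_congr (Subgroup.subgroupOfEquivOfLe hOK).toEquiv])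
    · intro hk
      haveI : ((Subgroup.center (sqCore G)).map (sqCore G).subtype).Normal := inferInstance
      refine CfsgLib.Cores.le_oddCore_of_odd (N := (Subgroup.center (sqCore G)).map (sqCore G).subtype)
        (by rwa [Subgroup.card_map_of_injective (sqCore G).subtype_injective]) ⟨k, ?_, rfl⟩
      rwa [← hπk]
  -- modulo the core `s` is central
  set sb : G ⧸ O := QuotientGroup.mk (s : G) with hsb
  have hscent : sb ∈ Subgroup.center (G ⧸ O) := by
    refine Subgroup.mem_center_iff.2 fun q => ?_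
    obtain ⟨g, rfl⟩ := QuotientGroup.mk_surjective q
    rw [hsb, ← QuotientGroup.mk_mul, ← QuotientGroup.mk_mul, QuotientGroup.eq]
    have := hOn.conj_mem _ (CfsgLib.Invol.zstar hiso g) ((g * (s : G))⁻¹)
    rwa [show (g * (s : G))⁻¹ * ((s : G) * g * (s : G)⁻¹ * g⁻¹) * (g * (s : G))⁻¹⁻¹ =
      (g * (s : G))⁻¹ * ((s : G) * g) by group] at this
  haveI hZn : (Subgroup.zpowers sb).Normal := ⟨fun z hz q => by
    have hzc : z ∈ Subgroup.center (G ⧸ O) := (Subgroup.zpowers_le.2 hscent) hz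
    rwa [Subgroup.mem_center_iff.1 hzc q, mul_inv_cancel_right]⟩
  set M := (Subgroup.zpowers sb).comap (QuotientGroup.mk' O) with hMdef
  have hsb1 : sb ≠ 1 := fun e => hsK (hOK ((QuotientGroup.eq_one_iff _).1 e))
  have hsb2 : orderOf sb = 2 := orderOf_eq_prime
    (by rw [hsb, ← QuotientGroup.mk_pow, pow_two, hTsq _ s.2, QuotientGroup.mk_one]) hsb1
  have hOM : O ≤ M := fun g hg => by
    rw [hMdef, Subgroup.mem_comap, QuotientGroup.mk'_apply, (QuotientGroup.eq_one_iff _).2 hg]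
    exact one_mem _
  have hMcard : Nat.card M = 2 * Nat.card O := by
    have h1 := Subgroup.relIndex_comap (⊥ : Subgroup (G ⧸ O)) (QuotientGroup.mk' O) M
    rw [MonoidHom.comap_bot, QuotientGroup.ker_mk', hMdef,
      Subgroup.map_comap_eq_self_of_surjective (QuotientGroup.mk'_surjective O),
      Subgroup.relIndex_bot_left, Nat.card_zpowers, hsb2] at h1
    rw [← Subgroup.card_mul_index (O.subgroupOf M), Nat.card_congr (Subgroup.subgroupOfEquivOfLe hOM).toEquiv,
      mul_comm, ← hMdef] at *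
    rw [show (O.subgroupOf M).index = 2 from h1]
  -- the quotient is the simple group
  have hgen : ∀ g : G, g ∈ sqCore G ∨ g * (s : G) ∈ sqCore G := by
    haveI : ((sqCore G) ⊔ (T : Subgroup G)).Normal := by
      refine ⟨fun a ha g => ?_⟩
      have := ((sqCore G) ⊔ (T : Subgroup G)).mul_mem
        (le_sup_left (b := (T : Subgroup G)) (commutator_mem_sqCore g a)) ha
      rwa [show g * a * g⁻¹ * a⁻¹ * a = g * a * g⁻¹ by group] at this
    intro g
    obtain ⟨k, hk⟩ : Odd ((sqCore G) ⊔ (T : Subgroup G)).index := by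
      rw [← Nat.not_even_iff_odd, even_iff_two_dvd]
      exact fun hd => T.not_dvd_index (hd.trans (Subgroup.index_dvd_of_le le_sup_right))
    have hg : g ∈ (sqCore G) ⊔ (T : Subgroup G) := by
      have h1 := Subgroup.pow_index_mem ((sqCore G) ⊔ (T : Subgroup G)) g
      rw [hk, pow_succ, pow_mul, pow_two] at h1
      exact (Subgroup.mul_mem_cancel_left _ ((Subgroup.mem_sup_left ((sqCore G).pow_mem (mul_self_mem_sqCore g) k)))).1 h1
    rw [← SetLike.mem_coe, Subgroup.normal_mul (sqCore G) (T : Subgroup G)] at hg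
    obtain ⟨a, ha, t, ht, rfl⟩ := hg
    by_cases htA : t ∈ A
    · exact Or.inl ((sqCore G).mul_mem ha (hAK t ht htA))
    · refine Or.inr ?_
      rw [mul_assoc]
      refine (sqCore G).mul_mem ha (hAK _ ((T : Subgroup G).mul_mem ht s.2)
        (h.two t (hTH ht) htA _ (hTH s.2) fun hc => hsK (hAK _ s.2 hc)))
  haveI : M.Normal := inferInstance
  let ψ : sqCore G →* G ⧸ M := (QuotientGroup.mk' M).comp (sqCore G).subtype
  have hsM : (s : G) ∈ M := Subgroup.mem_zpowers sb
  have hψs : Function.Surjective ψ := by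
    intro q
    obtain ⟨g, rfl⟩ := QuotientGroup.mk_surjective q
    rcases hgen g with hg | hg
    · exact ⟨⟨g, hg⟩, rfl⟩
    · refine ⟨⟨g * (s : G), hg⟩, ?_⟩
      show (QuotientGroup.mk (g * (s : G)) : G ⧸ M) = QuotientGroup.mk g
      rw [QuotientGroup.eq, show (g * (s : G))⁻¹ * g = (s : G)⁻¹ by group]
      exact M.inv_mem hsM
  have hker : π.ker = ψ.ker := by
    ext k
    rw [MonoidHom.mem_ker, MonoidHom.mem_ker, ← hOker k,
      show ψ k = QuotientGroup.mk (k : G) from rfl, QuotientGroup.eq_one_iff]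
    refine ⟨fun hk => hOM hk, fun hk => ?_⟩
    obtain ⟨i, hi⟩ := Subgroup.mem_zpowers_iff.1 (hk : QuotientGroup.mk' O (k : G) ∈ Subgroup.zpowers sb)
    have hi2 : sb * sb = 1 := by rw [← pow_two, ← hsb2, pow_orderOf_eq_one]
    rcases Int.even_or_odd i with ⟨l, rfl⟩ | ⟨l, rfl⟩
    · rw [← two_mul, zpow_mul, zpow_two, hi2, one_zpow] at hi
      exact (QuotientGroup.eq_one_iff _).1 hi.symm
    · exfalso
      rw [zpow_add, zpow_mul, zpow_two, hi2, one_zpow, one_mul, zpow_one] at hi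
      have : (s : G)⁻¹ * (k : G) ∈ O := QuotientGroup.eq.1 hi
      exact hsK (by simpa using (sqCore G).mul_mem k.2 ((sqCore G).inv_mem (hOK this)))
  refine ⟨M, inferInstance, Or.inr ⟨Nat.card O, hOodd, hMcard⟩, F, iF, iF', h4, Or.inl ⟨?_⟩⟩
  exact (QuotientGroup.quotientKerEquivOfSurjective ψ hψs).symm.trans
    ((QuotientGroup.quotientMulEquivOfEq hker.symm).trans (QuotientGroup.quotientKerEquivOfSurjective π hπs))

end NonCyc

end CfsgLib.DihCore
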