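import Cfsg.Agent.Lib.DihCore.RedTools
import Cfsg.Agent.Lib.DihCore.Index
import Cfsg.Agent.Lib.DihCore.Core
import Cfsg.Agent.Lib.Techniques.PlaneAction
import Cfsg.Agent.S0111

/-!
# Reduced groups: dihedral Sylow 2-subgroups and an abelian subgroup of index two in an involution centraliser

Two cases: the involution is central in a Sylow 2-subgroup, or it is a reflection.
-/

set_option autoImplicit false
set_option linter.unusedSectionVars false

namespace CfsgLib.DihCore.Red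

open Subgroup
open CfsgLib.Recognition.CycNorm (NoEight DihData NoSolvNormal)
open CfsgLib.Invol (orderOf_conj_eq orderOf_eq_two_iff' ne_one_of_orderOf_two inv_eq_of_orderOf_two)

universe u

variable {G : Type u} [Group G]

/-- The involution centraliser hypothesis. -/
structure Cent (A : Subgroup G) (x t : G) : Prop where
  comm : ∀ a ∈ A, ∀ b ∈ A, a * b = b * a
  hx : orderOf x = 2
  hxA : x ∉ A
  inv : ∀ a ∈ A, x * a * x⁻¹ = a⁻¹
  ht : orderOf t = 2
  htA : t ∈ A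
  uniq : ∀ a ∈ A, a * a = 1 → a = 1 ∨ a = t
  hC : centralizer ({t} : Set G) = A ⊔ zpowers x

variable {A : Subgroup G} {x t : G}

theorem Cent.x_sq (h : Cent A x t) : x * x = 1 := (orderOf_eq_two_iff'.1 h.hx).2

theorem Cent.x_inv (h : Cent A x t) : x⁻¹ = x := inv_eq_of_mul_eq_one_right h.x_sq

theorem Cent.x_t (h : Cent A x t) : x * t = t * x := by
  have h1 := h.inv t h.htA
  rw [inv_eq_of_orderOf_two h.ht] at h1
  exact mul_inv_eq_iff_eq_mul.1 h1

theorem Cent.le (h : Cent A x t) : A ≤ centralizer ({t} : Set G) := h.hC ▸ le_sup_left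

theorem Cent.mem_iff (h : Cent A x t) {g : G} : g * t = t * g ↔ g ∈ A ∨ x * g ∈ A := by
  constructor
  · intro hg
    have hg' : g ∈ A ⊔ zpowers x := h.hC ▸ mem_centralizer_singleton_iff.2 hg
    have hn : zpowers x ≤ normalizer (A : Set G) := zpowers_le.2 (mem_normalizer_iff.2 fun a => by
      refine ⟨fun ha => (h.inv a ha).symm ▸ inv_mem ha, fun ha => ?_⟩
      have h1 := h.inv _ ha
      have e : x * (x * a * x⁻¹) * x⁻¹ = a := by
        rw [h.x_inv, mul_assoc x a x, ← mul_assoc x x, h.x_sq, one_mul, mul_assoc, h.x_sq, mul_one]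
      rw [e] at h1
      exact h1 ▸ inv_mem ha)
    rw [← SetLike.mem_coe, coe_mul_of_right_le_normalizer_left _ _ hn] at hg'
    obtain ⟨a, ha, _, ⟨i, rfl⟩, rfl⟩ := hg'
    have h2 : x ^ (2 : ℤ) = 1 := by rw [zpow_two, h.x_sq]
    rcases Int.even_or_odd i with ⟨j, rfl⟩ | ⟨j, rfl⟩
    · left; simpa [← two_mul, zpow_mul, h2] using ha
    · right
      simp only [zpow_add, zpow_mul, h2, one_zpow, one_mul, zpow_one]
      rw [← mul_assoc]
      have h1 := h.inv a ha
      rw [h.x_inv] at h1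
      exact h1 ▸ inv_mem ha
  · rintro (hg | hg)
    · exact h.comm g hg t h.htA
    · have h1 := h.comm _ hg t h.htA
      calc g * t = x * ((x * g) * t) := by rw [← mul_assoc, ← mul_assoc, h.x_sq, one_mul]
        _ = (x * t) * (x * g) := by rw [h1]; group
        _ = t * g := by rw [h.x_t, mul_assoc, ← mul_assoc x x, h.x_sq, one_mul]

theorem Cent.sq_out (h : Cent A x t) {g : G} (hg : g * t = t * g) (hgA : g ∉ A) : g * g = 1 := by
  have hxg := (h.mem_iff.1 hg).resolve_left hgA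
  have h1 := h.inv _ hxg
  rw [h.x_inv] at h1
  calc g * g = (x * (x * g) * x) * (x * g) := by
        rw [← mul_assoc x x, h.x_sq, one_mul, mul_assoc g x, ← mul_assoc x x, h.x_sq, one_mul]
    _ = 1 := by rw [h1, inv_mul_cancel]

theorem Cent.inv_out (h : Cent A x t) {g : G} (hg : g * t = t * g) (hgA : g ∉ A) {a : G} (ha : a ∈ A) :
    g * a * g⁻¹ = a⁻¹ := by
  have hxg := (h.mem_iff.1 hg).resolve_left hgA
  have hc : (x * g) * a * (x * g)⁻¹ = a := by
    rw [h.comm _ hxg a ha, mul_inv_cancel_right]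
  calc g * a * g⁻¹ = x⁻¹ * ((x * g) * a * (x * g)⁻¹) * x := by group
    _ = x * a * x⁻¹ := by rw [hc, h.x_inv]
    _ = a⁻¹ := h.inv a ha

theorem Cent.conj_mem (h : Cent A x t) {g : G} (hg : g * t = t * g) {a : G} (ha : a ∈ A) :
    g * a * g⁻¹ ∈ A := by
  by_cases hgA : g ∈ A
  · exact mul_mem (mul_mem hgA ha) (inv_mem hgA)
  · rw [h.inv_out hg hgA ha]; exact inv_mem ha

theorem Cent.cent_le_closure (h : Cent A x t) :
    centralizer ({t} : Set G) ≤ closure {u : G | u * u = 1} := by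
  intro g hg
  have hgt := mem_centralizer_singleton_iff.1 hg
  by_cases hgA : g ∈ A
  · rw [show g = x * (x * g) by rw [← mul_assoc, h.x_sq, one_mul]]
    refine mul_mem (subset_closure h.x_sq) (subset_closure ?_)
    refine h.sq_out ?_ fun hc => h.hxA ((A.mul_mem_cancel_right hgA).1 hc)
    calc x * g * t = x * (g * t) := mul_assoc _ _ _
      _ = x * (t * g) := by rw [hgt]
      _ = t * (x * g) := by rw [← mul_assoc, h.x_t, mul_assoc]
  · exact subset_closure (h.sq_out hgt hgA)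

variable [Finite G] {R : Subgroup G} {c : G}

/-- The socle from the generalised dihedral centraliser of its central involution. -/
theorem psl_socle (S : Sylow 2 G) (hR : Rot (S : Subgroup G) R c) {L : Subgroup G}
    [IsSimpleGroup ↥L] (P : Sylow 2 ↥L) {n : ℕ} (hP : (P : Subgroup ↥L).map L.subtype = (S : Subgroup G) ⊓ L)
    (hn : 2 ≤ n) (e : (P : Subgroup ↥L) ≃* DihedralGroup n) (hcL : c ∈ L)
    (hone : ∀ a b : ↥L, orderOf a = 2 → orderOf b = 2 → IsConj a b)
    (A₀ : Subgroup G) (hA₀ : ∀ a ∈ A₀, ∀ b ∈ A₀, a * b = b * a) {v : G} (hvL : v ∈ L) (hv : orderOf v = 2)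
    (hinv : ∀ a ∈ A₀, v * a * v⁻¹ = a⁻¹) (hcA : c ∈ A₀)
    (huniq : ∀ a ∈ A₀, a * a = 1 → a = 1 ∨ a = c)
    (hloc : ∀ g ∈ L, g * c = c * g → g ∈ A₀ ∨ v * g ∈ A₀) :
    ∃ (F : Type) (_ : Field F) (_ : Fintype F), Odd (Fintype.card F) ∧
      Nonempty (↥L ≃* Matrix.ProjectiveSpecialLinearGroup (Fin 2) F) := by
  have hvv := (orderOf_eq_two_iff'.1 hv).2
  have hcS : (⟨c, hcL⟩ : ↥L) ∈ (P : Subgroup ↥L) := by
    obtain ⟨y, hy, hyc⟩ := hP.ge ⟨hR.c_mem, hcL⟩
    rwa [show (⟨c, hcL⟩ : ↥L) = y from Subtype.ext hyc.symm]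
  refine psl_of_generalized_dihedral P n hn e ⟨c, hcL⟩ (by rw [orderOf_mk]; exact hR.orderOf_c) hcS (fun s hs => ?_)
    (fun a b ha hb => isConj_iff.1 (hone a b ha hb))
    (A₀.subgroupOf L) ⟨⟨fun a b => Subtype.ext (Subtype.ext (hA₀ _ a.2 _ b.2))⟩⟩ ⟨v, hvL⟩
    (by rw [orderOf_mk]; exact hv) (fun a ha => Subtype.ext (hinv _ ha)) ?_
    (fun a ha h2 => ?_)
  · exact Subtype.ext (hR.central (hP.le (mem_map_of_mem L.subtype hs)).1)
  · refine le_antisymm (fun g hg => ?_) (sup_le (fun g hg => ?_) (zpowers_le.2 ?_))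
    · rcases hloc g g.2 (congrArg Subtype.val (mem_centralizer_singleton_iff.1 hg)) with h | h
      · exact mem_sup_left h
      · rw [show g = ⟨v, hvL⟩ * (⟨v, hvL⟩ * g) from Subtype.ext (by
          show (g : G) = v * (v * g)
          rw [← mul_assoc, hvv, one_mul])]
        exact mul_mem (mem_sup_right (mem_zpowers _)) (mem_sup_left h)
    · exact mem_centralizer_singleton_iff.2 (Subtype.ext (hA₀ _ hg c hcA))
    · refine mem_centralizer_singleton_iff.2 (Subtype.ext ?_)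
      have h := hinv c hcA
      rw [inv_eq_of_mul_eq_one_right hR.csq] at h
      exact mul_inv_eq_iff_eq_mul.1 h
  · exact (huniq _ ha (by simpa using congrArg Subtype.val h2)).imp (fun e => Subtype.ext e)
      (fun e => Subtype.ext e)

/-- **The involution is central in a Sylow 2-subgroup.** -/
theorem target_of_central_case (h : Cent A x t) (T : Sylow 2 G)
    (htT : t ∈ (T : Subgroup G)) (hTC : ∀ y ∈ (T : Subgroup G), y * t = t * y)
    (hO : ∀ N : Subgroup G, N.Normal → Odd (Nat.card N) → N = ⊥) (hns : ¬ Group.IsSolvable G) :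
    TargetEq G := by
  haveI : Nontrivial G := nontrivial_of_ne _ _ (ne_one_of_orderOf_two h.ht)
  have hR : Rot (T : Subgroup G) (A ⊓ (T : Subgroup G)) t :=
    { le := inf_le_right
      isP := T.isPGroup'
      cyc := CfsgLib.Classical22.OPow.Three.isCyclic_of_one_involution
        (T.isPGroup'.to_le inf_le_right) (fun a b => Subtype.ext (h.comm _ a.2.1 _ b.2.1))
        (a := ⟨t, h.htA, htT⟩) (fun a ha => (h.uniq _ a.2.1 (congrArg Subtype.val ha)).imp
          (fun e => Subtype.ext e) (fun e => Subtype.ext e))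
      ne := ne_one_of_orderOf_two h.ht
      csq := (orderOf_eq_two_iff'.1 h.ht).2
      mem := ⟨h.htA, htT⟩
      mul := fun y hy z hz hyR hzR => ⟨by
        have hyA : y ∉ A := fun hc => hyR ⟨hc, hy⟩
        have hzA : z ∉ A := fun hc => hzR ⟨hc, hz⟩
        have h1 := (h.mem_iff.1 (hTC y hy)).resolve_left hyA
        have h2 := (h.mem_iff.1 (hTC z hz)).resolve_left hzA
        have e : y * z = (x * y)⁻¹ * (x * z) := by
          rw [mul_inv_rev, mul_assoc, inv_mul_cancel_left,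
            inv_eq_of_mul_eq_one_right (h.sq_out (hTC y hy) hyA)]
        rw [e]
        exact A.mul_mem (A.inv_mem h1) h2, mul_mem hy hz⟩
      inv := fun y hy hyR a ha => h.inv_out (hTC y hy) (fun hc => hyR ⟨hc, hy⟩) ha.1
      sq := fun y hy hyR => h.sq_out (hTC y hy) fun hc => hyR ⟨hc, hy⟩
      uniq := fun a ha ha2 => h.uniq a ha.1 ha2 }
  obtain ⟨L, hLn, hLs, hLns, hLC, hcL, ⟨v, hvP, hvR⟩, ⟨P, n, hP, hn, ⟨e⟩⟩, hone, hsup⟩ :=
    socle_data T hR hO hns
  haveI := hLn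
  haveI := hLs
  have hvt := hTC v hvP.1
  have hvA : v ∉ A := fun hc => hvR ⟨hc, hvP.1⟩
  have hv2 := h.sq_out hvt hvA
  obtain ⟨F, iF, iF', hFo, ⟨eL⟩⟩ := psl_socle T hR P hP hn e hcL hone A h.comm hvP.2
    (orderOf_eq_two_iff'.2 ⟨fun e => hvA (e ▸ one_mem A), hv2⟩) (fun a ha => h.inv_out hvt hvA ha)
    h.htA h.uniq (fun g _ hg => by
      rcases em (g ∈ A) with hgA | hgA
      · exact Or.inl hgA
      · refine Or.inr ?_
        have h1 := (h.mem_iff.1 hvt).resolve_left hvA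
        have h2 := (h.mem_iff.1 hg).resolve_left hgA
        have e : v * g = (x * v)⁻¹ * (x * g) := by
          rw [mul_inv_rev, mul_assoc, inv_mul_cancel_left, inv_eq_of_mul_eq_one_right hv2]
        rw [e]
        exact mul_mem (inv_mem h1) h2)
  exact target_of_psl T hR hns hLns hLC hsup h.cent_le_closure hFo eL

/-- The 2-part of the abelian subgroup is small when the involution is not central. -/
theorem sq_eq_one_of_not_central (h : Cent A x t) (T : Sylow 2 G)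
    (hnc : ∃ y ∈ (T : Subgroup G), y * t ≠ t * y) {a : G} (ha : a ∈ A) (haT : a ∈ (T : Subgroup G)) :
    a * a = 1 := by
  haveI : Fact (Nat.Prime 2) := ⟨Nat.prime_two⟩
  by_contra ha2
  obtain ⟨y, hy, hyt⟩ := hnc
  obtain ⟨S₀, hS₀⟩ : ∃ S₀, S₀ = (centralizer ({t} : Set G)).subgroupOf (T : Subgroup G) := ⟨_, rfl⟩
  haveI : Group.IsNilpotent ↥(T : Subgroup G) := T.isPGroup'.isNilpotent
  have htop : S₀ ≠ ⊤ := by
    intro htop
    have hm : (⟨y, hy⟩ : (T : Subgroup G)) ∈ S₀ := htop ▸ mem_top _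
    rw [hS₀, mem_subgroupOf] at hm
    exact hyt (mem_centralizer_singleton_iff.1 hm)
  obtain ⟨g, hg, hgS⟩ := SetLike.exists_of_lt (normalizerCondition_of_isNilpotent S₀ htop.lt_top)
  have hga : (g : G) * a * (g : G)⁻¹ ∈ centralizer ({t} : Set G) := by
    have h1 := (mem_normalizer_iff.1 hg ⟨a, haT⟩).1 (by rw [hS₀, mem_subgroupOf]; exact h.le ha)
    rw [hS₀, mem_subgroupOf] at h1
    exact h1
  have hgaA : (g : G) * a * (g : G)⁻¹ ∈ A := by
    by_contra hn
    refine ha2 ?_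
    have h1 := h.sq_out (mem_centralizer_singleton_iff.1 hga) hn
    calc a * a = (g : G)⁻¹ * ((g : G) * a * (g : G)⁻¹ * ((g : G) * a * (g : G)⁻¹)) * g := by group
      _ = 1 := by rw [h1]; group
  obtain ⟨v, ⟨i, hi⟩, hv, -⟩ := CfsgLib.Recognition.CycNorm.exists_invol T.isPGroup' haT
    (fun e => ha2 (by rw [e, one_mul]))
  obtain ⟨hv1, hv2⟩ := orderOf_eq_two_iff'.1 hv
  have hvA : v ∈ A := hi ▸ zpow_mem ha i
  have hvt := (h.uniq v hvA hv2).resolve_left hv1
  have hgv : (g : G) * v * (g : G)⁻¹ ∈ A := by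
    rw [← hi]; simp only
    rw [← conj_zpow]
    exact zpow_mem hgaA i
  obtain ⟨h1, h2⟩ := orderOf_eq_two_iff'.1 (show orderOf ((g : G) * v * (g : G)⁻¹) = 2 by
    rw [orderOf_conj_eq]; exact hv)
  have hgt := (h.uniq _ hgv h2).resolve_left h1
  rw [hvt, mul_inv_eq_iff_eq_mul] at hgt
  exact hgS (by rw [hS₀, mem_subgroupOf]; exact mem_centralizer_singleton_iff.2 hgt)

/-- **The involution is a reflection.** -/
theorem target_of_reflection (h : Cent A x t) (T : Sylow 2 G)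
    (htT : t ∈ (T : Subgroup G)) (hnc : ∃ y ∈ (T : Subgroup G), y * t ≠ t * y)
    (hA2 : ∀ a ∈ A, Odd (orderOf (a * a))) (hR : Rot (T : Subgroup G) R c)
    (hsmall : ∀ P : Subgroup G, IsPGroup 2 P → P ≤ centralizer ({t} : Set G) → Nat.card P ≤ 4)
    (hT4 : 4 < Nat.card (T : Subgroup G))
    (hO : ∀ N : Subgroup G, N.Normal → Odd (Nat.card N) → N = ⊥) (hns : ¬ Group.IsSolvable G) :
    TargetEq G := by
  classical
  haveI : Fact (Nat.Prime 2) := ⟨Nat.prime_two⟩
  haveI : Nontrivial G := nontrivial_of_ne _ _ hR.ne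
  obtain ⟨ht1, ht2⟩ := orderOf_eq_two_iff'.1 h.ht
  have htc : t ≠ c := by
    rintro rfl
    obtain ⟨y, hy, hyt⟩ := hnc
    exact hyt (hR.central hy)
  have htR : t ∉ R := fun hm => htc ((hR.uniq t hm ht2).resolve_left ht1)
  have hct : c * t = t * c := (hR.central htT).symm
  have hcA : c ∉ A := fun hm => by
    rcases h.uniq c hm hR.csq with e | e
    · exact hR.ne e
    · exact htc e.symm
  -- the subgroup of index two
  have hRidx : R.relIndex (T : Subgroup G) = 2 := by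
    rw [relIndex]
    refine index_eq_two_iff.2 ⟨⟨t, htT⟩, fun b => ?_⟩
    rw [mem_subgroupOf, mem_subgroupOf, coe_mul]
    by_cases hb : (b : G) ∈ R
    · exact Or.inr ⟨hb, fun hm => htR ((R.mul_mem_cancel_left hb).1 hm)⟩
    · exact Or.inl ⟨hR.mul b b.2 t htT hb htR, hb⟩
  obtain ⟨M, hMn, hMi, htM⟩ : ∃ M : Subgroup G, M.Normal ∧ M.index = 2 ∧ t ∉ M := by
    rcases Cfsg.Agent.S0111.result T R hR.le hRidx t h.ht htT htR with hM | ⟨g, hg⟩
    · exact hM
    exfalso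
    have hgc : g * t * g⁻¹ = c := (hR.uniq _ hg (by
      calc g * t * g⁻¹ * (g * t * g⁻¹) = g * (t * t) * g⁻¹ := by group
        _ = 1 := by rw [ht2]; group)).resolve_left (fun e => ht1 (by
      calc t = g⁻¹ * (g * t * g⁻¹) * g := by group
        _ = 1 := by rw [e]; group))
    have hle : (T : Subgroup G).map (MulAut.conj g⁻¹).toMonoidHom ≤ centralizer ({t} : Set G) := by
      rintro _ ⟨y, hy, rfl⟩
      refine mem_centralizer_singleton_iff.2 ?_
      simp only [MulEquiv.coe_toMonoidHom, MulAut.conj_apply, inv_inv]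
      have e : t = g⁻¹ * c * g := by rw [← hgc]; group
      rw [e]
      calc g⁻¹ * y * g * (g⁻¹ * c * g) = g⁻¹ * (y * c) * g := by group
        _ = g⁻¹ * (c * y) * g := by rw [hR.central hy]
        _ = g⁻¹ * c * g * (g⁻¹ * y * g) := by group
    have h1 := hsmall _ (T.isPGroup'.map _) hle
    rw [card_map_of_injective (MulAut.conj g⁻¹).injective] at h1
    omega
  obtain ⟨L, hLn, hLs, hLns, hLC, hcL, ⟨v, hvP, hvR⟩, ⟨P, n, hP, hn, ⟨e⟩⟩, hone, hsup⟩ :=
    socle_data T hR hO hns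
  haveI := hLn
  haveI := hLs
  obtain ⟨hvT, hvL⟩ := hvP
  have hv2 := hR.sq v hvT hvR
  have htL : t ∉ L := by
    intro htl
    haveI := hMn
    rcases (inferInstance : (M.subgroupOf L).Normal).eq_bot_or_eq_top with hb | hb
    · refine hLns (Group.isSolvable_of_comm fun a b => ?_)
      rw [← commutatorElement_eq_one_iff_mul_comm, ← mem_bot, ← hb, mem_subgroupOf, commutatorElement_def]
      push_cast
      simp only [mul_mem_iff_of_index_two hMi, inv_mem_iff]
      tauto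
    · exact htM (show (⟨t, htl⟩ : ↥L) ∈ M.subgroupOf L from hb ▸ mem_top _)
  -- the odd core of the centraliser of `c`
  obtain ⟨C, hCd⟩ : ∃ C, C = centralizer ({c} : Set G) := ⟨_, rfl⟩
  have hTC : (T : Subgroup G) ≤ C := fun y hy => hCd ▸ mem_centralizer_singleton_iff.2 (hR.central hy)
  have hCc : ∀ g ∈ C, g * c = c * g := fun g hg => mem_centralizer_singleton_iff.1 (hCd ▸ hg)
  have hR' : Rot ((T.subtype hTC : Sylow 2 ↥C) : Subgroup ↥C) (R.subgroupOf C)
      ⟨c, hTC hR.c_mem⟩ :=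
    { le := fun y hy => hR.le hy
      isP := (T.subtype hTC).isPGroup'
      cyc := haveI := hR.cyc
        isCyclic_of_injective (subgroupOfEquivOfLe (hR.le.trans hTC)).toMonoidHom (MulEquiv.injective _)
      ne := fun e => hR.ne (congrArg Subtype.val e)
      csq := Subtype.ext hR.csq
      mem := hR.mem
      mul := fun a ha b hb haR hbR => hR.mul a ha b hb haR hbR
      inv := fun a ha haR b hb => Subtype.ext (hR.inv a ha haR b hb)
      sq := fun a ha haR => Subtype.ext (hR.sq a ha haR)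
      uniq := fun a ha h2 => (hR.uniq a ha (congrArg Subtype.val h2)).imp (fun e => Subtype.ext e)
        (fun e => Subtype.ext e) }
  obtain ⟨N, hNn, hNc⟩ := exists_complement (T.subtype hTC) hR' (fun g => Subtype.ext (hCc g g.2))
  haveI := hNn
  obtain ⟨K, hKd⟩ : ∃ K : Subgroup G, K = N.map C.subtype := ⟨_, rfl⟩
  have hKC : K ≤ C := hKd ▸ map_subtype_le N
  have hKn : ∀ g ∈ C, ∀ k ∈ K, g * k * g⁻¹ ∈ K := by
    rintro g hg k hk
    rw [hKd] at hk ⊢
    obtain ⟨y, hy, rfl⟩ := hk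
    exact ⟨⟨g, hg⟩ * y * ⟨g, hg⟩⁻¹, hNn.conj_mem y hy _, rfl⟩
  have hNodd : Odd (Nat.card N) := by
    rw [← hNc.index_eq_card, ← Nat.not_even_iff_odd, even_iff_two_dvd]
    exact (T.subtype hTC).not_dvd_index
  have hKodd : ∀ k ∈ K, Odd (orderOf k) := by
    rintro k hk
    rw [hKd] at hk
    obtain ⟨y, hy, rfl⟩ := hk
    rw [coe_subtype, orderOf_coe]
    exact hNodd.of_dvd_nat (Subgroup.orderOf_dvd_natCard N hy)
  have hKT : ∀ k ∈ K, k ∈ (T : Subgroup G) → k = 1 := fun k hk hkT =>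
    CfsgLib.Invol.eq_one_of_odd_of_mem T.isPGroup' hkT (hKodd k hk)
  have hdec : ∀ g ∈ C, ∃ k ∈ K, ∃ s ∈ (T : Subgroup G), g = k * s := by
    intro g hg
    obtain ⟨⟨⟨k, hk⟩, ⟨s, hs⟩⟩, hks⟩ := hNc.2 ⟨g, hg⟩
    exact ⟨k, hKd ▸ mem_map_of_mem C.subtype hk, s, hs, (congrArg Subtype.val hks).symm⟩
  have hKmem : ∀ g ∈ C, Odd (orderOf g) → g ∈ K := by
    intro g hg hgo
    obtain ⟨⟨⟨k, hk⟩, ⟨s, hs⟩⟩, hks⟩ := hNc.2 ⟨g, hg⟩
    simp only at hks
    have hq : QuotientGroup.mk' N ⟨g, hg⟩ = QuotientGroup.mk' N s := by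
      rw [← hks, map_mul, show QuotientGroup.mk' N k = 1 from (QuotientGroup.eq_one_iff k).2 hk, one_mul]
    have h1 : orderOf (QuotientGroup.mk' N ⟨g, hg⟩) = 1 := by
      obtain ⟨i, hi⟩ := CfsgLib.Invol.exists_orderOf_eq_two_pow (T.subtype hTC).isPGroup' hs
      have hd2 : orderOf (QuotientGroup.mk' N ⟨g, hg⟩) ∣ 2 ^ i := hi ▸ hq ▸ orderOf_map_dvd _ s
      have hd1 : orderOf (QuotientGroup.mk' N ⟨g, hg⟩) ∣ orderOf g := by
        rw [← orderOf_mk g hg]; exact orderOf_map_dvd _ _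
      exact Nat.eq_one_of_dvd_coprimes ((Nat.coprime_two_left.2 hgo).pow_left i) hd2 hd1
    rw [hKd]
    exact ⟨⟨g, hg⟩, (QuotientGroup.eq_one_iff _).1 (orderOf_eq_one_iff.1 h1), rfl⟩
  -- the reflection `t` inverts the core
  have hfix : ∀ k ∈ K, t * k * t⁻¹ = k → k = 1 := by
    intro k hk hkt
    have hkt' : k * t = t * k := (mul_inv_eq_iff_eq_mul.1 hkt).symm
    have hko := hKodd k hk
    have hkA : k ∈ A := by
      by_contra hn
      have hd := orderOf_dvd_of_pow_eq_one (show k ^ 2 = 1 by rw [sq]; exact h.sq_out hkt' hn)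
      have h1 : orderOf k = 1 := Nat.eq_one_of_dvd_coprimes (Nat.coprime_two_left.2 hko) hd dvd_rfl
      exact hn (orderOf_eq_one_iff.1 h1 ▸ one_mem A)
    have h1 := h.inv_out hct hcA hkA
    rw [← hCc k (hKC hk), mul_inv_cancel_right] at h1
    have hd := orderOf_dvd_of_pow_eq_one (show k ^ 2 = 1 by rw [sq]; exact mul_eq_one_iff_eq_inv.2 h1)
    exact orderOf_eq_one_iff.1 (Nat.eq_one_of_dvd_coprimes (Nat.coprime_two_left.2 hko) hd dvd_rfl)
  obtain ⟨htinv, hKab⟩ := CfsgLib.Techniques.inverts_of_fixedPointFree ht2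
    (fun k hk => hKn t (hTC htT) k hk) hfix
  have hsqK : ∀ y ∈ R, ∀ k ∈ K, (y * y) * k * (y * y)⁻¹ = k := by
    intro y hy k hk
    have hyC := hTC (hR.le hy)
    have hyt : y⁻¹ = t * y * t⁻¹ := (hR.inv t htT htR y hy).symm
    have e : y * y = y * t * y⁻¹ * t := by
      rw [hyt, inv_eq_of_orderOf_two h.ht]
      calc y * y = y * (t * t) * y * (t * t) := by rw [ht2]; group
        _ = _ := by group
    have h1 : ∀ k ∈ K, (y * t * y⁻¹) * k * (y * t * y⁻¹)⁻¹ = k⁻¹ := by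
      intro k hk
      have h2 := htinv _ (hKn y⁻¹ (inv_mem hyC) k hk)
      calc (y * t * y⁻¹) * k * (y * t * y⁻¹)⁻¹ = y * (t * (y⁻¹ * k * y⁻¹⁻¹) * t⁻¹) * y⁻¹ := by group
        _ = k⁻¹ := by rw [h2]; group
    rw [e]
    calc y * t * y⁻¹ * t * k * (y * t * y⁻¹ * t)⁻¹
        = y * t * y⁻¹ * (t * k * t⁻¹) * (y * t * y⁻¹)⁻¹ := by group
      _ = k := by rw [htinv k hk, h1 _ (inv_mem hk), inv_inv]
  have hRLK : ∀ r ∈ R, r ∈ L → ∀ k ∈ K, r * k * r⁻¹ = k := by
    intro r hr hrL k hk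
    obtain ⟨⟨g, hg⟩, hgen⟩ := hR.cyc.exists_generator
    obtain ⟨i, hi⟩ := hgen ⟨r, hr⟩
    have hi' : g ^ i = r := by simpa using congrArg Subtype.val hi
    rcases Int.even_or_odd i with ⟨j, rfl⟩ | hodd
    · rw [← hi', zpow_add]
      exact hsqK _ (zpow_mem hg j) k hk
    · exfalso
      obtain ⟨m, hm⟩ := CfsgLib.Invol.exists_orderOf_eq_two_pow T.isPGroup' (hR.le hg)
      have hgL : g ∈ L := by
        have hco : IsCoprime i ((2 : ℤ) ^ m) := by
          obtain ⟨j, rfl⟩ := hodd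
          exact (IsCoprime.pow_right ⟨1, -j, by ring⟩)
        obtain ⟨a, b, hab⟩ := hco
        have e1 : g = (g ^ i) ^ a * (g ^ ((2 : ℤ) ^ m)) ^ b := by
          rw [← zpow_mul, ← zpow_mul, ← zpow_add, mul_comm i, mul_comm ((2 : ℤ) ^ m), hab, zpow_one]
        have e2 : g ^ ((2 : ℤ) ^ m) = 1 := by
          rw [show ((2 : ℤ) ^ m) = ((2 ^ m : ℕ) : ℤ) by norm_cast, zpow_natCast, ← hm, pow_orderOf_eq_one]
        rw [e1, e2, one_zpow, mul_one, hi']
        exact zpow_mem hrL a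
      refine htL ?_
      have hvt := hR.mul v hvT t htT hvR htR
      obtain ⟨j, hj⟩ := hgen ⟨v * t, hvt⟩
      have hj' : g ^ j = v * t := by simpa using congrArg Subtype.val hj
      exact (L.mul_mem_cancel_left hvL).1 (hj' ▸ zpow_mem hgL j)
  -- elements of `C` inside `L`
  have hdecL : ∀ g ∈ L, g * c = c * g → ∃ k ∈ K ⊓ L, ∃ s ∈ (T : Subgroup G) ⊓ L, g = k * s := by
    intro g hgL hgc
    obtain ⟨k, hk, s, hs, rfl⟩ := hdec g (hCd ▸ mem_centralizer_singleton_iff.2 hgc)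
    have hkL : k ∈ L := by
      rw [← QuotientGroup.eq_one_iff, ← orderOf_eq_one_iff]
      have hks : (k : G ⧸ L) = (s : G ⧸ L)⁻¹ := eq_inv_of_mul_eq_one_left (by
        rw [← QuotientGroup.mk_mul]; exact (QuotientGroup.eq_one_iff _).2 hgL)
      obtain ⟨i, hi⟩ := CfsgLib.Invol.exists_orderOf_eq_two_pow T.isPGroup' hs
      refine Nat.eq_one_of_dvd_coprimes ((Nat.coprime_two_left.2 (hKodd k hk)).pow_left i) ?_
        (orderOf_map_dvd (QuotientGroup.mk' L) k)
      rw [hks, orderOf_inv, ← hi]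
      exact orderOf_map_dvd (QuotientGroup.mk' L) s
    exact ⟨k, ⟨hk, hkL⟩, s, ⟨hs, (L.mul_mem_cancel_left hkL).1 hgL⟩, rfl⟩
  -- all elements outside `R` act on `K` in the same way
  have hsame : ∀ w ∈ (T : Subgroup G) ⊓ L, w ∉ R → ∀ k ∈ K, w * k * w⁻¹ = v * k * v⁻¹ := by
    intro w hw hwR k hk
    have hwv := hRLK (v * w) (hR.mul v hvT w hw.1 hvR hwR) (mul_mem hvL hw.2) k hk
    calc w * k * w⁻¹ = v⁻¹ * ((v * w) * k * (v * w)⁻¹) * v := by group
      _ = v * k * v⁻¹ := by rw [hwv, hR.inv_self hvT hvR]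
  -- the fixed points of `v` on the core
  obtain ⟨D, hD⟩ : ∃ D, D = K ⊓ L ⊓ centralizer ({v} : Set G) := ⟨_, rfl⟩
  have hDmem : ∀ d, d ∈ D ↔ d ∈ K ∧ d ∈ L ∧ d * v = v * d := fun d => by
    rw [hD, mem_inf, mem_inf, mem_centralizer_singleton_iff, and_assoc]
  have hfixD : ∀ s ∈ (T : Subgroup G) ⊓ L, ∀ d ∈ D, s * d * s⁻¹ = d := by
    intro s hs d hd
    obtain ⟨hdK, -, hdv⟩ := (hDmem d).1 hd
    by_cases hsR : s ∈ R
    · exact hRLK s hsR hs.2 d hdK
    · rw [hsame s hs hsR d hdK, ← hdv, mul_inv_cancel_right]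
  have hD1 : D = ⊥ := by
    by_contra hne
    obtain ⟨d₀, hd₀, hd₀1⟩ := (bot_or_exists_ne_one D).resolve_left hne
    obtain ⟨M₀, hM₀⟩ : ∃ M₀, M₀ = (normalizer (D : Set G)).subgroupOf L := ⟨_, rfl⟩
    have hmem₀ : ∀ g : ↥L, (∀ d ∈ D, (g : G) * d * (g : G)⁻¹ ∈ D) → (∀ d ∈ D, (g : G)⁻¹ * d * g ∈ D) →
        g ∈ M₀ := fun g h1 h2 => hM₀ ▸ mem_subgroupOf.2 (mem_normalizer_iff.2 fun y => ⟨fun hy => h1 y hy,
          fun hy => by
            have := h2 _ hy
            rwa [show (g : G)⁻¹ * ((g : G) * y * (g : G)⁻¹) * g = y by group] at this⟩)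
    have hcentle : ∀ g : ↥L, (g : G) * c = c * g → g ∈ M₀ := by
      intro g hg
      have hfx : ∀ d ∈ D, (g : G) * d * (g : G)⁻¹ = d := by
        intro d hd
        obtain ⟨k, hk, s, hs, e⟩ := hdecL g g.2 hg
        rw [e]
        calc k * s * d * (k * s)⁻¹ = k * (s * d * s⁻¹) * k⁻¹ := by group
          _ = d := by rw [hfixD s hs d hd, hKab k hk.1 d ((hDmem d).1 hd).1, mul_inv_cancel_right]
      refine hmem₀ g (fun d hd => (hfx d hd).symm ▸ hd) fun d hd => ?_
      have := hfx d hd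
      rw [show (g : G)⁻¹ * d * g = d by
        calc (g : G)⁻¹ * d * g = (g : G)⁻¹ * ((g : G) * d * (g : G)⁻¹) * g := by rw [this]
          _ = d := by group]
      exact hd
    have hPM : (P : Subgroup ↥L) ≤ M₀ := fun g hg =>
      hcentle g (hR.central (hP.le (mem_map_of_mem L.subtype hg)).1)
    -- pairs `(c, w)` determine `D`
    have hpair : ∀ (g : G) (w w' : G), g ∈ L → w ∈ (T : Subgroup G) ⊓ L → w ∉ R →
        w' ∈ (T : Subgroup G) ⊓ L → w' ∉ R → g * w * g⁻¹ = c → g * c * g⁻¹ = w' →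
        ∀ d ∈ D, g * d * g⁻¹ ∈ D := by
      intro g w w' hgL hw hwR hw' hw'R e1 e2 d hd
      obtain ⟨hdK, hdL, -⟩ := (hDmem d).1 hd
      have hdw : d * w = w * d := (mul_inv_eq_iff_eq_mul.1 (hfixD w hw d hd)).symm
      have hdc : d * c = c * d := hCc d (hKC hdK)
      have h1 : g * d * g⁻¹ * c = c * (g * d * g⁻¹) := by
        rw [← e1]
        calc g * d * g⁻¹ * (g * w * g⁻¹) = g * (d * w) * g⁻¹ := by group
          _ = g * (w * d) * g⁻¹ := by rw [hdw]
          _ = _ := by group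
      have h2 : g * d * g⁻¹ * w' = w' * (g * d * g⁻¹) := by
        rw [← e2]
        calc g * d * g⁻¹ * (g * c * g⁻¹) = g * (d * c) * g⁻¹ := by group
          _ = g * (c * d) * g⁻¹ := by rw [hdc]
          _ = _ := by group
      have hK' : g * d * g⁻¹ ∈ K := hKmem _ (hCd ▸ mem_centralizer_singleton_iff.2 h1)
        (by rw [orderOf_conj_eq]; exact hKodd d hdK)
      refine (hDmem _).2 ⟨hK', mul_mem (mul_mem hgL hdL) (inv_mem hgL), ?_⟩
      have h3 := hsame w' hw' hw'R _ hK'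
      rw [← h2, mul_inv_cancel_right] at h3
      exact eq_mul_inv_iff_mul_eq.1 h3
    -- fusion inside the normaliser
    have hfuse : ∀ w : ↥L, (w : G) ∈ (T : Subgroup G) → orderOf w = 2 →
        ∃ m ∈ M₀, m * w * m⁻¹ = ⟨c, hcL⟩ := by
      intro w hwT hw
      obtain ⟨hw1, hw2⟩ := orderOf_eq_two_iff'.1 hw
      by_cases hwR : (w : G) ∈ R
      · rcases hR.uniq _ hwR (congrArg Subtype.val hw2) with e | e
        · exact absurd (Subtype.ext e) hw1
        · exact ⟨1, one_mem _, Subtype.ext (by simp [e])⟩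
      obtain ⟨g, hg⟩ := isConj_iff.1 (hone w ⟨c, hcL⟩ hw (by rw [orderOf_mk]; exact hR.orderOf_c))
      have hgw : (g : G) * w * (g : G)⁻¹ = c := congrArg Subtype.val hg
      obtain ⟨uu, huu⟩ : ∃ uu : G, uu = (g : G) * c * (g : G)⁻¹ := ⟨_, rfl⟩
      have hu2 : uu * uu = 1 := by
        rw [huu]
        calc (g : G) * c * (g : G)⁻¹ * ((g : G) * c * (g : G)⁻¹) = g * (c * c) * (g : G)⁻¹ := by group
          _ = 1 := by rw [hR.csq]; group
      have huc : uu * c = c * uu := by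
        calc uu * c = (g : G) * c * (g : G)⁻¹ * (g * w * (g : G)⁻¹) := by rw [hgw, huu]
          _ = g * (c * w) * (g : G)⁻¹ := by group
          _ = g * (w * c) * (g : G)⁻¹ := by rw [hR.central hwT]
          _ = g * w * (g : G)⁻¹ * (g * c * (g : G)⁻¹) := by group
          _ = c * uu := by rw [hgw, huu]
      have huL : uu ∈ L := huu ▸ mul_mem (mul_mem g.2 hcL) (inv_mem g.2)
      obtain ⟨k, ⟨hk, hkL⟩, s, hs, hks⟩ := hdecL uu huL huc
      have hsR : s ∉ R := by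
        intro hsR
        have hcm : s * k * s⁻¹ = k := hRLK s hsR hs.2 k hk
        have hcm' : Commute k s := (mul_inv_eq_iff_eq_mul.1 hcm).symm
        have e1 : k ^ 2 = (s ^ 2)⁻¹ := eq_inv_of_mul_eq_one_left (by
          rw [← hcm'.mul_pow, ← hks, sq, hu2])
        have hk2 : k ^ 2 = 1 := hKT _ (pow_mem hk 2) (e1 ▸ inv_mem (pow_mem (hR.le hsR) 2))
        have hk1 : k = 1 := orderOf_eq_one_iff.1 (Nat.eq_one_of_dvd_coprimes
          (Nat.coprime_two_left.2 (hKodd k hk)) (orderOf_dvd_of_pow_eq_one hk2) dvd_rfl)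
        rw [hk1, one_mul] at hks
        subst hks
        rcases hR.uniq _ hsR hu2 with e | e
        · refine hR.ne ?_
          calc c = (g : G)⁻¹ * ((g : G) * c * (g : G)⁻¹) * g := by group
            _ = 1 := by rw [← huu, e]; group
        · refine hwR ?_
          have h5 : (g : G) * w * (g : G)⁻¹ = g * c * (g : G)⁻¹ := by rw [hgw, ← huu, e]
          rw [mul_right_cancel (a := (g : G) * w) (b := (g : G)⁻¹) h5 |> mul_left_cancel]
          exact hR.mem
      have hss := hR.sq s hs.1 hsR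
      have hsinv := hR.inv_self hs.1 hsR
      have hsks : s * k * s⁻¹ = k⁻¹ := by
        rw [hsinv]
        refine eq_inv_of_mul_eq_one_right ?_
        rw [← mul_assoc, ← mul_assoc, ← hks, mul_assoc, ← hks, hu2]
      obtain ⟨i, hi⟩ := hKodd k hk
      obtain ⟨j, hj⟩ : ∃ j, j = k ^ (i + 1) := ⟨_, rfl⟩
      have hjj : j * j = k := by
        rw [hj, ← pow_add, show i + 1 + (i + 1) = orderOf k + 1 by omega, pow_succ, pow_orderOf_eq_one,
          one_mul]
      have hsj : s * j * s⁻¹ = j⁻¹ := by rw [hj, ← conj_pow, hsks, inv_pow]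
      have hu : j * s * j⁻¹ = uu := by
        rw [hks, ← hjj, ← hsj, hsinv]
        calc j * s * (s * j * s) = j * (s * s) * j * s := by group
          _ = j * j * s := by rw [hss, mul_one]
      have hjc : j * c = c * j := hCc j (hKC (hj ▸ pow_mem hk _))
      obtain ⟨m, hm⟩ : ∃ m : G, m = j⁻¹ * g := ⟨_, rfl⟩
      have hmL : m ∈ L := hm ▸ mul_mem (inv_mem (hj ▸ pow_mem hkL _)) g.2
      have hm1 : m * w * m⁻¹ = c := by
        rw [hm]
        calc j⁻¹ * g * w * (j⁻¹ * g)⁻¹ = j⁻¹ * ((g : G) * w * (g : G)⁻¹) * j := by group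
          _ = c := by rw [hgw, mul_assoc, ← hjc, inv_mul_cancel_left]
      have hm2 : m * c * m⁻¹ = s := by
        rw [hm]
        calc j⁻¹ * g * c * (j⁻¹ * g)⁻¹ = j⁻¹ * ((g : G) * c * (g : G)⁻¹) * j := by group
          _ = s := by rw [← huu, ← hu]; group
      refine ⟨⟨m, hmL⟩, hmem₀ _ (hpair m w s hmL ⟨hwT, w.2⟩ hwR hs hsR hm1 hm2) ?_, Subtype.ext hm1⟩
      intro d hd
      have hb := hpair m⁻¹ s w (inv_mem hmL) hs hsR ⟨hwT, w.2⟩ hwR (by rw [← hm2]; group)
        (by rw [← hm1]; group) d hd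
      rwa [inv_inv] at hb
    have hM₀top : M₀ ≠ ⊤ := by
      intro htop
      have hn' : (D.subgroupOf L).Normal := ⟨fun d hd g => by
        have hg : g ∈ M₀ := htop ▸ mem_top g
        rw [hM₀, mem_subgroupOf] at hg
        exact mem_subgroupOf.2 ((mem_normalizer_iff.1 hg _).1 hd)⟩
      rcases hn'.eq_bot_or_eq_top with hb | hb
      · have : (⟨d₀, ((hDmem d₀).1 hd₀).2.1⟩ : ↥L) ∈ D.subgroupOf L := hd₀
        rw [hb, mem_bot] at this
        exact hd₀1 (congrArg Subtype.val this)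
      · refine hLns (Group.isSolvable_of_comm fun a b => Subtype.ext ?_)
        exact hKab _ ((hDmem _).1 (show a ∈ D.subgroupOf L from hb ▸ mem_top a)).1 _
          ((hDmem _).1 (show b ∈ D.subgroupOf L from hb ▸ mem_top b)).1
    obtain ⟨y, hy, hyc⟩ := hP.ge ⟨hR.c_mem, hcL⟩
    have hcP : (⟨c, hcL⟩ : ↥L) ∈ (P : Subgroup ↥L) := by
      rwa [show (⟨c, hcL⟩ : ↥L) = y from Subtype.ext hyc.symm]
    refine no_fused_overgroup P n hn e ⟨c, hcL⟩ (by rw [orderOf_mk]; exact hR.orderOf_c) hcP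
      (fun s hs => Subtype.ext (hR.central (hP.le (mem_map_of_mem L.subtype hs)).1)) M₀ hM₀top hPM
      (fun g hg => hcentle g (congrArg Subtype.val (mem_centralizer_singleton_iff.1 hg))) ?_
      ⟨⟨d₀, ((hDmem d₀).1 hd₀).2.1⟩, mem_centralizer_singleton_iff.2 (Subtype.ext
        (hCc d₀ (hKC ((hDmem d₀).1 hd₀).1))), fun e' => hd₀1 (congrArg Subtype.val e'),
        by rw [orderOf_mk]; exact hKodd d₀ ((hDmem d₀).1 hd₀).1⟩
    have hto : ∀ a ∈ M₀, orderOf a = 2 → ∃ m ∈ M₀, m * a * m⁻¹ = ⟨c, hcL⟩ := by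
      intro a ha ha2
      obtain ⟨g, hg⟩ := CfsgLib.Invol.exists_mem_sylow_orderOf_two (P.subtype hPM)
        (t := (⟨a, ha⟩ : ↥M₀)) (by rw [orderOf_mk]; exact ha2)
      have hgP : (g : ↥L) * a * (g : ↥L)⁻¹ ∈ (P : Subgroup ↥L) := hg
      obtain ⟨m, hm, hme⟩ := hfuse ((g : ↥L) * a * (g : ↥L)⁻¹) (hP.le (mem_map_of_mem L.subtype hgP)).1
        (by rw [orderOf_conj_eq]; exact ha2)
      exact ⟨m * (g : ↥L), mul_mem hm g.2, by rw [← hme]; group⟩
    intro a ha b hb ha2 hb2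
    obtain ⟨m1, hm1, e1⟩ := hto a ha ha2
    obtain ⟨m2, hm2, e2⟩ := hto b hb hb2
    exact ⟨m2⁻¹ * m1, mul_mem (inv_mem hm2) hm1, by
      calc m2⁻¹ * m1 * a * (m2⁻¹ * m1)⁻¹ = m2⁻¹ * (m1 * a * m1⁻¹) * m2 := by group
        _ = b := by rw [e1, ← e2]; group⟩
  -- `v` inverts the core in `L`
  have hvinvK : ∀ k ∈ K ⊓ L, v * k * v⁻¹ = k⁻¹ := by
    refine (CfsgLib.Techniques.inverts_of_fixedPointFree (D := K ⊓ L) hv2
      (fun k hk => ⟨hKn v (hTC hvT) k hk.1, hLn.conj_mem k hk.2 v⟩) fun k hk he => ?_).1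
    have hkD : k ∈ D := (hDmem k).2 ⟨hk.1, hk.2, (mul_inv_eq_iff_eq_mul.1 he).symm⟩
    rwa [hD1, mem_bot] at hkD
  have hcomm0 : ∀ k ∈ K ⊓ L, ∀ r ∈ R ⊓ L, r * k = k * r := fun k hk r hr =>
    mul_inv_eq_iff_eq_mul.1 (hRLK r hr.1 hr.2 k hk.1)
  let A₀ : Subgroup G :=
    { carrier := {g | ∃ k ∈ K ⊓ L, ∃ r ∈ R ⊓ L, g = k * r}
      one_mem' := ⟨1, one_mem _, 1, one_mem _, by group⟩
      mul_mem' := by
        rintro _ _ ⟨k, hk, r, hr, rfl⟩ ⟨k', hk', r', hr', rfl⟩
        refine ⟨k * k', mul_mem hk hk', r * r', mul_mem hr hr', ?_⟩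
        calc k * r * (k' * r') = k * (r * k') * r' := by group
          _ = _ := by rw [hcomm0 k' hk' r hr]; group
      inv_mem' := by
        rintro _ ⟨k, hk, r, hr, rfl⟩
        exact ⟨k⁻¹, inv_mem hk, r⁻¹, inv_mem hr, by rw [mul_inv_rev, hcomm0 _ (inv_mem hk) _ (inv_mem hr)]⟩ }
  obtain ⟨F, iF, iF', hFo, ⟨eL⟩⟩ := psl_socle T hR P hP hn e hcL hone A₀ (by
      rintro _ ⟨k, hk, r, hr, rfl⟩ _ ⟨k', hk', r', hr', rfl⟩
      calc k * r * (k' * r') = k * (r * k') * r' := by group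
        _ = k * k' * (r * r') := by rw [hcomm0 k' hk' r hr]; group
        _ = k' * k * (r' * r) := by rw [hKab k hk.1 k' hk'.1, hR.comm hr.1 hr'.1]
        _ = k' * (r' * k) * r := by rw [hcomm0 k hk r' hr']; group
        _ = _ := by group) hvL
    (orderOf_eq_two_iff'.2 ⟨fun e0 => hvR (e0 ▸ one_mem R), hv2⟩) (by
      rintro _ ⟨k, hk, r, hr, rfl⟩
      rw [mul_inv_rev, hcomm0 _ (inv_mem hk) _ (inv_mem hr), ← hvinvK k hk, ← hR.inv v hvT hvR r hr.1]
      group)
    ⟨1, one_mem _, c, ⟨hR.mem, hcL⟩, (one_mul c).symm⟩ (by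
      rintro _ ⟨k, hk, r, hr, rfl⟩ h2
      have hcm' : Commute k r := (hcomm0 k hk r hr).symm
      rw [← sq, hcm'.mul_pow] at h2
      have hk2 : k ^ 2 = 1 := hKT _ (pow_mem hk.1 2)
        (eq_inv_of_mul_eq_one_left h2 ▸ inv_mem (pow_mem (hR.le hr.1) 2))
      have hk1 : k = 1 := orderOf_eq_one_iff.1 (Nat.eq_one_of_dvd_coprimes
        (Nat.coprime_two_left.2 (hKodd k hk.1)) (orderOf_dvd_of_pow_eq_one hk2) dvd_rfl)
      rw [hk1, one_mul]
      rw [hk2, one_mul, sq] at h2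
      exact hR.uniq r hr.1 h2) (by
      intro g hgL hgc
      obtain ⟨k, hk, s, hs, rfl⟩ := hdecL g hgL hgc
      by_cases hsR : s ∈ R
      · exact Or.inl ⟨k, hk, s, ⟨hsR, hs.2⟩, rfl⟩
      · exact Or.inr ⟨v * k * v⁻¹, (by rw [hvinvK k hk]; exact inv_mem hk), v * s,
          ⟨hR.mul v hvT s hs.1 hvR hsR, mul_mem hvL hs.2⟩, by group⟩)
  refine target_of_psl T hR hns hLns hLC hsup ?_ hFo eL
  intro g hg
  obtain ⟨k, hk, s, hs, rfl⟩ := hdec g (hCd ▸ hg)
  refine mul_mem ?_ ?_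
  · rw [show k = t * (t * k) by rw [← mul_assoc, ht2, one_mul]]
    refine mul_mem (subset_closure ht2) (subset_closure ?_)
    show t * k * (t * k) = 1
    have h1 := htinv k hk
    rw [inv_eq_of_orderOf_two h.ht] at h1
    rw [← mul_assoc, h1, inv_mul_cancel]
  · by_cases hsR : s ∈ R
    · rw [show s = t * (t * s) by rw [← mul_assoc, ht2, one_mul]]
      exact mul_mem (subset_closure ht2) (subset_closure
        (hR.sq _ (mul_mem htT hs) fun hm => htR ((R.mul_mem_cancel_right hsR).1 hm)))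
    · exact subset_closure (hR.sq s hs hsR)

end CfsgLib.DihCore.Red
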