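import Cfsg.Agent.Lib.DihCore.RedCases
import Cfsg.Agent.Lib.Blocks.FourGroupBound
import Cfsg.Agent.S3224

/-!
# Reduced groups: choice of the Sylow 2-subgroup, quotient by the odd core
-/

set_option autoImplicit false
set_option linter.unusedSectionVars false

namespace CfsgLib.DihCore.Red

open Subgroup
open CfsgLib.Recognition.CycNorm (DihData)
open CfsgLib.Invol (orderOf_conj_eq orderOf_eq_two_iff' ne_one_of_orderOf_two inv_eq_of_orderOf_two)

universe u

variable {G : Type u} [Group G] [Finite G] {A : Subgroup G} {x t : G}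

/-- A Sylow 2-subgroup adapted to the involution centraliser. -/
theorem exists_data (h : Cent A x t) :
    ∃ T : Sylow 2 G, t ∈ (T : Subgroup G) ∧
      ((∀ y ∈ (T : Subgroup G), y * t = t * y) ∨
        ((∃ y ∈ (T : Subgroup G), y * t ≠ t * y) ∧ (∀ a ∈ A, Odd (orderOf (a * a))) ∧
          (∀ P : Subgroup G, IsPGroup 2 P → P ≤ centralizer ({t} : Set G) → Nat.card P ≤ 4) ∧
          (∀ tT : ↥(T : Subgroup G), (tT : G) = t →
            Nat.card (centralizer ({tT} : Set ↥(T : Subgroup G))) = 4) ∧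
          4 < Nat.card (T : Subgroup G))) := by
  classical
  haveI : Fact (Nat.Prime 2) := ⟨Nat.prime_two⟩
  obtain ⟨C, hCd⟩ : ∃ C, C = centralizer ({t} : Set G) := ⟨_, rfl⟩
  have hmem : ∀ g, g ∈ C ↔ g * t = t * g := fun g => by rw [hCd, mem_centralizer_singleton_iff]
  obtain ⟨ht1, ht2⟩ := orderOf_eq_two_iff'.1 h.ht
  obtain ⟨P⟩ : Nonempty (Sylow 2 C) := inferInstance
  obtain ⟨T, hT⟩ := (P.isPGroup'.map C.subtype).exists_le_sylow
  have htC : t ∈ C := (hmem t).2 rfl
  have htP : (⟨t, htC⟩ : C) ∈ (P : Subgroup C) := by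
    obtain ⟨g, hg⟩ := CfsgLib.Invol.exists_mem_sylow_orderOf_two P (t := (⟨t, htC⟩ : C))
      (by rw [orderOf_mk]; exact h.ht)
    have e : g * ⟨t, htC⟩ = ⟨t, htC⟩ * g := Subtype.ext ((hmem g).1 g.2)
    rwa [e, mul_inv_cancel_right] at hg
  have htT : t ∈ (T : Subgroup G) := hT (mem_map_of_mem C.subtype htP)
  have hPT : ∀ g ∈ (T : Subgroup G), g ∈ C → ∀ hg : g ∈ C, (⟨g, hg⟩ : C) ∈ (P : Subgroup C) := by
    intro g hgT _ hg
    have hle : (P : Subgroup C) ≤ (T : Subgroup G).subgroupOf C := fun y hy => hT (mem_map_of_mem C.subtype hy)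
    have hp : IsPGroup 2 ((T : Subgroup G).subgroupOf C) :=
      T.isPGroup'.comap_of_injective C.subtype C.subtype_injective
    rw [← P.is_maximal' hp hle]
    exact hgT
  refine ⟨T, htT, ?_⟩
  by_cases hcomm : ∀ y ∈ (T : Subgroup G), y * t = t * y
  · exact Or.inl hcomm
  push Not at hcomm
  right
  have hsq : ∀ a ∈ A, a ∈ (T : Subgroup G) → a = 1 ∨ a = t := fun a ha haT =>
    h.uniq a ha (sq_eq_one_of_not_central h T hcomm ha haT)
  have hconj : ∀ Q : Subgroup G, IsPGroup 2 Q → Q ≤ C → ∃ g ∈ C, ∀ q ∈ Q, g * q * g⁻¹ ∈ (T : Subgroup G) := by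
    intro Q hQ hQC
    obtain ⟨P', hP'⟩ := (hQ.comap_of_injective C.subtype C.subtype_injective).exists_le_sylow
    obtain ⟨g, hg⟩ := MulAction.exists_smul_eq C P' P
    refine ⟨g, g.2, fun q hq => ?_⟩
    have h1 : g * ⟨q, hQC hq⟩ * g⁻¹ ∈ (P : Subgroup C) := by
      rw [← hg, Sylow.coe_subgroup_smul]
      exact ⟨⟨q, hQC hq⟩, hP' hq, rfl⟩
    exact hT (mem_map_of_mem C.subtype h1)
  have hA2 : ∀ a ∈ A, Odd (orderOf (a * a)) := by
    intro a ha
    obtain ⟨k, m, hm, hkm⟩ := Nat.exists_eq_two_pow_mul_odd (orderOf_pos a).ne'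
    have hp : IsPGroup 2 (zpowers (a ^ m)) := by
      have hyk : (a ^ m) ^ 2 ^ k = 1 := by rw [← pow_mul, mul_comm, ← hkm, pow_orderOf_eq_one]
      obtain ⟨i, -, hi⟩ := (Nat.dvd_prime_pow Nat.prime_two).1 (orderOf_dvd_of_pow_eq_one hyk)
      exact IsPGroup.of_card (n := i) (by rw [Nat.card_zpowers, hi])
    obtain ⟨g, hg, hgq⟩ := hconj _ hp (zpowers_le.2 (hCd ▸ h.le (pow_mem ha m)))
    have h1 := hsq _ (h.conj_mem ((hmem g).1 hg) (pow_mem ha m)) (hgq _ (mem_zpowers _))
    have h2 : a ^ m * a ^ m = 1 := by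
      have h3 : g * (a ^ m * a ^ m) * g⁻¹ = 1 := by
        calc g * (a ^ m * a ^ m) * g⁻¹ = (g * a ^ m * g⁻¹) * (g * a ^ m * g⁻¹) := by group
          _ = 1 := by rcases h1 with e | e <;> rw [e] <;> simp [ht2]
      calc a ^ m * a ^ m = g⁻¹ * (g * (a ^ m * a ^ m) * g⁻¹) * g := by group
        _ = 1 := by rw [h3]; group
    refine hm.of_dvd_nat (orderOf_dvd_of_pow_eq_one ?_)
    rw [(Commute.refl a).mul_pow, h2]
  obtain ⟨U, hUd⟩ : ∃ U, U = (T : Subgroup G) ⊓ C := ⟨_, rfl⟩
  have hU4 : Nat.card U ≤ 4 := by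
    subst hUd
    by_cases hout : ∃ y0 ∈ (T : Subgroup G) ⊓ C, y0 ∉ A
    · obtain ⟨y0, hy0, hy0A⟩ := hout
      have hy02 := h.sq_out ((hmem y0).1 hy0.2) hy0A
      refine le_trans (Nat.card_le_card_of_injective
        (fun y : ↥((T : Subgroup G) ⊓ C) => (decide ((y : G) ∈ A), decide ((y : G) = 1 ∨ (y : G) = y0))) ?_)
        (le_of_eq (by simp))
      intro a b hab
      simp only [Prod.mk.injEq, decide_eq_decide] at hab
      obtain ⟨h1, h2⟩ := hab
      apply Subtype.ext
      by_cases haA : (a : G) ∈ A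
      · rcases hsq a haA a.2.1 with ea | ea <;> rcases hsq b (h1.1 haA) b.2.1 with eb | eb
        · rw [ea, eb]
        · exfalso
          rcases h2.1 (Or.inl ea) with e | e
          · exact ht1 (eb.symm.trans e)
          · exact hy0A (e ▸ h1.1 haA)
        · exfalso
          rcases h2.2 (Or.inl eb) with e | e
          · exact ht1 (ea.symm.trans e)
          · exact hy0A (e ▸ haA)
        · rw [ea, eb]
      · have key : ∀ y ∈ (T : Subgroup G) ⊓ C, y ∉ A → y = y0 ∨ y = y0 * t := by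
          intro y hy hyA
          have h3 : y0 * y ∈ A := by
            have e1 := (h.mem_iff.1 ((hmem y0).1 hy0.2)).resolve_left hy0A
            have e2 := (h.mem_iff.1 ((hmem y).1 hy.2)).resolve_left hyA
            have e : y0 * y = (x * y0)⁻¹ * (x * y) := by
              rw [mul_inv_rev, mul_assoc, inv_mul_cancel_left, inv_eq_of_mul_eq_one_right hy02]
            rw [e]
            exact mul_mem (inv_mem e1) e2
          rcases hsq _ h3 (mul_mem hy0.1 hy.1) with e | e
          · left; rw [eq_inv_of_mul_eq_one_right e, inv_eq_of_mul_eq_one_right hy02]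
          · right; rw [← e, ← mul_assoc, hy02, one_mul]
        have ht0 : y0 * t ≠ y0 := fun e => ht1 (mul_eq_left.1 e)
        have ht10 : y0 * t ≠ 1 := fun e => hy0A (by
          rw [eq_inv_of_mul_eq_one_left e]; exact inv_mem h.htA)
        rcases key a a.2 haA with ea | ea <;> rcases key b b.2 (fun hb => haA (h1.2 hb)) with eb | eb
        · rw [ea, eb]
        · exfalso
          rcases h2.1 (Or.inr ea) with e | e
          · exact ht10 (eb.symm.trans e)
          · exact ht0 (eb.symm.trans e)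
        · exfalso
          rcases h2.2 (Or.inr eb) with e | e
          · exact ht10 (ea.symm.trans e)
          · exact ht0 (ea.symm.trans e)
        · rw [ea, eb]
    · push Not at hout
      refine le_trans (Nat.card_le_card_of_injective (fun y : ↥((T : Subgroup G) ⊓ C) => decide ((y : G) = 1)) ?_)
        (by simp)
      intro a b hab
      simp only [decide_eq_decide] at hab
      apply Subtype.ext
      rcases hsq a (hout a a.2) a.2.1 with ea | ea <;> rcases hsq b (hout b b.2) b.2.1 with eb | eb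
      · rw [ea, eb]
      · exact absurd (eb.symm.trans (hab.1 ea)) ht1
      · exact absurd (ea.symm.trans (hab.2 eb)) ht1
      · rw [ea, eb]
  have hsmall : ∀ Q : Subgroup G, IsPGroup 2 Q → Q ≤ centralizer ({t} : Set G) → Nat.card Q ≤ 4 := by
    intro Q hQ hQC
    rw [← hCd] at hQC
    obtain ⟨g, hg, hgq⟩ := hconj Q hQ hQC
    refine le_trans ?_ hU4
    rw [← card_map_of_injective (K := Q) (f := (MulAut.conj g).toMonoidHom) (MulAut.conj g).injective]
    refine card_le_of_le ?_
    rintro _ ⟨q, hq, rfl⟩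
    rw [hUd]
    exact ⟨hgq q hq, C.mul_mem (C.mul_mem hg (hQC hq)) (C.inv_mem hg)⟩
  -- four elements: `1, t` and a conjugate of `x`
  have hU : Nat.card U = 4 := by
    obtain ⟨g, hg, hgq⟩ := hconj (zpowers x) (IsPGroup.of_card (n := 1) (by rw [Nat.card_zpowers, h.hx, pow_one]))
      (zpowers_le.2 ((hmem x).2 h.x_t))
    have hxU : g * x * g⁻¹ ∈ U := hUd ▸ ⟨hgq x (mem_zpowers x), C.mul_mem (C.mul_mem hg ((hmem x).2 h.x_t)) (C.inv_mem hg)⟩
    have htU : t ∈ U := hUd ▸ ⟨htT, htC⟩
    have hne1 : g * x * g⁻¹ ≠ 1 := fun e => ne_one_of_orderOf_two h.hx (by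
      calc x = g⁻¹ * (g * x * g⁻¹) * g := by group
        _ = 1 := by rw [e]; group)
    have hnet : g * x * g⁻¹ ≠ t := fun e => h.hxA (by
      have e2 : x = t := by
        calc x = g⁻¹ * (g * x * g⁻¹) * g := by group
          _ = g⁻¹ * (t * g) := by rw [e, mul_assoc]
          _ = t := by rw [← (hmem g).1 hg, inv_mul_cancel_left]
      exact e2 ▸ h.htA)
    have h3 : ({1, t, g * x * g⁻¹} : Set G).ncard = 3 :=
      Set.ncard_eq_three.2 ⟨1, t, _, Ne.symm ht1, Ne.symm hne1, Ne.symm hnet, rfl⟩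
    have hsub : ({1, t, g * x * g⁻¹} : Set G) ⊆ (U : Set G) := by
      rintro y (rfl | rfl | rfl)
      exacts [one_mem U, htU, hxU]
    have h5 := Set.ncard_le_ncard hsub
    rw [h3, ← Nat.card_coe_set_eq] at h5
    have h6 : Nat.card (U : Set G) = Nat.card U := rfl
    have hp : IsPGroup 2 U := T.isPGroup'.to_le (hUd ▸ inf_le_left)
    obtain ⟨k, hk⟩ := IsPGroup.iff_card.1 hp
    rw [hk] at hU4 h6
    rw [hk]
    rcases k with _ | _ | _ | k
    · omega
    · omega
    · rfl
    · have : 2 ^ 3 ≤ 2 ^ (k + 3) := Nat.pow_le_pow_right (by norm_num) (by omega)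
      omega
  refine ⟨hcomm, hA2, hsmall, fun tT htT' => ?_, ?_⟩
  · rw [← hU]
    refine Nat.card_congr
      { toFun := fun y => ⟨((y : ↥(T : Subgroup G)) : G), hUd ▸ ⟨(y : ↥(T : Subgroup G)).2, (hmem _).2 (by
          rw [← htT']
          exact congrArg Subtype.val (mem_centralizer_singleton_iff.1 y.2))⟩⟩
        invFun := fun y => ⟨⟨(y : G), (hUd ▸ inf_le_left : U ≤ (T : Subgroup G)) y.2⟩,
          mem_centralizer_singleton_iff.2 (Subtype.ext (by
            show (y : G) * (tT : G) = (tT : G) * y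
            rw [htT']
            exact (hmem _).1 ((hUd ▸ inf_le_right : U ≤ C) y.2)))⟩
        left_inv := fun y => rfl
        right_inv := fun y => rfl }
  · rw [← hU]
    refine lt_of_le_of_ne (card_le_of_le (hUd ▸ inf_le_left)) fun e => ?_
    obtain ⟨y, hy, hyt⟩ := hcomm
    have heq := eq_of_le_of_card_ge (hUd ▸ inf_le_left : U ≤ (T : Subgroup G)) e.ge
    exact hyt ((hmem y).1 ((hUd ▸ inf_le_right : U ≤ C) (heq.symm ▸ hy)))

theorem rot_of_equiv (T : Sylow 2 G) {n : ℕ} (hn : 2 ≤ n) (e : (T : Subgroup G) ≃* DihedralGroup n) :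
    ∃ (R : Subgroup G) (c : G), Rot (T : Subgroup G) R c := by
  haveI : NeZero n := ⟨by omega⟩
  obtain ⟨r, hr⟩ : ∃ r, r = e.symm (DihedralGroup.r 1) := ⟨_, rfl⟩
  obtain ⟨s, hs⟩ : ∃ s, s = e.symm (DihedralGroup.sr 0) := ⟨_, rfl⟩
  have hd : DihData (T : Subgroup G) n (r : G) (s : G) := by
    refine ⟨hn, r.2, s.2, ?_, ?_, ?_, ?_, ?_⟩
    · rw [orderOf_coe, hr, MulEquiv.orderOf_eq, DihedralGroup.orderOf_r_one]
    · rw [← coe_mul, hs, ← map_mul, DihedralGroup.sr_mul_sr, sub_self, ← DihedralGroup.one_def, map_one, coe_one]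
    · rw [← coe_mul, ← coe_mul, ← coe_inv, hr, hs, ← map_mul, ← map_mul, ← map_inv]
      simp [DihedralGroup.sr_mul_r, DihedralGroup.sr_mul_sr]
    · rintro ⟨i, hi⟩
      have h1 : r ^ i = s := Subtype.ext (by simpa using hi)
      have h2 := congrArg e h1
      rw [map_zpow, hr, hs, e.apply_symm_apply, e.apply_symm_apply, DihedralGroup.r_one_zpow] at h2
      cases h2
    · rw [Nat.card_congr e.toEquiv, DihedralGroup.nat_card]
  obtain ⟨c, hcr, hc, -⟩ := hd.exists_t T.isPGroup'
  obtain ⟨hc1, hc2⟩ := orderOf_eq_two_iff'.1 hc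
  refine ⟨zpowers (r : G), c,
    { le := hd.zpowers_le
      isP := T.isPGroup'
      cyc := inferInstance
      ne := hc1
      csq := hc2
      mem := hcr
      mul := fun y hy z hz hyR hzR => (hd.key hy hz).2 (iff_of_false hyR hzR)
      inv := fun y hy hyR a ha => ?_
      sq := fun y hy hyR => hd.sq_of_not_mem hy hyR
      uniq := fun a ha ha2 => ?_ }⟩
  · have h1 := (hd.cases hy).resolve_left hyR
    have hyinv : y⁻¹ = y := inv_eq_of_mul_eq_one_right (hd.sq_of_not_mem hy hyR)
    obtain ⟨i, hi⟩ := h1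
    obtain ⟨j, hj⟩ := ha
    have hcm : ((s : G) * y) * a * ((s : G) * y)⁻¹ = a := by
      simp only at hi hj
      rw [← hi, ← hj, ← zpow_neg, ← zpow_add, ← zpow_add]
      congr 1
      ring
    have hss : (s : G) * s = 1 := hd.2.2.2.2.1
    have hsinv : (s : G)⁻¹ = s := inv_eq_of_mul_eq_one_right hss
    calc y * a * y⁻¹ = (s : G) * (((s : G) * y) * a * ((s : G) * y)⁻¹) * (s : G) := by
          rw [mul_inv_rev, hsinv]
          simp only [mul_assoc]
          rw [← mul_assoc (s : G) (s : G), hss, one_mul, mul_one]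
      _ = a⁻¹ := by
          rw [hcm]
          exact hd.conj_s ⟨j, hj⟩
  · by_cases ha1 : a = 1
    · exact Or.inl ha1
    · exact Or.inr (CfsgLib.Invol.mem_zpowers_unique_involution ha hcr (orderOf_eq_two_iff'.2 ⟨ha1, ha2⟩) hc)

theorem two_le_of_equiv (hns : ¬ Group.IsSolvable G) (T : Sylow 2 G) {n : ℕ}
    (e : (T : Subgroup G) ≃* DihedralGroup n) : 2 ≤ n := by
  have h := two_lt_card_sylow hns T
  rw [Nat.card_congr e.toEquiv, DihedralGroup.nat_card] at h
  omega

/-- The dihedral case. -/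
theorem target_of_dihedral (h : Cent A x t)
    (hO : ∀ N : Subgroup G, N.Normal → Odd (Nat.card N) → N = ⊥) (hns : ¬ Group.IsSolvable G)
    (T' : Sylow 2 G) (n : ℕ) (e : (T' : Subgroup G) ≃* DihedralGroup n) : TargetEq G := by
  haveI : Fact (Nat.Prime 2) := ⟨Nat.prime_two⟩
  obtain ⟨T, htT, hcase⟩ := exists_data h
  rcases hcase with hcomm | ⟨hnc, hA2, hsmall, -, hT4⟩
  · exact target_of_central_case h T htT hcomm hO hns
  · obtain ⟨R, c, hR⟩ := rot_of_equiv T (two_le_of_equiv hns T' e) ((Sylow.equiv T T').trans e)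
    exact target_of_reflection h T htT hnc hA2 hR hsmall hT4 hO hns

/-- An involution with centraliser of order four in a group with dihedral Sylow 2-subgroups. -/
theorem target_of_four (T' : Sylow 2 G) (n : ℕ) (he : Nonempty ((T' : Subgroup G) ≃* DihedralGroup n))
    (t : G) (ht : orderOf t = 2) (h4 : Nat.card (centralizer ({t} : Set G)) = 4)
    (hO : ∀ N : Subgroup G, N.Normal → Odd (Nat.card N) → N = ⊥) (hns : ¬ Group.IsSolvable G) :
    TargetEq G := by
  haveI : Fact (Nat.Prime 2) := ⟨Nat.prime_two⟩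
  obtain ⟨e⟩ := he
  obtain ⟨C, hCd⟩ : ∃ C, C = centralizer ({t} : Set G) := ⟨_, rfl⟩
  rw [← hCd] at h4
  have hCp : IsPGroup 2 C := IsPGroup.of_card (n := 2) (by rw [h4]; rfl)
  obtain ⟨T, hT⟩ := hCp.exists_le_sylow
  obtain ⟨R, c, hR⟩ := rot_of_equiv T (two_le_of_equiv hns T' e) ((Sylow.equiv T T').trans e)
  have htC : t ∈ C := hCd ▸ mem_centralizer_singleton_iff.2 rfl
  obtain ⟨ht1, ht2⟩ := orderOf_eq_two_iff'.1 ht
  have hmem : ∀ g, g ∈ C → g * t = t * g := fun g hg => mem_centralizer_singleton_iff.1 (hCd ▸ hg)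
  obtain ⟨w, hw, hw1, hwt, hw2⟩ : ∃ w ∈ C, w ≠ 1 ∧ w ≠ t ∧ w * w = 1 := by
    by_contra hno
    push Not at hno
    have hcR : c ∈ C := hR.mem_of_two_lt hT (by omega)
    rcases eq_or_ne c t with rfl | hct
    · have hle : (T : Subgroup G) ≤ C := fun y hy => hCd ▸ mem_centralizer_singleton_iff.2 (hR.central hy)
      have hTC : (T : Subgroup G) = C := le_antisymm hle hT
      obtain ⟨y, hy, hyR⟩ : ∃ y ∈ (T : Subgroup G), y ∉ R := by
        by_contra hn'
        push Not at hn'
        refine hns (CfsgLib.CyclicTwoInt.isSolvable_of_cyclic_sylow T ?_)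
        haveI := hR.cyc
        exact isCyclic_of_injective (inclusion hn') (inclusion_injective _)
      exact hno y (hTC ▸ hy) (fun e => hyR (e ▸ one_mem R)) (fun e => hyR (e ▸ hR.mem)) (hR.sq y hy hyR)
    · exact hno c hcR hR.ne hct hR.csq
  have hA : ∀ a ∈ zpowers t, a = 1 ∨ a = t := by
    rintro _ ⟨i, rfl⟩
    have h2 : t ^ (2 : ℤ) = 1 := by rw [zpow_two, ht2]
    rcases Int.even_or_odd i with ⟨j, rfl⟩ | ⟨j, rfl⟩
    · left; simp only [← two_mul, zpow_mul, h2, one_zpow]
    · right; simp only [zpow_add, zpow_mul, h2, one_zpow, one_mul, zpow_one]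
  have hwA : w ∉ zpowers t := fun hm => (hA w hm).elim hw1 hwt
  have hcent : Cent (zpowers t) w t :=
    { comm := fun a ha b hb => by
        rcases hA a ha with rfl | rfl <;> rcases hA b hb with rfl | rfl <;> simp
      hx := orderOf_eq_two_iff'.2 ⟨hw1, hw2⟩
      hxA := hwA
      inv := fun a ha => by
        rcases hA a ha with rfl | rfl
        · simp
        · rw [hmem w hw, mul_inv_cancel_right, inv_eq_of_mul_eq_one_right ht2]
      ht := ht
      htA := mem_zpowers t
      uniq := fun a ha _ => hA a ha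
      hC := by
        rw [← hCd]
        refine (eq_of_le_of_card_ge (sup_le (zpowers_le.2 htC) (zpowers_le.2 hw)) ?_).symm
        rw [h4]
        have hp : IsPGroup 2 ↥(zpowers t ⊔ zpowers w) :=
          hCp.to_le (sup_le (zpowers_le.2 htC) (zpowers_le.2 hw))
        obtain ⟨k, hk⟩ := IsPGroup.iff_card.1 hp
        have h3 : ({1, t, w} : Set G).ncard = 3 :=
          Set.ncard_eq_three.2 ⟨1, t, w, Ne.symm ht1, Ne.symm hw1, Ne.symm hwt, rfl⟩
        have hsub : ({1, t, w} : Set G) ⊆ ((zpowers t ⊔ zpowers w : Subgroup G) : Set G) := by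
          rintro y (rfl | rfl | rfl)
          exacts [one_mem _, mem_sup_left (mem_zpowers _), mem_sup_right (mem_zpowers _)]
        have h5 := Set.ncard_le_ncard hsub
        rw [h3, ← Nat.card_coe_set_eq] at h5
        have h6 : Nat.card ((zpowers t ⊔ zpowers w : Subgroup G) : Set G) =
          Nat.card ↥(zpowers t ⊔ zpowers w) := rfl
        rw [hk] at h6 ⊢
        rcases k with _ | _ | k
        · omega
        · omega
        · rw [pow_succ, pow_succ]
          have := Nat.one_le_two_pow (n := k)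
          omega }
  exact target_of_dihedral hcent hO hns T' n e

end CfsgLib.DihCore.Red
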