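import Cfsg.Agent.Lib.Recognition.CycNorm.AlmostSimple
import Cfsg.Agent.Lib.Recognition.CycNorm.Socle
import Cfsg.Agent.Lib.DihCore.DGroup
import Cfsg.Agent.Lib.SmallCent.Reduce
import Cfsg.Agent.Lib.CyclicTwoInt.Basic
import Cfsg.Agent.Lib.Fusion.WeakZJ.Group
import Cfsg.Agent.Lib.InvolChar.ThreeInvolutions
import Cfsg.Agent.Lib.Classical22.OrthPower.Three.Group
import Cfsg.Agent.S0071

/-!
# Reduced groups with dihedral Sylow 2-subgroups: socle and almost simple tools

`Rot T R c`: `R` is a cyclic part of index at most two of the 2-group `T`, inverted by the elements outside it,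
with involution `c`.
-/

set_option autoImplicit false
set_option linter.unusedSectionVars false

namespace CfsgLib.DihCore.Red

open Subgroup
open CfsgLib.Recognition.CycNorm (NoEight DihData NoSolvNormal exists_invol_mem)
open CfsgLib.Invol (orderOf_conj_eq orderOf_eq_two_iff' ne_one_of_orderOf_two inv_eq_of_orderOf_two)

universe u

variable {G : Type u} [Group G]

/-- Isomorphic to a projective linear group of degree two. -/
def TargetEq (G : Type u) [Group G] : Prop :=
  ∃ (F : Type) (_ : Field F) (_ : Fintype F), 3 < Fintype.card F ∧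
    (Nonempty (G ≃* Matrix.ProjectiveSpecialLinearGroup (Fin 2) F) ∨
      Nonempty (G ≃* Matrix.ProjGenLinGroup (Fin 2) F))

/-- The cyclic part of a dihedral 2-group. -/
structure Rot (T R : Subgroup G) (c : G) : Prop where
  le : R ≤ T
  isP : IsPGroup 2 T
  cyc : IsCyclic R
  ne : c ≠ 1
  csq : c * c = 1
  mem : c ∈ R
  mul : ∀ x ∈ T, ∀ y ∈ T, x ∉ R → y ∉ R → x * y ∈ R
  inv : ∀ x ∈ T, x ∉ R → ∀ a ∈ R, x * a * x⁻¹ = a⁻¹
  sq : ∀ x ∈ T, x ∉ R → x * x = 1
  uniq : ∀ a ∈ R, a * a = 1 → a = 1 ∨ a = c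

variable [Finite G] {T R : Subgroup G} {c : G}

theorem Rot.comm (hR : Rot T R c) {a b : G} (ha : a ∈ R) (hb : b ∈ R) : a * b = b * a :=
  haveI := hR.cyc
  congrArg Subtype.val ((IsCyclic.commGroup (α := R)).mul_comm ⟨a, ha⟩ ⟨b, hb⟩)

theorem Rot.orderOf_c (hR : Rot T R c) : orderOf c = 2 := orderOf_eq_two_iff'.2 ⟨hR.ne, hR.csq⟩

theorem Rot.c_mem (hR : Rot T R c) : c ∈ T := hR.le hR.mem

theorem Rot.central (hR : Rot T R c) {x : G} (hx : x ∈ T) : x * c = c * x := by
  by_cases hxR : x ∈ R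
  · exact hR.comm hxR hR.mem
  · have h := hR.inv x hx hxR c hR.mem
    rw [inv_eq_of_mul_eq_one_right hR.csq] at h
    exact mul_inv_eq_iff_eq_mul.1 h

theorem Rot.sq_ne (hR : Rot T R c) {x : G} (hx : x ∈ T) (h : x * x ≠ 1) : x ∈ R :=
  by_contra fun hn => h (hR.sq x hx hn)

theorem Rot.inv_self (hR : Rot T R c) {x : G} (hx : x ∈ T) (hxR : x ∉ R) : x⁻¹ = x :=
  inv_eq_of_mul_eq_one_right (hR.sq x hx hxR)

/-- A 2-subgroup of order more than two contains the central involution. -/
theorem Rot.mem_of_two_lt (hR : Rot T R c) {P : Subgroup G} (hP : P ≤ T) (h : 2 < Nat.card P) :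
    c ∈ P := by
  classical
  obtain ⟨y, hyP, hyR, hy1⟩ : ∃ y, y ∈ P ∧ y ∈ R ∧ y ≠ 1 := by
    by_contra hno
    push Not at hno
    have hle : Nat.card P ≤ Nat.card Bool := by
      refine Nat.card_le_card_of_injective (fun y : P => decide (y = 1)) fun a b hab => ?_
      simp only [decide_eq_decide] at hab
      by_cases ha : a = 1
      · rw [ha, hab.1 ha]
      · have haR : (a : G) ∉ R := fun hm => ha (Subtype.ext (hno a a.2 hm))
        have hbR : (b : G) ∉ R := fun hm => ha (hab.2 (Subtype.ext (hno b b.2 hm)))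
        have hm := hno _ (P.mul_mem a.2 b.2) (hR.mul a (hP a.2) b (hP b.2) haR hbR)
        apply Subtype.ext
        rw [← hR.inv_self (hP b.2) hbR]
        exact eq_inv_of_mul_eq_one_left hm
    simp at hle
    omega
  obtain ⟨v, hvy, hv, -⟩ := CfsgLib.Recognition.CycNorm.exists_invol hR.isP (hP hyP) hy1
  obtain ⟨hv1, hv2⟩ := orderOf_eq_two_iff'.1 hv
  exact (hR.uniq v (zpowers_le.2 hyR hvy) hv2).resolve_left hv1 ▸ zpowers_le.2 hyP hvy

/-- An odd element which moves an element by a fixed 2-element fixes it. -/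
theorem eq_one_of_shift (hT : IsPGroup 2 T) {g y w : G} (hw : w ∈ T) (hg : Odd (orderOf g))
    (h : g * y * g⁻¹ = y * w) (hc : g * w * g⁻¹ = w) : w = 1 := by
  haveI : Fact (Nat.Prime 2) := ⟨Nat.prime_two⟩
  have hcw : Commute g w := mul_inv_eq_iff_eq_mul.1 hc
  have hit : ∀ m : ℕ, g ^ m * y * (g ^ m)⁻¹ = y * w ^ m := by
    intro m
    induction m with
    | zero => simp
    | succ m ih =>
      calc g ^ (m + 1) * y * (g ^ (m + 1))⁻¹ = g * (g ^ m * y * (g ^ m)⁻¹) * g⁻¹ := by
            rw [pow_succ']; group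
        _ = (g * y * g⁻¹) * (g * w ^ m * g⁻¹) := by rw [ih]; group
        _ = y * w ^ (m + 1) := by
            rw [h, (hcw.pow_right m).eq, mul_inv_cancel_right, pow_succ']; group
  have h1 := hit (orderOf g)
  rw [pow_orderOf_eq_one, one_mul, inv_one, mul_one, left_eq_mul] at h1
  exact CfsgLib.Invol.eq_one_of_odd_of_mem hT hw (hg.of_dvd_nat (orderOf_dvd_of_pow_eq_one h1))

/-- A central involution gives a normal 2-complement. -/
theorem exists_complement (S : Sylow 2 G) (hR : Rot (S : Subgroup G) R c)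
    (hc : ∀ g : G, g * c = c * g) :
    ∃ N : Subgroup G, N.Normal ∧ N.IsComplement' (S : Subgroup G) := by
  haveI : Fact (Nat.Prime 2) := ⟨Nat.prime_two⟩
  refine (Cfsg.Agent.S0071.result S).2 fun Q hQ g hg hco => mem_centralizer_iff.2 fun y hy => ?_
  have hodd : Odd (orderOf g) := Nat.coprime_two_right.1 hco
  have hmem : ∀ y ∈ Q, g * y * g⁻¹ ∈ Q := fun y hy => (mem_normalizer_iff.1 hg y).1 hy
  have hcfix : g * c * g⁻¹ = c := mul_inv_eq_iff_eq_mul.2 (hc g)
  have hfix1 : ∀ w ∈ R, w * w = 1 → g * w * g⁻¹ = w := by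
    intro w hw hw2
    rcases hR.uniq w hw hw2 with e | e <;> rw [e]
    · group
    · exact hcfix
  have hfixR : ∀ (k : ℕ) (y : G), y ∈ Q → y ∈ R → y ^ 2 ^ k = 1 → g * y * g⁻¹ = y := by
    intro k
    induction k with
    | zero =>
      intro y _ _ hy
      rw [pow_zero, pow_one] at hy
      rw [hy]; group
    | succ k ih =>
      intro y hy hyR hyk
      by_cases hy2 : y * y = 1
      · exact hfix1 y hyR hy2
      have hyy := ih (y * y) (mul_mem hy hy) (mul_mem hyR hyR) (by rw [← sq, ← pow_mul, ← pow_succ', hyk])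
      have hy' : g * y * g⁻¹ ∈ R := hR.sq_ne (hQ (hmem y hy)) (fun h => hy2 (by
        calc y * y = g * (y * y) * g⁻¹ := hyy.symm
          _ = g * y * g⁻¹ * (g * y * g⁻¹) := by group
          _ = 1 := h))
      obtain ⟨w, hwd⟩ : ∃ w, w = y⁻¹ * (g * y * g⁻¹) := ⟨_, rfl⟩
      have hwR : w ∈ R := hwd ▸ mul_mem (inv_mem hyR) hy'
      have hw2 : w * w = 1 := by
        have hcm : y⁻¹ * (g * y * g⁻¹) = g * y * g⁻¹ * y⁻¹ := hR.comm (inv_mem hyR) hy'
        calc w * w = y⁻¹ * (g * y * g⁻¹) * (y⁻¹ * (g * y * g⁻¹)) := by rw [hwd]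
          _ = g * y * g⁻¹ * y⁻¹ * (y⁻¹ * (g * y * g⁻¹)) := by rw [hcm]
          _ = g * y * g⁻¹ * (y * y)⁻¹ * (g * y * g⁻¹) := by group
          _ = g * y * g⁻¹ * (g * (y * y) * g⁻¹)⁻¹ * (g * y * g⁻¹) := by rw [hyy]
          _ = 1 := by group
      have hw1 := eq_one_of_shift (g := g) (y := y) hR.isP (hR.le hwR) hodd (by rw [hwd]; group)
        (hfix1 w hwR hw2)
      rw [hwd, inv_mul_eq_one] at hw1
      exact hw1.symm
  have hfix2 : ∀ y ∈ Q, y ∈ R → g * y * g⁻¹ = y := fun y hy hyR => by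
    obtain ⟨k, hk⟩ := hR.isP ⟨y, hQ hy⟩
    exact hfixR k y hy hyR (by simpa using congrArg Subtype.val hk)
  have hkey : g * y * g⁻¹ = y := by
    by_cases hyR : y ∈ R
    · exact hfix2 y hy hyR
    have hy2 := hR.sq y (hQ hy) hyR
    have hy' : g * y * g⁻¹ ∉ R := by
      intro h
      have h2 : g * y * g⁻¹ * (g * y * g⁻¹) = 1 := by
        calc g * y * g⁻¹ * (g * y * g⁻¹) = g * (y * y) * g⁻¹ := by group
          _ = 1 := by rw [hy2]; group
      refine hyR ?_
      have e : y = g⁻¹ * (g * y * g⁻¹) * g := by group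
      rw [e]
      rcases hR.uniq _ h h2 with h3 | h3 <;> rw [h3]
      · simp
      · rw [mul_assoc, ← hc g, inv_mul_cancel_left]; exact hR.mem
    have hwR : y * (g * y * g⁻¹) ∈ R := hR.mul y (hQ hy) _ (hQ (hmem y hy)) hyR hy'
    have hw1 := eq_one_of_shift (g := g) (y := y) hR.isP (hR.le hwR) hodd
      (by rw [← mul_assoc y y, hy2, one_mul]) (hfix2 _ (mul_mem hy (hmem y hy)) hwR)
    rw [eq_inv_of_mul_eq_one_right hw1, hR.inv_self (hQ hy) hyR]
  exact (mul_inv_eq_iff_eq_mul.1 hkey).symm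

/-- A central involution forces solvability. -/
theorem isSolvable_of_central (S : Sylow 2 G) (hR : Rot (S : Subgroup G) R c)
    (hc : ∀ g : G, g * c = c * g) : Group.IsSolvable G := by
  haveI : Fact (Nat.Prime 2) := ⟨Nat.prime_two⟩
  obtain ⟨N, hN, hNc⟩ := exists_complement S hR hc
  haveI := hN
  have hodd : Odd (Nat.card N) := by
    rw [← hNc.index_eq_card, ← Nat.not_even_iff_odd, even_iff_two_dvd]
    exact S.not_dvd_index
  refine isSolvable_of_odd_normal N hodd ?_
  haveI : Group.IsNilpotent ↥(S : Subgroup G) := S.isPGroup'.isNilpotent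
  refine Group.isSolvable_of_surjective (f := (QuotientGroup.mk' N).comp (S : Subgroup G).subtype) ?_
  intro q
  obtain ⟨g, rfl⟩ := QuotientGroup.mk'_surjective N q
  obtain ⟨⟨⟨a, ha⟩, ⟨s, hs⟩⟩, rfl⟩ := hNc.2 g
  refine ⟨⟨s, hs⟩, ?_⟩
  simp only [MonoidHom.comp_apply, QuotientGroup.mk'_apply, Subgroup.coe_subtype]
  rw [QuotientGroup.mk_mul, (QuotientGroup.eq_one_iff a).2 ha, one_mul]

theorem mem_sylow_of_normal (S : Sylow 2 G) (M : Subgroup G) [M.Normal] (hM : IsPGroup 2 M) :
    M ≤ (S : Subgroup G) := by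
  haveI : Fact (Nat.Prime 2) := ⟨Nat.prime_two⟩
  obtain ⟨P, hP⟩ := hM.exists_le_sylow
  obtain ⟨g, hg⟩ := MulAction.exists_smul_eq G P S
  intro x hx
  rw [← hg, Sylow.coe_subgroup_smul]
  exact ⟨g⁻¹ * x * g, hP (by simpa using (inferInstance : M.Normal).conj_mem x hx g⁻¹),
    by simp [MulAut.conj, mul_assoc]⟩

/-- No involution is central. -/
theorem no_central_invol (S : Sylow 2 G) (hR : Rot (S : Subgroup G) R c) (hns : ¬ Group.IsSolvable G)
    {w : G} (hw : orderOf w = 2) (hwc : ∀ g : G, g * w = w * g) : False := by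
  haveI : Fact (Nat.Prime 2) := ⟨Nat.prime_two⟩
  obtain ⟨g, hg⟩ := CfsgLib.Invol.exists_mem_sylow_orderOf_two S hw
  rw [hwc g, mul_inv_cancel_right] at hg
  obtain ⟨hw1, hw2⟩ := orderOf_eq_two_iff'.1 hw
  by_cases hwR : w ∈ R
  · rw [(hR.uniq w hwR hw2).resolve_left hw1] at hwc
    exact hns (isSolvable_of_central S hR hwc)
  have hR2 : ∀ a ∈ R, a * a = 1 := by
    intro a ha
    have h1 := hR.inv w hg hwR a ha
    rw [← hwc a, mul_inv_cancel_right] at h1
    exact mul_eq_one_iff_eq_inv.2 h1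
  have hel : ∀ x ∈ (S : Subgroup G), x = 1 ∨ x = c ∨ x = w ∨ x = w * c := by
    intro x hx
    by_cases hxR : x ∈ R
    · exact (hR.uniq x hxR (hR2 x hxR)).imp_right Or.inl
    · have h1 : w * x ∈ R := hR.mul w hg x hx hwR hxR
      rcases hR.uniq _ h1 (hR2 _ h1) with h2 | h2
      · right; right; left
        rw [eq_inv_of_mul_eq_one_right h2, inv_eq_of_orderOf_two hw]
      · right; right; right
        rw [← h2, ← mul_assoc, hw2, one_mul]
  have hwz : ∀ a ∈ zpowers w, a = 1 ∨ a = w := by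
    rintro _ ⟨i, rfl⟩
    rcases Int.even_or_odd i with ⟨j, rfl⟩ | ⟨j, rfl⟩
    · left; simp only [← two_mul, zpow_mul, show w ^ (2 : ℤ) = 1 by rw [zpow_two, hw2], one_zpow]
    · right; simp only [zpow_add, zpow_mul, show w ^ (2 : ℤ) = 1 by rw [zpow_two, hw2], one_zpow, one_mul, zpow_one]
  have hout : ∀ x ∈ (S : Subgroup G), x ∉ zpowers w → x = c ∨ x = w * c := by
    intro x hx hxw
    rcases hel x hx with e | e | e | e
    · exact absurd (e ▸ one_mem _) hxw
    · exact Or.inl e
    · exact absurd (e ▸ mem_zpowers w) hxw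
    · exact Or.inr e
  have hcw := hwc c
  have hwc2 : w * c * (w * c) = 1 := by
    calc w * c * (w * c) = w * (c * w) * c := by group
      _ = (w * w) * (c * c) := by rw [hcw]; group
      _ = 1 := by rw [hw2, hR.csq, one_mul]
  have hR' : Rot (S : Subgroup G) (zpowers w) w :=
    { le := zpowers_le.2 hg
      isP := S.isPGroup'
      cyc := inferInstance
      ne := hw1
      csq := hw2
      mem := mem_zpowers w
      mul := by
        intro x hx y hy hxw hyw
        rcases hout x hx hxw with rfl | rfl <;> rcases hout y hy hyw with rfl | rfl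
        · rw [hR.csq]; exact one_mem _
        · rw [← mul_assoc, hcw, mul_assoc, hR.csq, mul_one]; exact mem_zpowers w
        · rw [mul_assoc, hR.csq, mul_one]; exact mem_zpowers w
        · rw [hwc2]; exact one_mem _
      inv := by
        intro x hx _ a ha
        rcases hwz a ha with rfl | rfl
        · simp
        · rw [hwc x, mul_inv_cancel_right, inv_eq_of_mul_eq_one_right hw2]
      sq := by
        intro x hx hxw
        rcases hout x hx hxw with rfl | rfl
        · exact hR.csq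
        · exact hwc2
      uniq := fun a ha _ => hwz a ha }
  exact hns (isSolvable_of_central S hR' hwc)

/-- No solvable normal subgroups. -/
theorem noSolvNormal (S : Sylow 2 G) (hR : Rot (S : Subgroup G) R c)
    (hO : ∀ N : Subgroup G, N.Normal → Odd (Nat.card N) → N = ⊥) (hns : ¬ Group.IsSolvable G) :
    NoSolvNormal G := by
  classical
  haveI : Fact (Nat.Prime 2) := ⟨Nat.prime_two⟩
  intro N hN hNs
  haveI := hN
  by_contra hN1
  obtain ⟨M, hMn, hM1, hMN, hmin⟩ := CfsgLib.Solvable.exists_minimal_normal_le N hN1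
  haveI := hMn
  have hMs : Group.IsSolvable ↥M := CfsgLib.Recognition.CycNorm.isSolvable_of_le hMN hNs
  obtain ⟨p, hp, hpx⟩ := CfsgLib.Solvable.exists_prime_pow_eq_one_of_minimal_normal M hM1 hmin hMs
  have hMcomm := CfsgLib.Solvable.commute_of_minimal_normal M hM1 hmin hMs
  obtain rfl : p = 2 := by
    by_contra hp2
    refine hM1 (hO M hMn (Nat.not_even_iff_odd.1 fun he => ?_))
    obtain ⟨x, hx⟩ := exists_prime_orderOf_dvd_card' (G := M) 2 (even_iff_two_dvd.1 he)
    have h1 : orderOf x ∣ p := orderOf_dvd_of_pow_eq_one (Subtype.ext (by simpa using hpx x x.2))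
    rw [hx, Nat.prime_dvd_prime_iff_eq Nat.prime_two hp] at h1
    exact hp2 h1.symm
  have hMS : M ≤ (S : Subgroup G) := mem_sylow_of_normal S M fun x => ⟨1, Subtype.ext (by simpa using hpx x x.2)⟩
  have hsq : ∀ x ∈ M, x * x = 1 := fun x hx => by rw [← sq]; exact hpx x hx
  have hMR : ∀ x ∈ M, x ∈ R → x = 1 ∨ x = c := fun x hx hxR => hR.uniq x hxR (hsq x hx)
  have hMinv : ∀ x ∈ M, x⁻¹ = x := fun x hx => inv_eq_of_mul_eq_one_right (hsq x hx)
  have h4 : Nat.card M ≤ 4 := by
    rcases em (∃ x0 ∈ M, x0 ∉ R) with ⟨x0, hx0, hx0R⟩ | hno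
    · refine le_trans (Nat.card_le_card_of_injective
        (fun x : M => (decide ((x : G) ∈ R), decide ((x : G) = 1 ∨ (x : G) = x0))) ?_) (le_of_eq (by simp))
      intro a b hab
      simp only [Prod.mk.injEq, decide_eq_decide] at hab
      obtain ⟨h1, h2⟩ := hab
      apply Subtype.ext
      by_cases haR : (a : G) ∈ R
      · have hbR := h1.1 haR
        rcases hMR a a.2 haR with ea | ea <;> rcases hMR b b.2 hbR with eb | eb
        · rw [ea, eb]
        · exfalso
          rcases h2.1 (Or.inl ea) with e | e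
          · exact hR.ne (eb.symm.trans e)
          · exact hx0R (e ▸ hbR)
        · exfalso
          rcases h2.2 (Or.inl eb) with e | e
          · exact hR.ne (ea.symm.trans e)
          · exact hx0R (e ▸ haR)
        · rw [ea, eb]
      · have hbR : (b : G) ∉ R := fun h => haR (h1.2 h)
        have key : ∀ x ∈ M, x ∉ R → x = x0 ∨ x = x0 * c := by
          intro x hx hxR
          have hm := hR.mul x0 (hMS hx0) x (hMS hx) hx0R hxR
          rcases hMR _ (mul_mem hx0 hx) hm with e | e
          · left; rw [eq_inv_of_mul_eq_one_right e, hMinv x0 hx0]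
          · right; rw [← e, ← mul_assoc, hsq x0 hx0, one_mul]
        have hcne : x0 * c ≠ x0 := fun h => hR.ne (mul_eq_left.1 h)
        have hc1 : x0 * c ≠ 1 := fun h => hx0R (by
          rw [eq_inv_of_mul_eq_one_left h]; exact inv_mem hR.mem)
        rcases key a a.2 haR with ea | ea <;> rcases key b b.2 hbR with eb | eb
        · rw [ea, eb]
        · exfalso
          rcases h2.1 (Or.inr ea) with e | e
          · exact hc1 (eb.symm.trans e)
          · exact hcne (eb.symm.trans e)
        · exfalso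
          rcases h2.2 (Or.inr eb) with e | e
          · exact hc1 (ea.symm.trans e)
          · exact hcne (ea.symm.trans e)
        · rw [ea, eb]
    · push Not at hno
      refine le_trans (Nat.card_le_card_of_injective (fun x : M => decide ((x : G) = 1)) ?_) (by simp)
      intro a b hab
      simp only [decide_eq_decide] at hab
      apply Subtype.ext
      rcases hMR a a.2 (hno a a.2) with ea | ea <;> rcases hMR b b.2 (hno b b.2) with eb | eb
      · rw [ea, eb]
      · exact absurd (eb.symm.trans (hab.1 ea)) hR.ne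
      · exact absurd (ea.symm.trans (hab.2 eb)) hR.ne
      · rw [ea, eb]
  obtain ⟨C, hCd⟩ : ∃ C, C = centralizer (M : Set G) := ⟨_, rfl⟩
  haveI hCn : C.Normal := hCd ▸ inferInstance
  have hker : ((MulAut.toPerm ↥M).comp (MulAut.conjNormal (H := M))).ker ≤ C := by
    intro g hg
    rw [MonoidHom.mem_ker] at hg
    rw [hCd, mem_centralizer_iff]
    intro m hm
    have := congrArg Subtype.val (Equiv.congr_fun hg ⟨m, hm⟩)
    simp only [MonoidHom.comp_apply, Equiv.Perm.one_apply] at this
    change g * m * g⁻¹ = m at this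
    exact (mul_inv_eq_iff_eq_mul.1 this).symm
  have hnC : ¬ Group.IsSolvable ↥C := fun hCs => hns (CfsgLib.InvolChar.A8Normalizer.isSolvable_of_hom
    ((MulAut.toPerm ↥M).comp (MulAut.conjNormal (H := M))) (CfsgLib.Recognition.CycNorm.isSolvable_of_le hker hCs)
    (CfsgLib.InvolChar.ThreeInvolutions.isSolvable_perm h4))
  rcases Nat.lt_or_ge 2 (Nat.card M) with h2 | h2
  · have hcM : c ∈ M := hR.mem_of_two_lt hMS h2
    obtain ⟨m, hm, hmR⟩ : ∃ m ∈ M, m ∉ R := by
      by_contra hno
      push Not at hno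
      have : Nat.card M ≤ Nat.card Bool := Nat.card_le_card_of_injective (fun x : M => decide ((x : G) = 1))
        fun a b hab => by
          simp only [decide_eq_decide] at hab
          apply Subtype.ext
          rcases hMR a a.2 (hno a a.2) with ea | ea <;> rcases hMR b b.2 (hno b b.2) with eb | eb
          · rw [ea, eb]
          · exact absurd (eb.symm.trans (hab.1 ea)) hR.ne
          · exact absurd (ea.symm.trans (hab.2 eb)) hR.ne
          · rw [ea, eb]
      simp at this
      omega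
    obtain ⟨P, hP⟩ := CfsgLib.Fusion.WeakZJ.exists_sylow_inf S C
    have hPM : ∀ x ∈ (P : Subgroup ↥C), (x : G) ∈ M := by
      intro x hx
      have hxS : (x : G) ∈ (S : Subgroup G) ⊓ C := hP ▸ mem_map_of_mem C.subtype hx
      have hxm : (x : G) * m = m * x := ((mem_centralizer_iff.1 (hCd ▸ x.2)) m hm).symm
      have hrec : ∀ r ∈ R, r * m = m * r → r ∈ M := by
        intro r hr hrm
        have h1 := hR.inv m (hMS hm) hmR r hr
        rw [← hrm, mul_inv_cancel_right] at h1
        rcases hR.uniq r hr (mul_eq_one_iff_eq_inv.2 h1) with e | e <;> rw [e]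
        · exact one_mem M
        · exact hcM
      by_cases hxR : (x : G) ∈ R
      · exact hrec _ hxR hxm
      · refine (M.mul_mem_cancel_left hm).1 (hrec _ (hR.mul m (hMS hm) _ hxS.1 hmR hxR) ?_)
        rw [mul_assoc, hxm]
    haveI : (P : Subgroup ↥C).Normal := ⟨fun x hx g => by
      have h1 : g * x = x * g := Subtype.ext ((mem_centralizer_iff.1 (show (g : G) ∈ centralizer (M : Set G) by rw [← hCd]; exact g.2)) x (hPM x hx)).symm
      rw [h1, mul_inv_cancel_right]; exact hx⟩
    exact hnC (isSolvable_of_sylow_normal P)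
  · obtain ⟨w, hw, hw1⟩ := (bot_or_exists_ne_one M).resolve_left hM1
    refine no_central_invol S hR hns (orderOf_eq_two_iff'.2 ⟨hw1, hsq w hw⟩) fun g => ?_
    have hcard : ∀ x ∈ M, x ≠ 1 → x = w := by
      intro x hx hx1
      by_contra hne
      have h3 : ({1, w, x} : Set G).ncard = 3 :=
        Set.ncard_eq_three.2 ⟨1, w, x, Ne.symm hw1, Ne.symm hx1, Ne.symm hne, rfl⟩
      have hsub : ({1, w, x} : Set G) ⊆ (M : Set G) := by
        rintro y (rfl | rfl | rfl)
        exacts [one_mem M, hw, hx]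
      have h5 := Set.ncard_le_ncard hsub
      rw [h3, ← Nat.card_coe_set_eq] at h5
      have : Nat.card (M : Set G) = Nat.card M := rfl
      omega
    have := hcard _ (hMn.conj_mem w hw g) (fun h => hw1 (by
      rwa [mul_inv_eq_one, mul_eq_left] at h))
    exact mul_inv_eq_iff_eq_mul.1 this

theorem two_lt_card_sylow (hns : ¬ Group.IsSolvable G) (P : Sylow 2 G) : 2 < Nat.card (P : Subgroup G) := by
  by_contra h
  apply hns
  refine CfsgLib.CyclicTwoInt.isSolvable_of_cyclic_sylow P ?_
  have h1 : 0 < Nat.card (P : Subgroup G) := Nat.card_pos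
  interval_cases hc : Nat.card (P : Subgroup G)
  · haveI := (Nat.card_eq_one_iff_unique.1 hc).1
    infer_instance
  · haveI : Fact (Nat.Prime 2) := ⟨Nat.prime_two⟩
    exact isCyclic_of_prime_card hc

/-- Two nonsolvable subgroups do not centralise each other with trivial intersection. -/
theorem no_disjoint (S : Sylow 2 G) (hR : Rot (S : Subgroup G) R c) {X Y : Subgroup G}
    (hcomm : ∀ x ∈ X, ∀ y ∈ Y, x * y = y * x) (hd : X ⊓ Y = ⊥) (hX : ¬ Group.IsSolvable ↥X)
    (hY : ¬ Group.IsSolvable ↥Y) : False := by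
  haveI : Fact (Nat.Prime 2) := ⟨Nat.prime_two⟩
  obtain ⟨P⟩ : Nonempty (Sylow 2 X) := inferInstance
  obtain ⟨Q⟩ : Nonempty (Sylow 2 Y) := inferInstance
  have hPc := two_lt_card_sylow hX P
  have hQc := two_lt_card_sylow hY Q
  have hP2 : IsPGroup 2 ((P : Subgroup X).map X.subtype) := P.isPGroup'.map _
  have hQ2 : IsPGroup 2 ((Q : Subgroup Y).map Y.subtype) := Q.isPGroup'.map _
  have hnorm : (P : Subgroup X).map X.subtype ≤
      normalizer (((Q : Subgroup Y).map Y.subtype : Subgroup G) : Set G) := by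
    intro g hg
    have hgX : g ∈ X := map_subtype_le _ hg
    refine mem_normalizer_iff.2 fun y => ⟨fun hy => ?_, fun hy => ?_⟩
    · rw [hcomm g hgX y (map_subtype_le _ hy), mul_inv_cancel_right]; exact hy
    · have hz := hcomm g hgX _ (map_subtype_le _ hy)
      have e : g * y * g⁻¹ = y := by
        calc g * y * g⁻¹ = g⁻¹ * (g * (g * y * g⁻¹)) := by group
          _ = g⁻¹ * (g * y * g⁻¹ * g) := by rw [hz]
          _ = y := by group
      rwa [e] at hy
  obtain ⟨T', hT'⟩ := (hP2.to_sup_of_normal_right' hQ2 hnorm).exists_le_sylow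
  obtain ⟨g, hg⟩ := MulAction.exists_smul_eq G T' S
  have hin : ∀ Z : Subgroup G, Z ≤ (T' : Subgroup G) → 2 < Nat.card Z → g⁻¹ * c * g ∈ Z := by
    intro Z hZ hZc
    have hle : Z.map (MulAut.conj g).toMonoidHom ≤ (S : Subgroup G) := by
      rw [← hg, Sylow.coe_subgroup_smul]
      exact map_mono hZ
    obtain ⟨z, hz, hzc⟩ := hR.mem_of_two_lt hle (by
      rw [card_map_of_injective (MulAut.conj g).injective]; exact hZc)
    rw [show g⁻¹ * c * g = z by rw [← hzc]; simp [MulAut.conj, mul_assoc]]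
    exact hz
  have h1 : g⁻¹ * c * g ∈ X := map_subtype_le _ (hin _ (le_sup_left.trans hT')
    (by rwa [card_map_of_injective X.subtype_injective]))
  have h2 : g⁻¹ * c * g ∈ Y := map_subtype_le _ (hin _ (le_sup_right.trans hT')
    (by rwa [card_map_of_injective Y.subtype_injective]))
  have h3 : g⁻¹ * c * g ∈ X ⊓ Y := ⟨h1, h2⟩
  rw [hd, mem_bot] at h3
  exact hR.ne (by
    calc c = g * (g⁻¹ * c * g) * g⁻¹ := by group
      _ = 1 := by rw [h3]; group)

/-- The minimal normal subgroup is simple with trivial centraliser. -/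
theorem exists_simple_normal [Nontrivial G] (S : Sylow 2 G) (hR : Rot (S : Subgroup G) R c)
    (hS : NoSolvNormal G) :
    ∃ L : Subgroup G, L.Normal ∧ IsSimpleGroup ↥L ∧ ¬ Group.IsSolvable ↥L ∧
      centralizer (L : Set G) = ⊥ := by
  obtain ⟨L, hL⟩ := exists_minimal_of_wellFoundedLT (fun K : Subgroup G => K.Normal ∧ K ≠ ⊥)
    ⟨⊤, inferInstance, top_ne_bot⟩
  obtain ⟨hLn, hL1⟩ := hL.1
  haveI := hLn
  have hns : ¬ Group.IsSolvable ↥L := fun h => hL1 (hS L hLn h)
  -- solvable normal subgroups of `L`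
  have hLrad : ∀ M : Subgroup ↥L, M.Normal → Group.IsSolvable ↥M → M = ⊥ := by
    intro M hM hMs
    obtain ⟨W, -, hW⟩ := Finite.exists_le_maximal (p := fun K : Subgroup ↥L => K.Normal ∧ Group.IsSolvable ↥K)
      (a := ⊥) ⟨inferInstance, Group.isSolvable_of_comm fun a b => Subsingleton.elim _ _⟩
    obtain ⟨hWn, hWs⟩ := hW.1
    haveI := hWn
    haveI := hWs
    have hmax : ∀ K : Subgroup ↥L, K.Normal → Group.IsSolvable ↥K → K ≤ W := by
      intro K hK hKs
      haveI := hK
      haveI := hKs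
      have hsup : Group.IsSolvable ↥(W ⊔ K) := by
        obtain ⟨J, hJ⟩ : ∃ J : Subgroup ↥(W ⊔ K), J = W.subgroupOf (W ⊔ K) := ⟨_, rfl⟩
        haveI : J.Normal := hJ ▸ inferInstance
        haveI : Group.IsSolvable ↥J := hJ ▸ Group.isSolvable_of_isSolvable_injective
          (f := (subgroupOfEquivOfLe (le_sup_left : W ≤ W ⊔ K)).toMonoidHom) (MulEquiv.injective _)
        have hsurj : Function.Surjective ((QuotientGroup.mk' J).comp (inclusion (le_sup_right : K ≤ W ⊔ K))) := by
          intro q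
          obtain ⟨⟨x, hx⟩, rfl⟩ := QuotientGroup.mk'_surjective J q
          rw [← SetLike.mem_coe, normal_mul] at hx
          obtain ⟨r, hr, k, hk, hrk⟩ := hx
          refine ⟨⟨k, hk⟩, ?_⟩
          rw [MonoidHom.comp_apply]
          refine (QuotientGroup.eq.2 ?_)
          rw [hJ, mem_subgroupOf]
          push_cast
          subst hrk
          simpa [mul_assoc] using hWn.conj_mem r hr k⁻¹
        haveI := Group.isSolvable_of_surjective hsurj
        exact Group.isSolvable_of_ker_le_range J.subtype (QuotientGroup.mk' J)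
          (by rw [QuotientGroup.ker_mk', range_subtype])
      exact le_sup_right.trans (hW.2 ⟨inferInstance, hsup⟩ le_sup_left)
    have hmapn : (W.map L.subtype).Normal := ⟨by
      rintro _ ⟨x, hx, rfl⟩ g
      have hle : W.map (MulAut.conjNormal (H := L) g).toMonoidHom ≤ W := by
        refine hmax _ (hWn.map _ (MulEquiv.surjective _)) ?_
        exact Group.isSolvable_of_surjective
          (f := ((MulAut.conjNormal (H := L) g).subgroupMap W).toMonoidHom) (MulEquiv.surjective _)
      exact ⟨_, hle (mem_map_of_mem _ hx), by simp [MulAut.conjNormal_apply]⟩⟩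
    have hWbot : W = ⊥ := by
      have hs : Group.IsSolvable ↥(W.map L.subtype) :=
        Group.isSolvable_of_surjective (f := (W.equivMapOfInjective L.subtype L.subtype_injective).toMonoidHom)
          (MulEquiv.surjective _)
      exact (map_eq_bot_iff_of_injective W L.subtype_injective).1 (hS _ hmapn hs)
    exact le_bot_iff.1 (hWbot ▸ hmax M hM hMs)
  -- two nontrivial normal subgroups meet
  have hmeet : ∀ M N : Subgroup ↥L, M.Normal → N.Normal → M ⊓ N = ⊥ → M = ⊥ ∨ N = ⊥ := by
    intro M N hM hN hMN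
    by_contra hne
    rw [not_or] at hne
    have hMs : ¬ Group.IsSolvable ↥(M.map L.subtype) := fun h => hne.1 (hLrad M hM
      (haveI := h; Group.isSolvable_of_isSolvable_injective
        (f := (M.equivMapOfInjective L.subtype L.subtype_injective).toMonoidHom) (MulEquiv.injective _)))
    have hNs : ¬ Group.IsSolvable ↥(N.map L.subtype) := fun h => hne.2 (hLrad N hN
      (haveI := h; Group.isSolvable_of_isSolvable_injective
        (f := (N.equivMapOfInjective L.subtype L.subtype_injective).toMonoidHom) (MulEquiv.injective _)))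
    refine no_disjoint S hR ?_ ?_ hMs hNs
    · rintro _ ⟨x, hx, rfl⟩ _ ⟨y, hy, rfl⟩
      exact congrArg Subtype.val (commute_of_normal_of_disjoint M N hM hN (disjoint_iff.2 hMN) x y hx hy).eq
    · rw [← Subgroup.map_inf M N L.subtype L.subtype_injective, hMN, Subgroup.map_bot]
  haveI : Nontrivial ↥L := (nontrivial_iff_ne_bot L).2 hL1
  obtain ⟨M, hM⟩ := exists_minimal_of_wellFoundedLT (fun K : Subgroup ↥L => K.Normal ∧ K ≠ ⊥)
    ⟨⊤, inferInstance, top_ne_bot⟩
  obtain ⟨hMn, hM1⟩ := hM.1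
  have hMle : ∀ N : Subgroup ↥L, N.Normal → N ≠ ⊥ → M ≤ N := by
    intro N hN hN1
    rcases eq_or_ne (M ⊓ N) ⊥ with h | h
    · exact absurd ((hmeet M N hMn hN h).resolve_left hM1) hN1
    · exact (hM.2 ⟨normal_inf_normal M N, h⟩ inf_le_left).trans inf_le_right
  have hMtop : M = ⊤ := by
    have hn : (M.map L.subtype).Normal := ⟨by
      rintro _ ⟨x, hx, rfl⟩ g
      have hle : M ≤ M.map (MulAut.conjNormal (H := L) g).toMonoidHom :=
        hMle _ (hMn.map _ (MulEquiv.surjective _))
          (fun h => hM1 ((map_eq_bot_iff_of_injective M (MulEquiv.injective _)).1 h))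
      have heq := eq_of_le_of_card_ge hle (card_map_of_injective (MulEquiv.injective _)).le
      exact ⟨_, heq.symm ▸ mem_map_of_mem _ hx, by simp [MulAut.conjNormal_apply]⟩⟩
    have := le_antisymm (hL.2 ⟨hn, fun h => hM1 ((map_eq_bot_iff_of_injective M L.subtype_injective).1 h)⟩
      (map_subtype_le M)) (map_subtype_le M)
    exact map_injective L.subtype_injective (by rw [← this, ← MonoidHom.range_eq_map, range_subtype])
  refine ⟨L, hLn, ⟨fun N hN => or_iff_not_imp_left.2 fun hN1 => top_le_iff.1 (hMtop ▸ hMle N hN hN1)⟩, hns, ?_⟩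
  by_contra hC
  have hCn : (centralizer (L : Set G)).Normal := inferInstance
  refine no_disjoint S hR (X := centralizer (L : Set G)) (Y := L)
    (fun x hx y hy => (mem_centralizer_iff.1 hx y hy).symm) ?_ (fun h => hC (hS _ hCn h)) hns
  refine hS _ inferInstance (Group.isSolvable_of_comm fun a b => Subtype.ext ?_)
  exact (mem_centralizer_iff.1 a.2.1 b b.2.2).symm

/-- A noncyclic subgroup is dihedral. -/
theorem exists_dih_of_sub (hR : Rot T R c) {P : Subgroup G} (hP : P ≤ T) (hnc : ¬ IsCyclic P) :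
    ∃ (n : ℕ) (r s : G), DihData P n r s := by
  haveI := hR.cyc
  haveI hcyc : IsCyclic ↥(P ⊓ R) :=
    isCyclic_of_injective (inclusion (inf_le_right : P ⊓ R ≤ R)) (inclusion_injective _)
  obtain ⟨⟨r, hr⟩, hgen⟩ := hcyc.exists_generator
  have hgen' : ∀ x ∈ P, x ∈ R → x ∈ zpowers r := fun x hx hxR => by
    obtain ⟨i, hi⟩ := hgen ⟨x, hx, hxR⟩
    exact ⟨i, by simpa using congrArg Subtype.val hi⟩
  obtain ⟨s, hsP, hsR⟩ : ∃ s ∈ P, s ∉ R := by
    by_contra hno
    push Not at hno
    exact hnc (isCyclic_of_injective (inclusion hno) (inclusion_injective _))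
  have hsr : s ∉ zpowers r := fun h => hsR (zpowers_le.2 hr.2 h)
  have hidx : ((zpowers r).subgroupOf P).index = 2 := by
    refine index_eq_two_iff.2 ⟨⟨s, hsP⟩, fun b => ?_⟩
    simp only [mem_subgroupOf, coe_mul]
    by_cases hb : (b : G) ∈ R
    · refine Or.inr ⟨hgen' b b.2 hb, fun h => hsR ?_⟩
      exact (R.mul_mem_cancel_left hb).1 (zpowers_le.2 hr.2 h)
    · refine Or.inl ⟨hgen' _ (P.mul_mem b.2 hsP) (hR.mul b (hP b.2) s (hP hsP) hb hsR), fun h => hb ?_⟩
      exact zpowers_le.2 hr.2 h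
  have hcard : Nat.card P = 2 * orderOf r := by
    have h := ((zpowers r).subgroupOf P).card_mul_index
    rw [hidx, Nat.card_congr (subgroupOfEquivOfLe (zpowers_le.2 hr.1)).toEquiv, Nat.card_zpowers] at h
    omega
  have hs2 := hR.sq s (hP hsP) hsR
  refine ⟨orderOf r, r, s, ?_, hr.1, hsP, rfl, hs2, ?_, hsr, hcard⟩
  · by_contra h2
    have h1 : orderOf r = 1 := by have := orderOf_pos r; omega
    rw [h1, mul_one] at hcard
    exact hnc (isCyclic_of_prime_card hcard)
  · have h := hR.inv s (hP hsP) hsR r hr.2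
    rwa [hR.inv_self (hP hsP) hsR] at h

/-- Local data of the socle. -/
theorem socle_data [Nontrivial G] (S : Sylow 2 G) (hR : Rot (S : Subgroup G) R c)
    (hO : ∀ N : Subgroup G, N.Normal → Odd (Nat.card N) → N = ⊥) (hns : ¬ Group.IsSolvable G) :
    ∃ L : Subgroup G, L.Normal ∧ IsSimpleGroup ↥L ∧ ¬ Group.IsSolvable ↥L ∧
      centralizer (L : Set G) = ⊥ ∧ c ∈ L ∧ (∃ v ∈ (S : Subgroup G) ⊓ L, v ∉ R) ∧
      (∃ (P : Sylow 2 ↥L) (n : ℕ), (P : Subgroup ↥L).map L.subtype = (S : Subgroup G) ⊓ L ∧ 2 ≤ n ∧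
        Nonempty ((P : Subgroup ↥L) ≃* DihedralGroup n)) ∧
      (∀ a b : ↥L, orderOf a = 2 → orderOf b = 2 → IsConj a b) ∧
      L ⊔ centralizer ({c} : Set G) = ⊤ := by
  haveI : Fact (Nat.Prime 2) := ⟨Nat.prime_two⟩
  obtain ⟨L, hLn, hLs, hLns, hLC⟩ := exists_simple_normal S hR (noSolvNormal S hR hO hns)
  haveI := hLn
  haveI := hLs
  obtain ⟨P, hP⟩ := CfsgLib.Fusion.WeakZJ.exists_sylow_inf S L
  have hPcard := two_lt_card_sylow hLns P
  have hle : (P : Subgroup ↥L).map L.subtype ≤ (S : Subgroup G) := hP.trans_le inf_le_left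
  have hnc : ¬ IsCyclic ↥((P : Subgroup ↥L).map L.subtype) := fun h => hLns
    (CfsgLib.CyclicTwoInt.isSolvable_of_cyclic_sylow P (isCyclic_of_injective
      ((P : Subgroup ↥L).equivMapOfInjective L.subtype L.subtype_injective).toMonoidHom (MulEquiv.injective _)))
  obtain ⟨n, r, s, hd⟩ := exists_dih_of_sub hR hle hnc
  obtain ⟨e'⟩ := hd.equiv
  let e := ((P : Subgroup ↥L).equivMapOfInjective L.subtype L.subtype_injective).trans e'
  have hcm : c ∈ (P : Subgroup ↥L).map L.subtype :=
    hR.mem_of_two_lt hle (by rwa [card_map_of_injective L.subtype_injective])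
  have hcL : c ∈ L := map_subtype_le _ hcm
  have hna : ¬ IsMulCommutative ↥L := fun h =>
    hLns (Group.isSolvable_of_comm fun a b => h.is_comm.comm a b)
  obtain ⟨k, hk⟩ := IsPGroup.iff_card.1 P.isPGroup'
  have hcn : 2 * n = 2 ^ k := by rw [← DihedralGroup.nat_card, ← Nat.card_congr e.toEquiv, hk]
  obtain ⟨a, ha⟩ : ∃ a, n = 2 ^ (a + 1) := by
    have hn2 := hd.1
    rcases k with _ | _ | k
    · simp at hcn
    · omega
    · exact ⟨k, by rw [pow_succ] at hcn; omega⟩
  have hone : ∀ a b : ↥L, orderOf a = 2 → orderOf b = 2 → IsConj a b := fun x y hx hy =>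
    (CfsgLib.SmallCent.dihedral_fused hna P ha e hx).trans (CfsgLib.SmallCent.dihedral_fused hna P ha e hy).symm
  refine ⟨L, hLn, hLs, hLns, hLC, hcL, ?_, ⟨P, n, hP, hd.1, ⟨e⟩⟩, hone, ?_⟩
  · obtain ⟨-, -, hsP, -, -, -, -, -⟩ := hd
    by_contra hno
    push Not at hno
    haveI := hR.cyc
    have hle' : (P : Subgroup ↥L).map L.subtype ≤ R := fun x hx => hno x (hP ▸ hx)
    exact hnc (isCyclic_of_injective (inclusion hle') (inclusion_injective _))
  · refine eq_top_iff.2 fun g _ => ?_
    have h1 : g * c * g⁻¹ ∈ L := hLn.conj_mem c hcL g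
    obtain ⟨l, hl⟩ := isConj_iff.1 (hone ⟨_, h1⟩ ⟨c, hcL⟩
      (by rw [orderOf_mk, orderOf_conj_eq]; exact hR.orderOf_c) (by rw [orderOf_mk]; exact hR.orderOf_c))
    have hl' : (l : G) * (g * c * g⁻¹) * (l : G)⁻¹ = c := congrArg Subtype.val hl
    have hm : (l : G) * g ∈ centralizer ({c} : Set G) := by
      refine mem_centralizer_singleton_iff.2 (mul_inv_eq_iff_eq_mul.1 ?_)
      rw [mul_inv_rev]
      simpa [mul_assoc] using hl'
    rw [show g = (l : G)⁻¹ * ((l : G) * g) by group]
    exact mul_mem_sup (inv_mem l.2) hm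

/-- Generated over the socle by involutions: no field automorphisms. -/
theorem psl_or_pgl_of_closure {F : Type} [Field F] [Fintype F] (h8 : NoEight G) {L : Subgroup G}
    [L.Normal] (e : ↥L ≃* Matrix.ProjectiveSpecialLinearGroup (Fin 2) F)
    (hC : centralizer (L : Set G) = ⊥) (hFo : Odd (Fintype.card F))
    (hgen : ⊤ ≤ L ⊔ closure {u : G | u * u = 1}) :
    Nonempty (G ≃* Matrix.ProjectiveSpecialLinearGroup (Fin 2) F) ∨
      Nonempty (G ≃* Matrix.ProjGenLinGroup (Fin 2) F) := by
  open CfsgLib.Recognition.CycNorm CfsgLib.PSLAut Matrix CfsgLib.Classical22.PGLMax in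
  haveI := finite_ringAut (F := F)
  have h2 : (2 : F) ≠ 0 := by
    refine Ring.two_ne_zero fun h => ?_
    have := FiniteField.even_card_iff_char_two.1 h
    obtain ⟨c, hc⟩ := hFo
    omega
  obtain ⟨ψ, -, hψ⟩ := exists_aut_hom_two (F := F) (n := 2) rfl
  have hproj : ∀ g, actHom L e g ∈ (conjAut : GL (Fin 2) F →* MulAut _).range := by
    intro g
    rw [← hψ, MonoidHom.mem_ker]
    have hle : L ⊔ closure {u : G | u * u = 1} ≤ (ψ.comp (actHom L e)).ker := by
      refine sup_le (fun l hl => ?_) ((closure_le _).2 fun u hu => ?_)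
      · rw [MonoidHom.mem_ker, MonoidHom.comp_apply, ← MonoidHom.mem_ker, hψ, actHom_mem L e hl]
        obtain ⟨A, hA⟩ := QuotientGroup.mk'_surjective _ (e ⟨l, hl⟩)
        rw [← hA]
        exact ⟨_, (conj_eq_conjAut A).symm⟩
      · exact field_invol h8 e h2 ψ hψ hu
    exact hle (hgen (mem_top g))
  haveI := CfsgLib.Classical22.PGLMax.finite_pgl (F := F)
  let ι : Matrix.ProjGenLinGroup (Fin 2) F →* MulAut (Matrix.ProjectiveSpecialLinearGroup (Fin 2) F) :=
    QuotientGroup.lift _ conjAut (ker_conjAut (F := F) (le_refl 2)).ge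
  have hι : Function.Injective ι := by
    rw [injective_iff_map_eq_one]
    intro x
    induction x using QuotientGroup.induction_on with | _ A =>
    intro h
    exact (QuotientGroup.eq_one_iff A).2 (ker_conjAut (F := F) (le_refl 2) ▸ MonoidHom.mem_ker.2 h)
  set H := (actHom L e).range.comap ι
  have hmap : H.map ι = (actHom L e).range := by
    rw [Subgroup.map_comap_eq_self]
    rintro _ ⟨g, rfl⟩
    obtain ⟨M, hM⟩ := hproj g
    exact ⟨Matrix.ProjGenLinGroup.mk M, hM⟩
  let eH : G ≃* H := ((MonoidHom.ofInjective (actHom_injective e hC)).trans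
    (MulEquiv.subgroupCongr hmap.symm)).trans (H.equivMapOfInjective ι hι).symm
  have hle : pslImage F ≤ H := by
    rw [← range_comp_toGL]
    rintro _ ⟨A, rfl⟩
    refine ⟨(e.symm (QuotientGroup.mk A) : ↥L), ?_⟩
    rw [actHom_mem L e (e.symm (QuotientGroup.mk A)).2, Subtype.coe_eta, MulEquiv.apply_symm_apply]
    exact conj_eq_conjAut A
  have hidx : H.index ∣ 2 := by
    have hodd' : Fintype.card F % 2 = 1 := Nat.odd_iff.1 hFo
    have hdvd : H.index ∣ (pslImage F).index := Subgroup.index_dvd_of_le hle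
    rwa [(card_pslImage (F := F) rfl hodd').2] at hdvd
  rcases (Nat.dvd_prime Nat.prime_two).1 hidx with h | h
  · exact Or.inr ⟨eH.trans ((MulEquiv.subgroupCongr (Subgroup.index_eq_one.1 h)).trans Subgroup.topEquiv)⟩
  · have heq : H = pslImage F := by
      refine (Subgroup.eq_of_le_of_card_ge hle ?_).symm
      have h1 := Subgroup.card_mul_index H
      have h3 := Subgroup.card_mul_index (pslImage F)
      rw [h] at h1
      rw [(card_pslImage rfl (Nat.odd_iff.1 hFo)).2] at h3
      omega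
    exact Or.inl ⟨eH.trans ((MulEquiv.subgroupCongr heq).trans
      (MonoidHom.ofInjective (Matrix.ProjectiveSpecialLinearGroup.toPGL_injective (n := Fin 2) (R := F))).symm)⟩

theorem noEight_of_rot (S : Sylow 2 G) (hR : Rot (S : Subgroup G) R c) (hns : ¬ Group.IsSolvable G) :
    NoEight G := by
  obtain ⟨n, r, s, hd⟩ := exists_dih_of_sub hR le_rfl
    (fun h => hns (CfsgLib.CyclicTwoInt.isSolvable_of_cyclic_sylow S h))
  exact CfsgLib.Recognition.CycNorm.noEight_of_dih S hd

/-- The conclusion from the isomorphism type of the socle. -/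
theorem target_of_psl (S : Sylow 2 G) (hR : Rot (S : Subgroup G) R c) (hns : ¬ Group.IsSolvable G)
    {L : Subgroup G} [L.Normal] (hLns : ¬ Group.IsSolvable ↥L) (hLC : centralizer (L : Set G) = ⊥)
    (hsup : L ⊔ centralizer ({c} : Set G) = ⊤)
    (hgen : centralizer ({c} : Set G) ≤ closure {u : G | u * u = 1}) {F : Type} [Field F] [Fintype F]
    (hFo : Odd (Fintype.card F)) (e : ↥L ≃* Matrix.ProjectiveSpecialLinearGroup (Fin 2) F) : TargetEq G := by
  refine ⟨F, inferInstance, inferInstance, ?_,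
    psl_or_pgl_of_closure (noEight_of_rot S hR hns) e hLC hFo (hsup.ge.trans (sup_le_sup_left hgen L))⟩
  by_contra h3
  refine hLns (CfsgLib.InvolChar.A8Normalizer.isSolvable_of_card_lt_sixty ?_)
  rw [Nat.card_congr e.toEquiv]
  refine lt_of_le_of_lt (CfsgLib.Classical.Dickson.card_psl_le (F := F) rfl) ?_
  have h1 : Fintype.card F ≤ 3 := by omega
  calc Fintype.card F * ((Fintype.card F - 1) * (Fintype.card F + 1)) ≤ 3 * ((3 - 1) * (3 + 1)) := by gcongr
    _ < 60 := by norm_num

end CfsgLib.DihCore.Red
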