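import Cfsg.Agent.Lib.DihCore.RedSplit

/-!
# The cyclic branch: reduction modulo the odd core
-/

set_option autoImplicit false
set_option linter.unusedSectionVars false

namespace CfsgLib.DihCore.Red

open Subgroup
open CfsgLib.Invol (orderOf_conj_eq orderOf_eq_two_iff' ne_one_of_orderOf_two inv_eq_of_orderOf_two)

universe u

/-- The semidihedral case, as a proposition. -/
def QuasiStep : Prop :=
  ∀ (Q : Type u) [Group Q] [Finite Q] (T : Sylow 2 Q), Cfsg.IsQuasiDihedral (T : Subgroup Q) →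
    ∀ (A : Subgroup Q) (x t : Q), Cent A x t → t ∈ (T : Subgroup Q) →
      (∀ N : Subgroup Q, N.Normal → Odd (Nat.card N) → N = ⊥) → ¬ Group.IsSolvable Q → Target Q

variable {G : Type u} [Group G] [Finite G] {A : Subgroup G} {x t : G}

theorem target_of_targetEq (h : TargetEq G) : Target G := by
  obtain ⟨F, iF, iF', h3, h' | h'⟩ := h
  · exact ⟨⊥, inferInstance, Or.inl (by simp), F, iF, iF', h3,
      Or.inl (h'.map QuotientGroup.quotientBot.trans)⟩
  · exact ⟨⊥, inferInstance, Or.inl (by simp), F, iF, iF', h3,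
      Or.inr (h'.map QuotientGroup.quotientBot.trans)⟩

/-- Reduced groups. -/
theorem target_of_reduced (hq : QuasiStep.{u}) (h : Cent A x t)
    (hO : ∀ N : Subgroup G, N.Normal → Odd (Nat.card N) → N = ⊥) (hns : ¬ Group.IsSolvable G) :
    Target G := by
  haveI : Fact (Nat.Prime 2) := ⟨Nat.prime_two⟩
  obtain ⟨T, htT, hcase⟩ := exists_data h
  rcases hcase with hcomm | ⟨hnc, hA2, hsmall, hcard, hT4⟩
  · exact target_of_targetEq (target_of_central_case h T htT hcomm hO hns)
  rcases Cfsg.Agent.S3224.result T.isPGroup' ⟨t, htT⟩ (by rw [orderOf_mk]; exact h.ht) (hcard _ rfl) with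
    ⟨n, ⟨e⟩⟩ | hQD | h4
  · exact target_of_targetEq (target_of_dihedral h hO hns T n e)
  · exact hq G T hQD A x t h htT hO hns
  · omega

/-- Lifting the conclusion over an odd normal subgroup. -/
theorem target_lift (K : Subgroup G) [K.Normal] (hK : Odd (Nat.card K)) (h : Target (G ⧸ K)) :
    Target G := by
  obtain ⟨N, hN, hcard, F, iF, iF', h3, hiso⟩ := h
  haveI := hN
  obtain ⟨M, hM⟩ : ∃ M, M = N.comap (QuotientGroup.mk' K) := ⟨_, rfl⟩
  haveI : M.Normal := hM ▸ hN.comap _
  have hKM : K ≤ M := fun k hk => by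
    rw [hM, mem_comap, QuotientGroup.mk'_apply, (QuotientGroup.eq_one_iff k).2 hk]; exact one_mem N
  have hmap : M.map (QuotientGroup.mk' K) = N :=
    hM ▸ map_comap_eq_self_of_surjective (QuotientGroup.mk'_surjective K) N
  have hMcard : Nat.card M = Nat.card K * Nat.card N := hM ▸ CfsgLib.Solvable.card_comap_mk' K N
  have e : G ⧸ M ≃* (G ⧸ K) ⧸ N :=
    (QuotientGroup.quotientQuotientEquivQuotient K M hKM).symm.trans
      (QuotientGroup.quotientMulEquivOfEq hmap)
  refine ⟨M, inferInstance, ?_, F, iF, iF', h3, hiso.imp (fun h => h.map e.trans) (fun h => h.map e.trans)⟩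
  rcases hcard with h1 | ⟨m, hm, h1⟩
  · exact Or.inl (hMcard ▸ hK.mul h1)
  · exact Or.inr ⟨Nat.card K * m, hK.mul hm, by rw [hMcard, h1]; ring⟩

/-- **The cyclic branch.** -/
theorem target_of_cent (hq : QuasiStep.{u}) (h : Cent A x t) (hns : ¬ Group.IsSolvable G) : Target G := by
  haveI : Fact (Nat.Prime 2) := ⟨Nat.prime_two⟩
  obtain ⟨K, -, hK⟩ := Finite.exists_le_maximal (p := fun N : Subgroup G => N.Normal ∧ Odd (Nat.card N))
    (a := ⊥) ⟨inferInstance, by simp⟩
  obtain ⟨hKn, hKodd⟩ := hK.1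
  haveI := hKn
  have hOq : ∀ N : Subgroup (G ⧸ K), N.Normal → Odd (Nat.card N) → N = ⊥ := by
    intro N hN hodd
    have hle := hK.2 (y := N.comap (QuotientGroup.mk' K))
      ⟨hN.comap _, (CfsgLib.Solvable.card_comap_mk' K N).symm ▸ hKodd.mul hodd⟩
      (fun k hk => by
        rw [mem_comap, QuotientGroup.mk'_apply, (QuotientGroup.eq_one_iff k).2 hk]; exact one_mem N)
    refine (eq_bot_iff_forall N).2 fun q hq => ?_
    obtain ⟨g, rfl⟩ := QuotientGroup.mk'_surjective K q
    exact (QuotientGroup.eq_one_iff g).2 (hle hq)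
  have hord : ∀ g : G, orderOf g = 2 → orderOf (QuotientGroup.mk' K g) = 2 := fun g hg =>
    orderOf_eq_two_iff'.2 ⟨CfsgLib.Invol.map_ne_one_of_odd hg K hKodd,
      by rw [← map_mul, (orderOf_eq_two_iff'.1 hg).2, map_one]⟩
  have hh : Cent (A.map (QuotientGroup.mk' K)) (QuotientGroup.mk' K x) (QuotientGroup.mk' K t) :=
    { comm := by
        rintro _ ⟨a, ha, rfl⟩ _ ⟨b, hb, rfl⟩
        rw [← map_mul, h.comm a ha b hb, map_mul]
      hx := hord x h.hx
      hxA := by
        rintro ⟨a, ha, hax⟩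
        have hm : x * a⁻¹ ∈ K := by
          rw [← QuotientGroup.eq_one_iff]
          show QuotientGroup.mk' K (x * a⁻¹) = 1
          rw [map_mul, map_inv, hax, mul_inv_cancel]
        have h2 : x * a⁻¹ * (x * a⁻¹) = 1 := by
          have h1 := h.inv a⁻¹ (inv_mem ha)
          rw [inv_inv, h.x_inv] at h1
          calc x * a⁻¹ * (x * a⁻¹) = x * a⁻¹ * x * a⁻¹ := by group
            _ = 1 := by rw [h1, mul_inv_cancel]
        have h3 : x * a⁻¹ = 1 := by
          have hd : orderOf (x * a⁻¹) ∣ 2 := orderOf_dvd_of_pow_eq_one (by rw [sq]; exact h2)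
          have ho : Odd (orderOf (x * a⁻¹)) := hKodd.of_dvd_nat (Subgroup.orderOf_dvd_natCard K hm)
          exact orderOf_eq_one_iff.1 (Nat.eq_one_of_dvd_coprimes (Nat.coprime_two_left.2 ho) hd dvd_rfl)
        exact h.hxA (mul_inv_eq_one.1 h3 ▸ ha)
      inv := by
        rintro _ ⟨a, ha, rfl⟩
        rw [← map_mul, ← map_inv, ← map_mul, h.inv a ha, map_inv]
      ht := hord t h.ht
      htA := mem_map_of_mem _ h.htA
      uniq := by
        rintro _ ⟨a, ha, rfl⟩ h2
        rw [← map_mul, QuotientGroup.mk'_apply, QuotientGroup.eq_one_iff] at h2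
        have ho : Odd (orderOf (a * a)) := hKodd.of_dvd_nat (Subgroup.orderOf_dvd_natCard K h2)
        obtain ⟨m, hm⟩ := ho
        have h3 : a ^ (2 * m + 1) * a ^ (2 * m + 1) = 1 := by
          rw [← (Commute.refl a).mul_pow, ← hm, pow_orderOf_eq_one]
        have h4 : QuotientGroup.mk' K a = QuotientGroup.mk' K (a ^ (2 * m + 1)) := by
          rw [pow_succ, pow_mul, map_mul, map_pow, sq, show QuotientGroup.mk' K (a * a) = 1 from
            (QuotientGroup.eq_one_iff _).2 h2, one_pow, one_mul]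
        rw [h4]
        exact (h.uniq _ (pow_mem ha _) h3).imp (fun e => by rw [e, map_one]) (fun e => by rw [e])
      hC := by
        rw [QuotientGroup.mk'_apply,
          CfsgLib.Blocks.FourGroupBound.centralizer_mk_eq K hKodd (orderOf_eq_two_iff'.1 h.ht).2, h.hC, Subgroup.map_sup,
          MonoidHom.map_zpowers] }
  exact target_lift K hKodd (target_of_reduced hq hh hOq fun hs => hns (isSolvable_of_odd_normal K hKodd hs))

end CfsgLib.DihCore.Red
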