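import Cfsg.Agent.Lib.Transfer.PlaneSL2
import Cfsg.Agent.Lib.Transfer.Plane
import Cfsg.Agent.Lib.PStab.Fusion
import Cfsg.Agent.Lib.Invol.Dihedral

/-!
Groups whose Sylow 2-subgroups are dihedral (or cyclic) are stable for every odd prime.
-/

set_option autoImplicit false

namespace CfsgLib.DihCore

open Subgroup

variable {G : Type*} [Group G]

/-- A subgroup with a cyclic part outside of which all elements square to one. -/
def RotLike (P : Subgroup G) : Prop :=
  ∃ c ∈ P, ∀ x ∈ P, x ∉ zpowers c → x * x = 1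

theorem rotLike_top_of_dihedral {n : ℕ} :
    RotLike (⊤ : Subgroup (DihedralGroup n)) := by
  refine ⟨DihedralGroup.r 1, mem_top _, fun x _ hx => ?_⟩
  cases x with
  | r i =>
    exfalso
    refine hx (mem_zpowers_iff.2 ⟨(ZMod.cast i : ℤ), ?_⟩)
    rw [DihedralGroup.r_one_zpow, ZMod.intCast_zmod_cast]
  | sr i => exact DihedralGroup.sr_mul_self i

theorem RotLike.map {H : Type*} [Group H] {P : Subgroup G} (h : RotLike P) (f : G →* H) :
    RotLike (P.map f) := by
  obtain ⟨c, hc, hout⟩ := h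
  refine ⟨f c, mem_map_of_mem f hc, ?_⟩
  rintro _ ⟨x, hx, rfl⟩ hnot
  have hxc : x ∉ zpowers c := fun hm => hnot (by
    obtain ⟨i, rfl⟩ := mem_zpowers_iff.1 hm
    rw [map_zpow]; exact zpow_mem (mem_zpowers _) i)
  rw [← map_mul, hout x hx hxc, map_one]

theorem RotLike.mono {P Q : Subgroup G} (h : RotLike P) (hQ : Q ≤ P) : RotLike Q := by
  obtain ⟨c, hc, hout⟩ := h
  obtain ⟨d, hd⟩ : ∃ d : G, zpowers d = Q ⊓ zpowers c := by
    haveI : IsCyclic ↥(Q ⊓ zpowers c) := Subgroup.isCyclic_of_le (inf_le_right : Q ⊓ zpowers c ≤ zpowers c)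
    obtain ⟨⟨d, hd⟩, hgen⟩ := IsCyclic.exists_zpow_surjective (G := ↥(Q ⊓ zpowers c))
    refine ⟨d, le_antisymm (zpowers_le.2 hd) fun x hx => ?_⟩
    obtain ⟨i, hi⟩ := hgen ⟨x, hx⟩
    exact mem_zpowers_iff.2 ⟨i, congrArg Subtype.val hi⟩
  have hdQ : d ∈ Q := ((le_of_eq hd) (mem_zpowers d)).1
  refine ⟨d, hdQ, fun x hx hxd => hout x (hQ hx) fun hxc => hxd ?_⟩
  rw [hd]; exact ⟨hx, hxc⟩

theorem RotLike.of_sylow [Finite G] {p : ℕ} [Fact p.Prime] {S : Sylow p G} (h : RotLike (S : Subgroup G))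
    {P : Subgroup G} (hP : IsPGroup p P) : RotLike P := by
  obtain ⟨T, hT⟩ := hP.exists_le_sylow
  obtain ⟨g, hg⟩ := MulAction.exists_smul_eq G S T
  refine RotLike.mono ?_ hT
  have hmap := h.map (MulAut.conj g).toMonoidHom
  rwa [← CfsgLib.Solvable.conj_smul_eq_map, ← Sylow.coe_subgroup_smul, hg] at hmap

theorem rotLike_of_dihedral {n : ℕ} {P : Subgroup G} (e : P ≃* DihedralGroup n) : RotLike P := by
  have h := ((rotLike_top_of_dihedral (n := n)).map e.symm.toMonoidHom).map P.subtype
  rwa [map_top_of_surjective _ e.symm.surjective, ← MonoidHom.range_eq_map, range_subtype] at h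

/-- A rotation-like 2-group with at most one involution is cyclic. -/
theorem RotLike.isCyclic_of_unique {P : Subgroup G} (h : RotLike P) (hP : IsPGroup 2 P)
    (hu : ∀ x ∈ P, ∀ y ∈ P, orderOf x = 2 → orderOf y = 2 → x = y) : IsCyclic P := by
  obtain ⟨c, hc, hout⟩ := h
  by_cases hall : ∀ x ∈ P, x ∈ zpowers c
  · exact Subgroup.isCyclic_of_le (show P ≤ zpowers c from hall)
  push Not at hall
  obtain ⟨x, hx, hxc⟩ := hall
  have hx1 : x ≠ 1 := fun e => hxc (e ▸ one_mem _)
  have hxo : orderOf x = 2 := orderOf_eq_prime (by rw [pow_two]; exact hout x hx hxc) hx1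
  -- the cyclic part is trivial, so every element is `1` or `x`
  have hc1 : c = 1 := by
    by_contra hne
    haveI : Fact (Nat.Prime 2) := ⟨Nat.prime_two⟩
    obtain ⟨k, hk⟩ := IsPGroup.iff_orderOf.1 hP ⟨c, hc⟩
    rw [Subgroup.orderOf_mk] at hk
    obtain ⟨l, rfl⟩ : ∃ l, k = l + 1 := ⟨k - 1, by
      rcases Nat.eq_zero_or_pos k with rfl | h0
      · rw [pow_zero, orderOf_eq_one_iff] at hk; exact absurd hk hne
      · omega⟩
    have hz : orderOf (c ^ 2 ^ l) = 2 := by
      rw [orderOf_pow_of_dvd (by positivity) ⟨2, by rw [hk, pow_succ]⟩, hk, pow_succ']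
      exact Nat.mul_div_cancel _ (by positivity)
    exact hxc (hu x hx _ (pow_mem hc _) hxo hz ▸ pow_mem (mem_zpowers c) _)
  have hle : P ≤ zpowers x := fun y hy => by
    by_cases hy1 : y = 1
    · exact hy1 ▸ one_mem _
    have hyc : y ∉ zpowers c := fun hm => hy1 (by rwa [hc1, zpowers_one_eq_bot, mem_bot] at hm)
    rw [hu y hy x hx (orderOf_eq_prime (by rw [pow_two]; exact hout y hy hyc) hy1) hxo]
    exact mem_zpowers x
  exact Subgroup.isCyclic_of_le hle

section
open Matrix
open scoped MatrixGroups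
open CfsgLib.Transfer

variable {p : ℕ} [hp : Fact p.Prime] {X : Type*} [Group X] [Finite X]

local notation "KK" => AlgebraicClosure (ZMod p)

theorem false_of_rotLike {ρ : X →* Matrix (Fin 2) (Fin 2) KK} {A B : X} {c : KK}
    (hp2 : p ≠ 2) (h : StdPair ρ A B c)
    (hrot : ∀ T : Sylow 2 X, RotLike (T : Subgroup X)) : False := by
  set φ := toSL2 ρ h.det_eq_one
  have : Finite φ.range := Finite.of_surjective φ.rangeRestrict φ.rangeRestrict_surjective
  set σ := φ.range.subtype
  have hσi : Function.Injective σ := φ.range.subtype_injective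
  have hnot : ¬ Odd (Nat.card φ.range) := fun ho => by
    have := lower_eq_zero_of_odd ho σ hσi (e := φ.rangeRestrict A) h.ne
      (by show ρ A = _; exact h.mapA) (φ.rangeRestrict B)
    change ρ B 1 0 = 0 at this
    rw [h.mapB] at this
    simp at this
  rw [Nat.not_odd_iff_even] at hnot
  obtain ⟨T₀⟩ : Nonempty (Sylow 2 X) := inferInstance
  let T := T₀.mapSurjective (f := φ.rangeRestrict) φ.rangeRestrict_surjective
  have hrotT : RotLike (T : Subgroup φ.range) := (hrot T₀).map φ.rangeRestrict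
  have hcyc : IsCyclic (T : Subgroup φ.range) := by
    refine hrotT.isCyclic_of_unique T.2 fun x _ y _ hx hy => ?_
    have key : ∀ z : φ.range, orderOf z = 2 → (z : SL(2, KK)).1 = -1 := by
      intro z hz
      have h2 : z ^ 2 = 1 := orderOf_dvd_iff_pow_eq_one.1 hz.dvd
      have h2' := congrArg (fun w : φ.range => (w : SL(2, KK)).1) h2
      simp only [SubmonoidClass.coe_pow, OneMemClass.coe_one,
        Matrix.SpecialLinearGroup.coe_pow, Matrix.SpecialLinearGroup.coe_one] at h2'
      rw [pow_two] at h2'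
      rcases sl2_eq_of_sq_eq_one (two_ne_zero_of_ne_two hp2) (z : SL(2, KK)).2 h2' with h1 | h1
      · exfalso
        have : z = 1 := Subtype.ext (Subtype.ext h1)
        rw [this, orderOf_one] at hz
        exact absurd hz (by norm_num)
      · exact h1
    exact Subtype.ext (Subtype.ext ((key x hx).trans (key y hy).symm))
  obtain ⟨ψ, hψ, hodd⟩ := Invol.exists_retraction_of_cyclic_sylow_two T hcyc hnot
  have hord : ∀ x : X, ρ x ^ p = 1 → ψ (φ.rangeRestrict x) = 1 := by
    intro x hx
    refine (hodd _).2 ((hp.out.odd_of_ne_two hp2).of_dvd_nat (orderOf_dvd_of_pow_eq_one ?_))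
    exact Subtype.ext (Subtype.ext (by
      show ((φ x : SL(2, KK)) ^ p : SL(2, KK)).1 = 1
      rw [Matrix.SpecialLinearGroup.coe_pow]
      exact hx))
  have hall : ∀ z, ψ z = 1 := by
    intro z
    obtain ⟨x, rfl⟩ := φ.rangeRestrict_surjective z
    have hle : Subgroup.closure ({A, B} : Set X) ≤ (ψ.comp φ.rangeRestrict).ker := by
      rw [Subgroup.closure_le]
      rintro _ (rfl | rfl)
      · refine hord _ ?_
        rw [h.mapA, unipotent_pow, CharP.cast_eq_zero, zero_mul, Matrix.one_fin_two]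
      · refine hord _ ?_
        have e : ∀ m : ℕ, (!![1, 0; 1, 1] : Matrix (Fin 2) (Fin 2) KK) ^ m = !![1, 0; (m : KK), 1] := by
          intro m
          induction m with
          | zero => simp [Matrix.one_fin_two]
          | succ m ih => rw [pow_succ, ih]; simp
        rw [h.mapB, e, CharP.cast_eq_zero, Matrix.one_fin_two]
    exact hle (h.gen ▸ Subgroup.mem_top x)
  obtain ⟨w, hw⟩ := exists_prime_orderOf_dvd_card' (G := φ.range) 2 hnot.two_dvd
  have := (hodd w).1 (hall w)
  rw [hw] at this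
  exact absurd this (by decide)

/-- A group with a rotation-like Sylow 2-subgroup is stable for odd primes. -/
theorem stableAll_of_rotLike {H : Type*} [Group H] [Finite H] (hp2 : p ≠ 2) (S : Sylow 2 H)
    (h : RotLike (S : Subgroup H)) : PStab.StableAll p H := by
  refine Transfer.stableAll_of_stdFree fun Y ρ A B c hstd => false_of_rotLike hp2 hstd fun T => ?_
  have hT : RotLike ((T : Subgroup Y).map Y.subtype) := h.of_sylow (T.2.map _)
  obtain ⟨d, ⟨d', hd', rfl⟩, hout⟩ := hT
  refine ⟨d', hd', fun x hx hxd => Y.subtype_injective ?_⟩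
  rw [map_mul, map_one]
  refine hout _ (mem_map_of_mem _ hx) fun hm => hxd ?_
  obtain ⟨i, hi⟩ := mem_zpowers_iff.1 hm
  exact mem_zpowers_iff.2 ⟨i, Y.subtype_injective (by rw [map_zpow]; exact hi)⟩

end

end CfsgLib.DihCore
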